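import Mathlib
import Cfsg.Agent.Misc.Zsigmondy
import Cfsg.Agent.Grp.Fitting
import Cfsg.Agent.FT.RepHH

/-!
# One-dimensional semilinear groups

A finite linear group over `ZMod p` with an abelian normal irreducible subgroup consists of
semilinear maps of a field structure; elements whose order is a primitive prime divisor are
irreducible; solvable groups in which such an element centralizes the Fitting subgroup.
-/

set_option autoImplicit false
set_option linter.unusedSectionVars false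

namespace Cfsg.Agent.Perm.SemiLin

open Module Cfsg
open scoped commutatorElement

variable {p : ℕ} [Fact p.Prime] {V : Type*} [AddCommGroup V] [Module (ZMod p) V] [Finite V]

/-- A finite module that is irreducible for a commuting set of operators is a field on which all
operators commuting with the set act by multiplications. -/
theorem exists_field_structure (S : Set (End (ZMod p) V)) (hcomm : ∀ a ∈ S, ∀ b ∈ S, a * b = b * a)
    (hirr : ∀ W : Submodule (ZMod p) V, (∀ s ∈ S, ∀ v ∈ W, s v ∈ W) → W = ⊥ ∨ W = ⊤)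
    {v₀ : V} (hv₀ : v₀ ≠ 0) {n : ℕ} (hn : Nat.card V = p ^ n) :
    ∃ f : V ≃ₗ[ZMod p] GaloisField p n, f v₀ = 1 ∧
      ∀ a : End (ZMod p) V, (∀ s ∈ S, a * s = s * a) → ∀ v, f (a v) = f (a v₀) * f v := by
  let R := Algebra.adjoin (ZMod p) S
  have hR := Algebra.isMulCommutative_adjoin (ZMod p) hcomm
  have hc : ∀ a b : R, a * b = b * a := fun a b => hR.is_comm.comm a b
  let ev : R →ₗ[ZMod p] V := (LinearMap.applyₗ v₀).comp R.val.toLinearMap
  have hev : ∀ r : R, ev r = (r : Module.End (ZMod p) V) v₀ := fun _ => rfl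
  have hsurj : Function.Surjective ev := by
    rw [← LinearMap.range_eq_top]
    refine (hirr _ ?_).resolve_left fun e => hv₀ ?_
    · rintro s hs _ ⟨r, rfl⟩
      exact ⟨⟨s, Algebra.subset_adjoin hs⟩ * r, rfl⟩
    · have : v₀ ∈ LinearMap.range ev := ⟨1, rfl⟩
      rwa [e, Submodule.mem_bot] at this
  have hker : ∀ r : R, r ≠ 0 → ∀ v, (r : Module.End (ZMod p) V) v = 0 → v = 0 := by
    intro r hr v hv
    have := (hirr (LinearMap.ker (r : Module.End (ZMod p) V)) fun s hs w hw => by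
      rw [LinearMap.mem_ker] at hw ⊢
      have h1 := congrArg (fun x : R => (x : Module.End (ZMod p) V) w)
        (hc r ⟨s, Algebra.subset_adjoin hs⟩)
      simp only [Subalgebra.coe_mul, Module.End.mul_apply, hw, map_zero] at h1
      exact h1).resolve_right fun e => hr (Subtype.ext (LinearMap.ker_eq_top.1 e))
    have h2 : v ∈ LinearMap.ker (r : Module.End (ZMod p) V) := hv
    rwa [this, Submodule.mem_bot] at h2
  have hinj : Function.Injective ev := by
    rw [← LinearMap.ker_eq_bot, eq_bot_iff]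
    intro r hr
    by_contra h
    exact hv₀ (hker r h v₀ hr)
  have hfin : Finite R := Finite.of_injective _ hinj
  let _ : CommRing R := { (inferInstance : Ring R) with mul_comm := hc }
  have hnt : Nontrivial R := ⟨0, 1, fun e => hv₀ (by simpa [hev] using (congrArg ev e).symm)⟩
  have hnz : NoZeroDivisors R := ⟨fun {a b} hab => by
    by_contra h
    rw [not_or] at h
    refine hv₀ (hker b h.2 _ (hker a h.1 _ ?_))
    rw [← Module.End.mul_apply, ← Subalgebra.coe_mul, hab]
    rfl⟩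
  have hdom : IsDomain R := NoZeroDivisors.to_isDomain R
  let _ : Field R := (Finite.isField_of_domain R).toField
  let e := LinearEquiv.ofBijective ev ⟨hinj, hsurj⟩
  let g := GaloisField.algEquivGaloisField p n ((Nat.card_congr e.toEquiv).trans hn)
  have key : ∀ r t : R, (e.symm.trans g.toLinearEquiv) ((r : End (ZMod p) V) (e t))
      = (e.symm.trans g.toLinearEquiv) (e r) * (e.symm.trans g.toLinearEquiv) (e t) := by
    intro r t
    have h1 : (r : End (ZMod p) V) (e t) = e (r * t) := rfl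
    rw [h1]
    simp only [LinearEquiv.trans_apply, LinearEquiv.symm_apply_apply]
    exact map_mul g _ _
  refine ⟨e.symm.trans g.toLinearEquiv, ?_, fun a ha v => ?_⟩
  · have : e.symm v₀ = 1 := e.symm_apply_eq.2 rfl
    rw [LinearEquiv.trans_apply, this]
    exact map_one g
  · obtain ⟨t, rfl⟩ := e.surjective v
    obtain ⟨r, hr⟩ := e.surjective (a v₀)
    have h1 : a * (t : End (ZMod p) V) = t * a :=
      Algebra.commute_of_mem_adjoin_of_forall_mem_commute t.2 ha
    have h2 : a (e t) = (r : End (ZMod p) V) (e t) := by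
      have h3 : a (e t) = (t : End (ZMod p) V) (a v₀) := LinearMap.congr_fun h1 v₀
      rw [h3, ← hr]
      exact congrArg (fun x : R => (x : End (ZMod p) V) v₀) (hc t r)
    rw [h2, key, hr]

/-- Operators commuting with a commuting irreducible set commute with each other. -/
theorem comm_of_irr (S : Set (End (ZMod p) V)) (hcomm : ∀ a ∈ S, ∀ b ∈ S, a * b = b * a)
    (hirr : ∀ W : Submodule (ZMod p) V, (∀ s ∈ S, ∀ v ∈ W, s v ∈ W) → W = ⊥ ∨ W = ⊤)
    {a b : End (ZMod p) V} (ha : ∀ s ∈ S, a * s = s * a) (hb : ∀ s ∈ S, b * s = s * b) :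
    a * b = b * a := by
  rcases subsingleton_or_nontrivial V with h | h
  · exact Subsingleton.elim _ _
  obtain ⟨v₀, hv₀⟩ := exists_ne (0 : V)
  obtain ⟨f, -, hf⟩ := exists_field_structure S hcomm hirr hv₀ (n := finrank (ZMod p) V)
    (by rw [Module.natCard_eq_pow_finrank (K := ZMod p), Nat.card_zmod])
  ext v
  apply f.injective
  rw [End.mul_apply, End.mul_apply, hf a ha (b v), hf b hb v, hf b hb (a v), hf a ha v]
  ring

variable {G : Type*} [Group G]

/-- A linear group with an abelian normal irreducible subgroup is semilinear of dimension one. -/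
theorem semilinear_of_normal (ρ : G →* End (ZMod p) V) (A : Subgroup G) [hA : A.Normal]
    (hcomm : ∀ a ∈ A, ∀ b ∈ A, ρ a * ρ b = ρ b * ρ a)
    (hirr : ∀ W : Submodule (ZMod p) V, (∀ a ∈ A, ∀ v ∈ W, ρ a v ∈ W) → W = ⊥ ∨ W = ⊤)
    [Nontrivial V] {n : ℕ} (hn : Nat.card V = p ^ n) :
    ∃ f : V ≃ₗ[ZMod p] GaloisField p n, ∀ g : G, ∃ (a : GaloisField p n)
      (σ : GaloisField p n ≃+* GaloisField p n), a ≠ 0 ∧ ∀ v, f (ρ g v) = a * σ (f v) := by
  obtain ⟨v₀, hv₀⟩ := exists_ne (0 : V)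
  have hirr' : ∀ W : Submodule (ZMod p) V, (∀ s ∈ ρ '' A, ∀ v ∈ W, s v ∈ W) → W = ⊥ ∨ W = ⊤ :=
    fun W hW => hirr W fun a ha => hW _ ⟨a, ha, rfl⟩
  obtain ⟨f, hf1, hf⟩ := exists_field_structure (ρ '' A)
    (by rintro _ ⟨a, ha, rfl⟩ _ ⟨b, hb, rfl⟩; exact hcomm a ha b hb) hirr' hv₀ hn
  have hfA : ∀ a ∈ A, ∀ v, f (ρ a v) = f (ρ a v₀) * f v := fun a ha =>
    hf _ (by rintro _ ⟨b, hb, rfl⟩; exact hcomm a ha b hb)
  refine ⟨f, fun g => ?_⟩
  have hinj : Function.Injective (ρ g) := fun v w h => by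
    have := congrArg (ρ g⁻¹) h
    simpa only [← End.mul_apply, ← map_mul, inv_mul_cancel, map_one, End.one_apply] using this
  have ha : f (ρ g v₀) ≠ 0 := by
    rw [Ne, f.map_eq_zero_iff, ← map_zero (ρ g)]
    exact fun h => hv₀ (hinj h)
  let s : GaloisField p n →ₗ[ZMod p] GaloisField p n :=
    (LinearMap.mulLeft (ZMod p) (f (ρ g v₀))⁻¹) ∘ₗ f.toLinearMap ∘ₗ ρ g ∘ₗ f.symm.toLinearMap
  have hs : ∀ v, s (f v) = (f (ρ g v₀))⁻¹ * f (ρ g v) := fun v => by simp [s]
  have hs1 : s 1 = 1 := by rw [← hf1, hs, inv_mul_cancel₀ ha, hf1]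
  have hsA : ∀ a ∈ A, ∀ v, s (f (ρ a v)) = f (ρ (g * a * g⁻¹) v₀) * s (f v) := by
    intro a haA v
    have : ρ g (ρ a v) = ρ (g * a * g⁻¹) (ρ g v) := by
      simp only [← End.mul_apply, ← map_mul, inv_mul_cancel_right]
    rw [hs, hs, this, hfA _ (hA.conj_mem a haA g)]
    ring
  have hmul : ∀ c d, s (c * d) = s c * s d := by
    let W : Submodule (ZMod p) V :=
      { carrier := {v | ∀ d, s (f v * d) = s (f v) * s d}
        add_mem' := fun {v w} hv hw d => by
          rw [map_add, add_mul, map_add, map_add, hv d, hw d, add_mul]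
        zero_mem' := fun d => by simp
        smul_mem' := fun c v hv d => by
          rw [map_smul, smul_mul_assoc, map_smul, map_smul, hv d, smul_mul_assoc] }
    have hW : W = ⊤ := by
      refine (hirr W fun a haA v hv d => ?_).resolve_left fun h => hv₀ ?_
      · obtain ⟨w, hw⟩ := f.surjective (f v * d)
        rw [hsA a haA, hfA a haA v, mul_assoc, ← hw, ← hfA a haA, hsA a haA, hw, hv d]
        ring
      · have : v₀ ∈ W := fun d => by rw [hf1, hs1, one_mul, one_mul]
        rwa [h, Submodule.mem_bot] at this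
    intro c d
    obtain ⟨v, rfl⟩ := f.surjective c
    have : v ∈ W := hW ▸ Submodule.mem_top
    exact this d
  let σ : GaloisField p n →+* GaloisField p n :=
    { toFun := s, map_one' := hs1, map_mul' := hmul, map_zero' := map_zero s,
      map_add' := map_add s }
  refine ⟨f (ρ g v₀), RingEquiv.ofBijective σ
    (Finite.injective_iff_bijective.1 σ.injective), ha, fun v => ?_⟩
  change _ = _ * s (f v)
  rw [hs, mul_inv_cancel_left₀ ha]

theorem card_submodule (W : Submodule (ZMod p) V) : Nat.card W = p ^ finrank (ZMod p) W := by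
  rw [Module.natCard_eq_pow_finrank (K := ZMod p), Nat.card_zmod]

theorem finrank_eq_of_card {n : ℕ} (hn : Nat.card V = p ^ n) : finrank (ZMod p) V = n := by
  rw [Module.natCard_eq_pow_finrank (K := ZMod p), Nat.card_zmod] at hn
  exact Nat.pow_right_injective (Fact.out : p.Prime).two_le hn

theorem semilinear_of_dim_one (ρ : G →* End (ZMod p) V) (hn : Nat.card V = p ^ 1) :
    ∃ f : V ≃ₗ[ZMod p] GaloisField p 1, ∀ g : G, ∃ (a : GaloisField p 1)
      (σ : GaloisField p 1 ≃+* GaloisField p 1), a ≠ 0 ∧ ∀ v, f (ρ g v) = a * σ (f v) := by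
  have h1 := finrank_eq_of_card hn
  have : Nontrivial V := Module.nontrivial_of_finrank_pos (R := ZMod p) (by omega)
  refine semilinear_of_normal ρ ⊥ (fun a ha b _ => by simp [Subgroup.mem_bot.1 ha])
    (fun W _ => ?_) hn
  have h2 := Submodule.finrank_le W
  rcases Nat.eq_zero_or_pos (finrank (ZMod p) W) with h | h
  · exact Or.inl (Submodule.finrank_eq_zero.1 h)
  · exact Or.inr (Submodule.eq_top_of_finrank_eq (by omega))

theorem card_modEq_fix {ℓ : ℕ} (hℓ : ℓ.Prime) {x : End (ZMod p) V} (hx : x ^ ℓ = 1)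
    (W : Submodule (ZMod p) V) (hW : ∀ v ∈ W, x v ∈ W) :
    Nat.card W ≡ Nat.card ↥(W ⊓ LinearMap.ker (x - 1)) [MOD ℓ] := by
  classical
  have := Fact.mk hℓ
  have := Fintype.ofFinite W
  let f : Function.End W := fun w => ⟨x w, hW w w.2⟩
  have hf : ∀ k (w : W), ((f ^ k) w : V) = (x ^ k) w := by
    intro k
    induction k with
    | zero => intro w; rfl
    | succ k ih => intro w; rw [pow_succ, pow_succ]; exact ih (f w)
  have h1 := Equiv.Perm.card_fixedPoints_modEq (f := f) (p := ℓ) (n := 1) (by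
    funext w; apply Subtype.ext; rw [pow_one, hf, hx]; rfl)
  rw [Nat.card_eq_fintype_card]
  convert h1 using 1
  rw [← Nat.card_eq_fintype_card]
  refine Nat.card_congr ⟨fun w => ⟨⟨w, w.2.1⟩, Subtype.ext ?_⟩, fun w => ⟨w.1, w.1.2, ?_⟩,
    fun _ => rfl, fun _ => rfl⟩
  · have := w.2.2
    rw [SetLike.mem_coe, LinearMap.mem_ker, LinearMap.sub_apply, sub_eq_zero] at this
    exact this
  · rw [SetLike.mem_coe, LinearMap.mem_ker, LinearMap.sub_apply, sub_eq_zero]
    exact congrArg Subtype.val w.2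

theorem eq_of_pow_modEq {n ℓ i j : ℕ} (h : Misc.Zsig.IsPPD p n ℓ) (hn : 0 < n) (hji : j ≤ i)
    (hin : i ≤ n) (hmod : p ^ i ≡ p ^ j [MOD ℓ]) : i = j ∨ (i = n ∧ j = 0) := by
  have hp : p.Prime := Fact.out
  by_contra hne
  push Not at hne
  obtain ⟨k, rfl⟩ := Nat.exists_eq_add_of_le hji
  have hcop : Nat.Coprime ℓ (p ^ j) := by
    refine Nat.Coprime.pow_right _ ((Nat.coprime_primes h.1 hp).2 ?_)
    rintro rfl
    have h1 := h.2.1
    have h2 : ℓ ∣ ℓ ^ n := dvd_pow_self _ hn.ne'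
    have h3 := Nat.dvd_sub h2 h1
    rw [Nat.sub_sub_self (Nat.one_le_pow _ _ hp.pos)] at h3
    exact hp.one_lt.ne' (Nat.dvd_one.1 h3)
  have h4 : ℓ ∣ p ^ j * (p ^ k - 1) := by
    rw [Nat.mul_sub_one, ← pow_add]
    exact (Nat.modEq_iff_dvd' (Nat.pow_le_pow_right hp.pos hji)).1 hmod.symm
  refine h.2.2 k (by omega) ?_ (hcop.dvd_of_dvd_mul_left h4)
  have := hne.2
  omega

/-- An operator whose order is a primitive prime divisor has no nonzero fixed vector. -/
theorem ker_eq_bot_of_ppd {n ℓ : ℕ} (hn : Nat.card V = p ^ n) (h : Misc.Zsig.IsPPD p n ℓ)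
    {x : End (ZMod p) V} (hx : x ^ ℓ = 1) (hx1 : x ≠ 1) : LinearMap.ker (x - 1) = ⊥ := by
  have hp : p.Prime := Fact.out
  have h1 := card_modEq_fix h.1 hx ⊤ (fun _ _ => trivial)
  have hn' : finrank (ZMod p) V = n := by
    rw [Module.natCard_eq_pow_finrank (K := ZMod p), Nat.card_zmod] at hn
    exact Nat.pow_right_injective hp.two_le hn
  rw [top_inf_eq, card_submodule, card_submodule, finrank_top, hn'] at h1
  have h2 : LinearMap.ker (x - 1) ≠ ⊤ := fun h => hx1 (sub_eq_zero.1 (LinearMap.ker_eq_top.1 h))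
  have h3 := Submodule.finrank_lt h2
  rw [hn'] at h3
  rcases eq_of_pow_modEq h (by omega) h3.le le_rfl h1 with h4 | h4
  · omega
  · exact Submodule.finrank_eq_zero.1 h4.2

/-- An operator whose order is a primitive prime divisor is irreducible. -/
theorem irr_of_ppd {n ℓ : ℕ} (hn : Nat.card V = p ^ n) (h : Misc.Zsig.IsPPD p n ℓ)
    {x : End (ZMod p) V} (hx : x ^ ℓ = 1) (hx1 : x ≠ 1) (W : Submodule (ZMod p) V)
    (hW : ∀ v ∈ W, x v ∈ W) : W = ⊥ ∨ W = ⊤ := by
  have hp : p.Prime := Fact.out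
  have h1 := card_modEq_fix h.1 hx W hW
  have hn' : finrank (ZMod p) V = n := by
    rw [Module.natCard_eq_pow_finrank (K := ZMod p), Nat.card_zmod] at hn
    exact Nat.pow_right_injective hp.two_le hn
  rw [ker_eq_bot_of_ppd hn h hx hx1, inf_bot_eq, card_submodule, card_submodule, finrank_bot] at h1
  rcases Nat.eq_zero_or_pos n with h0 | h0
  · left
    have := Submodule.finrank_le W
    exact Submodule.finrank_eq_zero.1 (by omega)
  rcases eq_of_pow_modEq h h0 (Nat.zero_le _) (hn' ▸ Submodule.finrank_le W) h1 with h4 | h4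
  · exact Or.inl (Submodule.finrank_eq_zero.1 h4)
  · exact Or.inr (Submodule.eq_top_of_finrank_eq (h4.1.trans hn'.symm))

section Group

variable [Finite G] {ρ : G →* End (ZMod p) V}

theorem exists_fixed_of_isPGroup [Nontrivial V] (ρ : G →* End (ZMod p) V) {P : Subgroup G}
    (hP : IsPGroup p P) : ∃ v : V, v ≠ 0 ∧ ∀ a ∈ P, ρ a v = v := by
  letI : MulAction P V := MulAction.compHom V (ρ.comp P.subtype)
  have h1 : p ∣ Nat.card V := by
    rw [Module.natCard_eq_pow_finrank (K := ZMod p), Nat.card_zmod]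
    exact dvd_pow_self _ finrank_pos.ne'
  obtain ⟨v, hv, hv0⟩ := hP.exists_fixed_point_of_prime_dvd_card_of_fixed_point V h1
    (a := 0) (fun g => map_zero (ρ g))
  exact ⟨v, hv0.symm, fun a ha => hv ⟨a, ha⟩⟩

theorem normal_pGroup_eq_bot (hρ : Function.Injective ρ)
    (hirr : ∀ W : Submodule (ZMod p) V, (∀ g, ∀ v ∈ W, ρ g v ∈ W) → W = ⊥ ∨ W = ⊤)
    {P : Subgroup G} [hn : P.Normal] (hP : IsPGroup p P) : P = ⊥ := by
  rw [eq_bot_iff]
  intro a ha
  rw [Subgroup.mem_bot]
  apply hρ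
  rcases subsingleton_or_nontrivial V with h | h
  · exact Subsingleton.elim _ _
  obtain ⟨v, hv0, hv⟩ := exists_fixed_of_isPGroup ρ hP
  have h1 := (hirr (FT.Rep.fix ρ P) fun g w hw b hb => by
    rw [← FT.Rep.apply_mul, show b * g = g * (g⁻¹ * b * g⁻¹⁻¹) by group, FT.Rep.apply_mul,
      hw _ (hn.conj_mem b hb g⁻¹)]).resolve_left fun h => hv0 (by
        have : v ∈ FT.Rep.fix ρ P := hv
        rwa [h, Submodule.mem_bot] at this)
  rw [map_one]
  exact FT.Rep.fix_eq_top_iff.1 h1 a ha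

theorem pow_eq_one_of_orderOf {x : G} {ℓ : ℕ} (hx : orderOf x = ℓ) : ρ x ^ ℓ = 1 := by
  rw [← map_pow, ← hx, pow_orderOf_eq_one, map_one]

theorem ne_one_of_orderOf (hρ : Function.Injective ρ) {x : G} {ℓ : ℕ} (hℓ : ℓ.Prime)
    (hx : orderOf x = ℓ) : ρ x ≠ 1 := by
  intro h
  rw [← map_one ρ] at h
  rw [hρ h, orderOf_one] at hx
  exact hℓ.one_lt.ne hx

/-- An `ℓ`-subgroup is abelian when `ℓ` is a primitive prime divisor. -/
theorem comm_of_ppd (hρ : Function.Injective ρ) {n ℓ : ℕ} (hn : Nat.card V = p ^ n)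
    (h : Misc.Zsig.IsPPD p n ℓ) {P : Subgroup G} (hP : IsPGroup ℓ P) {a b : G} (ha : a ∈ P)
    (hb : b ∈ P) : a * b = b * a := by
  have := Fact.mk h.1
  rcases subsingleton_or_nontrivial P with h0 | h0
  · exact congrArg Subtype.val (Subsingleton.elim (⟨a, ha⟩ * ⟨b, hb⟩ : P) (⟨b, hb⟩ * ⟨a, ha⟩))
  have h1 := hP.center_nontrivial
  obtain ⟨k, hk, hk'⟩ := ((hP.to_subgroup (Subgroup.center P)).nontrivial_iff_card).1 h1
  obtain ⟨z, hz⟩ := exists_prime_orderOf_dvd_card' (G := Subgroup.center P) ℓ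
    (hk' ▸ dvd_pow_self _ hk.ne')
  have hz' : orderOf ((z : P) : G) = ℓ := by rw [Subgroup.orderOf_coe, Subgroup.orderOf_coe, hz]
  have hc : ∀ c ∈ P, ρ c * ρ z = ρ z * ρ c := fun c hc => by
    rw [← map_mul, ← map_mul]
    exact congrArg (fun t : P => ρ t) (Subgroup.mem_center_iff.1 z.2 ⟨c, hc⟩)
  apply hρ
  rw [map_mul, map_mul]
  refine comm_of_irr {ρ z} (by rintro _ rfl _ rfl; rfl) (fun W hW => irr_of_ppd hn h
    (pow_eq_one_of_orderOf hz') (ne_one_of_orderOf hρ h.1 hz') W (hW _ rfl)) ?_ ?_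
  · rintro _ rfl; exact hc a ha
  · rintro _ rfl; exact hc b hb

/-- A solvable linear group in which an element whose order is a primitive prime divisor
centralizes `O_r` for the other primes `r` is semilinear of dimension one. -/
theorem semilinear_of_ppd [Group.IsSolvable G] [Nontrivial V] (hρ : Function.Injective ρ)
    {n ℓ : ℕ} (hn : Nat.card V = p ^ n) (h : Misc.Zsig.IsPPD p n ℓ) {x : G} (hx : orderOf x = ℓ)
    (hcent : ∀ r : ℕ, r.Prime → r ≠ ℓ → r ≠ p →
      x ∈ Subgroup.centralizer (pCore r G : Set G)) :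
    ∃ f : V ≃ₗ[ZMod p] GaloisField p n, ∀ g : G, ∃ (a : GaloisField p n)
      (σ : GaloisField p n ≃+* GaloisField p n), a ≠ 0 ∧ ∀ v, f (ρ g v) = a * σ (f v) := by
  have := Fact.mk h.1
  have hirr := irr_of_ppd hn h (pow_eq_one_of_orderOf (ρ := ρ) hx) (ne_one_of_orderOf hρ h.1 hx)
  have hxF : x ∈ Subgroup.centralizer (fittingSubgroup G : Set G) := by
    rw [← Subgroup.zpowers_le, Subgroup.le_centralizer_iff, Grp.fitting_eq_iSup_pCore]
    refine iSup_le fun r => ?_
    rw [← Subgroup.le_centralizer_iff, Subgroup.zpowers_le]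
    by_cases h1 : (r : ℕ) = ℓ
    · rw [h1]
      have hP : IsPGroup ℓ ↥(Subgroup.zpowers x ⊔ pCore ℓ G) :=
        IsPGroup.to_sup_of_normal_right (IsPGroup.of_card (n := 1)
          (by rw [Nat.card_zpowers, hx, pow_one])) (Grp.pCore_isPGroup ℓ G)
      intro b hb
      exact comm_of_ppd hρ hn h hP (Subgroup.mem_sup_right hb)
        (Subgroup.mem_sup_left (Subgroup.mem_zpowers x))
    by_cases h2 : (r : ℕ) = p
    · rw [h2, normal_pGroup_eq_bot hρ (fun W hW => hirr W (hW x)) (Grp.pCore_isPGroup p G)]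
      intro b hb
      rw [Subgroup.mem_bot.1 hb, one_mul, mul_one]
    · exact hcent r r.2 h1 h2
  refine semilinear_of_normal ρ (Subgroup.centralizer (fittingSubgroup G : Set G))
    (fun a ha b hb => ?_) (fun W hW => hirr W (hW x hxF)) hn
  rw [← map_mul, ← map_mul, hb a (Grp.centralizer_fitting_le G ha)]

/-- The representation over the algebraic closure. -/
noncomputable def bc (ρ : G →* End (ZMod p) V) :
    G →* End (AlgebraicClosure (ZMod p)) (TensorProduct (ZMod p) (AlgebraicClosure (ZMod p)) V) :=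
  (End.baseChangeHom (ZMod p) (AlgebraicClosure (ZMod p)) V).toMonoidHom.comp ρ

theorem bc_injective (hρ : Function.Injective ρ) : Function.Injective (bc ρ) :=
  (LinearMap.baseChangeHom_injective (ZMod p) V (AlgebraicClosure (ZMod p))).comp hρ

theorem fix_bc_eq_bot {x : G} (hx : LinearMap.ker (ρ x - 1) = ⊥) {X : Subgroup G} (hX : x ∈ X) :
    FT.Rep.fix (bc ρ) X = ⊥ := by
  have h1 : IsUnit (ρ x - 1) := (LinearMap.isUnit_iff_ker_eq_bot _).2 hx
  have h2 := h1.map (End.baseChangeHom (ZMod p) (AlgebraicClosure (ZMod p)) V)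
  rw [map_sub, map_one, LinearMap.isUnit_iff_ker_eq_bot] at h2
  rw [eq_bot_iff, ← h2]
  intro w hw
  rw [LinearMap.mem_ker, LinearMap.sub_apply, sub_eq_zero]
  exact hw x hX

theorem natCast_ne_zero {m : ℕ} (h : ¬ p ∣ m) : (m : AlgebraicClosure (ZMod p)) ≠ 0 := by
  rwa [Ne, CharP.cast_eq_zero_iff _ p]

/-- Hall-Higman type statement: an element of prime order without fixed vectors centralizes the
normal `r`-subgroups, apart from the Fermat prime exception. -/
theorem mem_centralizer_of_fpf (hρ : Function.Injective ρ) {ℓ r : ℕ} (hℓ : ℓ.Prime) (hr : r.Prime)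
    (hℓp : ℓ ≠ p) (hrp : r ≠ p) (hrℓ : r ≠ ℓ) {x : G} (hx : orderOf x = ℓ)
    (hfix : LinearMap.ker (ρ x - 1) = ⊥) {K : Subgroup G} [K.Normal] (hK : IsPGroup r K)
    (hexc : r = 2 → ¬ ∃ m, ℓ = 2 ^ m + 1) : x ∈ Subgroup.centralizer (K : Set G) := by
  have hp : p.Prime := Fact.out
  have := Fact.mk hr
  obtain ⟨k, hk⟩ := hK.exists_card_eq
  have h1 := FT.Rep.rep3_4 (bc ρ) (K := K) (X := Subgroup.zpowers x)
    (by rwa [Nat.card_zpowers, hx])
    (by rw [Nat.card_zpowers, hx, hk]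
        exact ((Nat.coprime_primes hℓ hr).2 hrℓ.symm).pow_right _)
    (by rw [Subgroup.normalizer_eq_top]; exact le_top)
    (natCast_ne_zero (by
      rw [hk]; exact fun h => hrp ((Nat.prime_dvd_prime_iff_eq hp hr).1 (hp.dvd_of_dvd_pow h)).symm))
    (natCast_ne_zero (by
      rw [Nat.card_zpowers, hx]; exact fun h => hℓp ((Nat.prime_dvd_prime_iff_eq hp hℓ).1 h).symm))
    (fun Q hQ h2 h3 => by
      rw [Nat.card_zpowers, hx] at h3
      refine FT.Rep.abelian_of_two_group_of_odd (K := K) ?_ hQ h2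
      rw [hk]
      exact (hr.odd_of_ne_two fun h => hexc h h3).pow)
    (fix_bc_eq_bot hfix (Subgroup.mem_zpowers x))
  rw [FT.Rep.fix_eq_top_iff_le_ker, (MonoidHom.ker_eq_bot_iff _).2 (bc_injective hρ), le_bot_iff,
    Subgroup.commutator_eq_bot_iff_le_centralizer, Subgroup.le_centralizer_iff,
    Subgroup.zpowers_le] at h1
  exact h1

theorem ppd_ne {n ℓ : ℕ} (hn : 0 < n) (h : Misc.Zsig.IsPPD p n ℓ) : ℓ ≠ p := by
  have hp : p.Prime := Fact.out
  rintro rfl
  have h3 := Nat.dvd_sub (dvd_pow_self ℓ hn.ne') h.2.1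
  rw [Nat.sub_sub_self (Nat.one_le_pow _ _ hp.pos)] at h3
  exact hp.one_lt.ne' (Nat.dvd_one.1 h3)

/-- A solvable linear group whose order is divisible by a primitive prime divisor `ℓ` is
semilinear of dimension one, unless `ℓ` is a Fermat prime and `O_2 ≠ 1`. -/
theorem semilinear_of_ppd_dvd [Group.IsSolvable G] (hρ : Function.Injective ρ)
    {n ℓ : ℕ} (hn0 : 0 < n) (hn : Nat.card V = p ^ n) (h : Misc.Zsig.IsPPD p n ℓ)
    (hdvd : ℓ ∣ Nat.card G) (hexc : p ≠ 2 → pCore 2 G ≠ ⊥ → ¬ ∃ m, ℓ = 2 ^ m + 1) :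
    ∃ f : V ≃ₗ[ZMod p] GaloisField p n, ∀ g : G, ∃ (a : GaloisField p n)
      (σ : GaloisField p n ≃+* GaloisField p n), a ≠ 0 ∧ ∀ v, f (ρ g v) = a * σ (f v) := by
  have hp : p.Prime := Fact.out
  have := Fact.mk h.1
  have : Nontrivial V := by
    rw [← Finite.one_lt_card_iff_nontrivial, hn]; exact Nat.one_lt_pow hn0.ne' hp.one_lt
  obtain ⟨x, hx⟩ := exists_prime_orderOf_dvd_card' ℓ hdvd
  refine semilinear_of_ppd hρ hn h hx fun r hr h1 h2 => ?_
  by_cases h3 : pCore r G = ⊥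
  · rw [h3]
    intro b hb
    rw [Subgroup.mem_bot.1 hb, one_mul, mul_one]
  refine mem_centralizer_of_fpf hρ h.1 hr (ppd_ne hn0 h) h2 h1 hx
    (ker_eq_bot_of_ppd hn h (pow_eq_one_of_orderOf hx) (ne_one_of_orderOf hρ h.1 hx))
    (Grp.pCore_isPGroup r G) ?_
  rintro rfl
  exact hexc h2.symm h3

end Group

end Cfsg.Agent.Perm.SemiLin
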