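import Mathlib
import Cfsg.Agent.Perm.Semilinear
import Cfsg.Agent.Block.FixCount
import Cfsg.Agent.Char.BSGroup
import Cfsg.Agent.Solv.Coprime2
import Cfsg.Agent.Small.Tools
import Cfsg.Agent.Grp.MinNormal

/-!
# Solvable linear groups transitive on nonzero vectors (Huppert): the main steps
-/

set_option autoImplicit false
set_option linter.unusedSectionVars false
set_option maxSynthPendingDepth 3

namespace Cfsg.Agent.Perm.SemiLin

open Module Cfsg Cfsg.Agent.FT
open scoped commutatorElement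

variable {p : ℕ} [Fact p.Prime] {V : Type*} [AddCommGroup V] [Module (ZMod p) V] [Finite V]
  {G : Type*} [Group G] [Finite G] {ρ : G →* End (ZMod p) V}

/-- The conclusion: a field structure on which the group acts semilinearly. -/
def IsSemiLin (ρ : G →* End (ZMod p) V) (n : ℕ) : Prop :=
  ∃ f : V ≃ₗ[ZMod p] GaloisField p n, ∀ g : G, ∃ (a : GaloisField p n)
    (σ : GaloisField p n ≃+* GaloisField p n), a ≠ 0 ∧ ∀ v, f (ρ g v) = a * σ (f v)

/-- Transitivity on nonzero vectors. -/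
def Trans (ρ : G →* End (ZMod p) V) : Prop := ∀ v w : V, v ≠ 0 → w ≠ 0 → ∃ g : G, ρ g v = w

theorem Trans.irr (h : Trans ρ) (W : Submodule (ZMod p) V) (hW : ∀ g, ∀ v ∈ W, ρ g v ∈ W) :
    W = ⊥ ∨ W = ⊤ := by
  by_cases h0 : W = ⊥
  · exact Or.inl h0
  right
  obtain ⟨v, hv, hv0⟩ := (Submodule.ne_bot_iff W).1 h0
  rw [eq_top_iff]
  intro w _
  by_cases hw : w = 0
  · rw [hw]; exact W.zero_mem
  obtain ⟨g, rfl⟩ := h v w hv0 hw
  exact hW g v hv

theorem Trans.card_dvd [Nontrivial V] (h : Trans ρ) : Nat.card V - 1 ∣ Nat.card G := by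
  letI : MulAction G V := MulAction.compHom V ρ
  obtain ⟨v, hv⟩ := exists_ne (0 : V)
  have h1 : MulAction.orbit G v = {0}ᶜ := by
    ext w
    constructor
    · rintro ⟨g, rfl⟩ h0
      have h2 : ρ g v = 0 := h0
      apply hv
      rw [← Rep.apply_inv_apply ρ g v, h2, map_zero]
    · intro hw
      exact h v w hv hw
  have h2 := MulAction.index_stabilizer G v
  rw [h1, Set.ncard_compl, Set.ncard_singleton] at h2
  rw [← h2]
  exact Subgroup.index_dvd_card _

theorem ker_inf_range {a : End (ZMod p) V} {m : ℕ} (hm : ¬ p ∣ m) (ha : a ^ m = 1) {w : V}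
    (hw : a (a w - w) = a w - w) : a w - w = 0 := by
  have h1 : ∀ k : ℕ, (a ^ k) w = w + (k : ZMod p) • (a w - w) := by
    intro k
    induction k with
    | zero => simp
    | succ k ih =>
      rw [pow_succ', End.mul_apply, ih, map_add, map_smul, hw]
      push_cast
      rw [add_smul, one_smul]; abel
  have h2 := h1 m
  rw [ha, End.one_apply, left_eq_add, smul_eq_zero, ZMod.natCast_eq_zero_iff] at h2
  exact h2.resolve_left hm

/-- An abelian normal `p'`-subgroup is semiregular on the nonzero vectors. -/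
theorem Trans.semireg (h : Trans ρ) (hρ : Function.Injective ρ) {A : Subgroup G} [hn : A.Normal]
    (hc : ∀ a ∈ A, ∀ b ∈ A, a * b = b * a) {a : G} (ha : a ∈ A) (hp : ¬ p ∣ orderOf a) {v : V}
    (hv : v ≠ 0) (hav : ρ a v = v) : a = 1 := by
  letI : MulAction G V := MulAction.compHom V ρ
  by_contra ha1
  obtain ⟨w, hw⟩ : ∃ w, ρ a w - w ≠ 0 := by
    by_contra! h0
    exact ha1 (hρ (by rw [map_one]; exact LinearMap.ext fun w => sub_eq_zero.1 (h0 w)))
  have key := fun w => ker_inf_range (w := w) hp (pow_eq_one_of_orderOf (ρ := ρ) rfl)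
  have hcm : ∀ c ∈ A, ∀ u, ρ c (ρ a u) = ρ a (ρ c u) := fun c hcA u => by
    rw [← Rep.apply_mul, ← Rep.apply_mul, hc c hcA a ha]
  have hne : v + (ρ a w - w) ≠ 0 := fun h0 => hw (key w (by
    rw [← eq_neg_iff_add_eq_zero, eq_comm, neg_eq_iff_eq_neg] at h0
    rw [h0, map_neg, hav]))
  have hle : A ⊓ MulAction.stabilizer G (v + (ρ a w - w)) ≤ A ⊓ MulAction.stabilizer G v := by
    rintro c ⟨hcA, hc2⟩
    refine ⟨hcA, ?_⟩
    have h1 : ρ c (v + (ρ a w - w)) = v + (ρ a w - w) := hc2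
    have h2 : ρ c v - v = ρ a (w - ρ c w) - (w - ρ c w) := by
      rw [map_add, map_sub, hcm c hcA] at h1
      rw [map_sub]
      linear_combination (norm := abel) h1
    have h3 := key (w - ρ c w) (by rw [← h2, map_sub, ← hcm c hcA, hav])
    change ρ c v = v
    rw [← sub_eq_zero, h2, h3]
  obtain ⟨g, hg⟩ := h v _ hv hne
  have hg' : g • v = v + (ρ a w - w) := hg
  have hcard : Nat.card ↥(A ⊓ MulAction.stabilizer G v)
      ≤ Nat.card ↥(A ⊓ MulAction.stabilizer G (v + (ρ a w - w))) := by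
    refine Nat.card_le_card_of_injective
      (fun c => ⟨g * c * g⁻¹, hn.conj_mem _ c.2.1 g, ?_⟩) fun c d hcd => ?_
    · change (g * c * g⁻¹) • _ = _
      rw [← hg', mul_smul, inv_smul_smul, mul_smul, show (c : G) • v = v from c.2.2]
    · have := congrArg Subtype.val hcd
      simpa using this
  have h1 : a ∈ A ⊓ MulAction.stabilizer G (v + (ρ a w - w)) := by
    rw [Subgroup.eq_of_le_of_card_ge hle hcard]; exact ⟨ha, hav⟩
  have h2 : ρ a (v + (ρ a w - w)) = v + (ρ a w - w) := h1.2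
  rw [map_add, hav, add_right_inj] at h2
  exact hw (key w h2)

theorem isCyclic_of_irr [Nontrivial V] (hρ : Function.Injective ρ) {A : Subgroup G}
    (hc : ∀ a ∈ A, ∀ b ∈ A, a * b = b * a)
    (hirr : ∀ W : Submodule (ZMod p) V, (∀ a ∈ A, ∀ v ∈ W, ρ a v ∈ W) → W = ⊥ ∨ W = ⊤) :
    IsCyclic A := by
  obtain ⟨v₀, hv₀⟩ := exists_ne (0 : V)
  have hc' : ∀ a ∈ A, ∀ s ∈ ρ '' A, ρ a * s = s * ρ a := by
    rintro a ha _ ⟨b, hb, rfl⟩; rw [← map_mul, ← map_mul, hc a ha b hb]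
  obtain ⟨f, hf1, hf⟩ := exists_field_structure (ρ '' A)
    (by rintro _ ⟨a, ha, rfl⟩; exact hc' a ha)
    (fun W hW => hirr W fun a ha => hW _ ⟨a, ha, rfl⟩) hv₀ (n := finrank (ZMod p) V)
    (by rw [Module.natCard_eq_pow_finrank (K := ZMod p), Nat.card_zmod])
  let φ : A →* GaloisField p (finrank (ZMod p) V) :=
    { toFun := fun a => f (ρ a v₀)
      map_one' := by simp [hf1]
      map_mul' := fun a b => by
        rw [Subgroup.coe_mul, Rep.apply_mul, hf _ (hc' a a.2)] }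
  refine isCyclic_of_injective_ringHom φ ((injective_iff_map_eq_one φ).2 fun a ha => ?_)
  have ha : f (ρ a v₀) = 1 := ha
  refine Subtype.ext (hρ ?_)
  ext v
  apply f.injective
  rw [hf _ (hc' a a.2), ha]; simp

section HH

variable {F : Type*} [Field F] {W : Type*} [AddCommGroup W] [Module F W] {Γ : Type*} [Group Γ]

/-- Dimension bound for a cyclic group acting freely on a class two group. -/
theorem orderOf_le_finrank [FiniteDimensional F W] [IsAlgClosed F] [Finite Γ] (σ : Γ →* End F W)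
    {Q : Subgroup Γ} [Q.Normal] {y : Γ} (hy1 : y ≠ 1) (htop : Q ⊔ Subgroup.zpowers y = ⊤)
    (hn : (Nat.card Γ : F) ≠ 0)
    (hfree : ∀ z ∈ Subgroup.zpowers y, z ≠ 1 → Q ≤ ⁅Q, Subgroup.zpowers z⁆)
    (hA : Rep.fix σ Q ≠ ⊤) (hc : ∀ z ∈ ⁅Q, Q⁆, ∀ g, σ g * σ z = σ z * σ g)
    (hfix : Rep.fix σ (Subgroup.zpowers y) = ⊥) : orderOf y ≤ finrank F W + 1 := by
  obtain ⟨Y, τ, hτ, hY, hirr, hτA⟩ := Rep.exists_irr σ Q
    (Rep.natCast_ne_zero_of_dvd (Subgroup.card_subgroup_dvd_card Q) hn) hA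
  have hAK : ¬ Q ≤ τ.ker := fun h => bot_ne_top (hτA.symm.trans (Rep.fix_eq_top_iff_le_ker.mpr h))
  have hsc : ∀ z ∈ ⁅Q, Q⁆, ∃ c : F, τ z = c • 1 := fun z hz => hirr.scalar fun g =>
    LinearMap.ext fun y => Subtype.ext (by
      rw [End.mul_apply, End.mul_apply, hτ, hτ, hτ, hτ]
      exact LinearMap.congr_fun (hc z hz g) y)
  obtain ⟨-, h2⟩ := (Rep.rep_es hirr (x := y) (by rw [Subgroup.normalizer_eq_top]; trivial) htop hn
    hsc hfree).2 (by
    rw [eq_bot_iff]
    intro w hw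
    have : (w : W) ∈ Rep.fix σ (Subgroup.zpowers y) := fun a ha => by rw [← hτ, hw a ha]
    rw [hfix] at this
    exact Subtype.ext this)
  have hd : finrank F Y ≠ 1 := by
    intro h
    have := Rep.le_fix_commutator_of_finrank_le_one τ (K := ⊤) (Y := ⊤) (by rw [finrank_top, h])
      fun _ _ _ _ => trivial
    exact hAK ((hfree y (Subgroup.mem_zpowers y) hy1).trans
      ((Subgroup.commutator_mono le_top le_top).trans
      (Rep.fix_eq_top_iff_le_ker.mp (top_le_iff.mp this))))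
  have := h2.resolve_left hd
  have := Submodule.finrank_le Y
  omega

end HH

theorem Trans.central_of_involution (h : Trans ρ) (hρ : Function.Injective ρ) (hp2 : p ≠ 2)
    {A : Subgroup G} [A.Normal] (hc : ∀ a ∈ A, ∀ b ∈ A, a * b = b * a) {t : G} (ht : t ∈ A)
    (ho : orderOf t = 2) (g : G) : g * t = t * g := by
  have hp : p.Prime := Fact.out
  have h1 : ∀ v, ρ t v = -v := by
    intro v
    by_contra h0
    have h2 : t = 1 := h.semireg hρ hc ht (by
      rw [ho]; exact fun h => hp2 ((Nat.prime_dvd_prime_iff_eq hp Nat.prime_two).1 h))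
      (v := ρ t v + v) (fun h => h0 (eq_neg_of_add_eq_zero_left h)) (by
        rw [map_add, ← Rep.apply_mul, ← sq, ← ho, pow_orderOf_eq_one, map_one, add_comm]; rfl)
    rw [h2, orderOf_one] at ho
    omega
  apply hρ
  ext v
  rw [Rep.apply_mul, Rep.apply_mul, h1, h1, map_neg]

/-- A large primitive prime divisor: the element of order `ℓ` centralizes `O_2`. -/
theorem Trans.mem_centralizer_two (h : Trans ρ) (hρ : Function.Injective ρ) (hp2 : p ≠ 2)
    {n ℓ a : ℕ} (hn0 : 0 < n) (hn : Nat.card V = p ^ n) (hℓ : Misc.Zsig.IsPPD p n ℓ) (hℓ2 : ℓ ≠ 2)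
    {y : G} (hy : orderOf y = ℓ ^ a) (hlarge : n + 1 < ℓ ^ a) {x : G}
    (hxy : x ∈ Subgroup.zpowers y) (hx : orderOf x = ℓ) :
    x ∈ Subgroup.centralizer (pCore 2 G : Set G) := by
  have hp : p.Prime := Fact.out
  have := Fact.mk hℓ.1
  by_contra hcon
  obtain ⟨P, ⟨h1, h2, h3⟩, hmin⟩ := exists_minimal_of_wellFoundedLT
    (fun P : Subgroup G => P ≤ pCore 2 G ∧ P.Normal ∧ ⁅P, Subgroup.zpowers x⁆ ≠ ⊥)
    ⟨pCore 2 G, le_rfl, inferInstance, fun h => hcon (by
      rw [Subgroup.commutator_eq_bot_iff_le_centralizer, Subgroup.le_centralizer_iff,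
        Subgroup.zpowers_le] at h
      exact h)⟩
  have hP : IsPGroup 2 P := (Grp.pCore_isPGroup 2 G).to_le h1
  have hnil := hP.isNilpotent
  have hsol : Group.IsSolvable P := inferInstance
  have hnorm : ∀ (X N : Subgroup G) [N.Normal], X ≤ Subgroup.normalizer (N : Set G) :=
    fun X N _ => by rw [Subgroup.normalizer_eq_top]; exact le_top
  have hcop : ∀ (z : G) (K : Subgroup G), z ∈ Subgroup.zpowers y → K ≤ P →
      (Nat.card (Subgroup.zpowers z)).Coprime (Nat.card K) := by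
    intro z K hz hK
    obtain ⟨k, hk⟩ := (hP.to_le hK).exists_card_eq
    rw [Nat.card_zpowers, hk]
    refine Nat.Coprime.coprime_dvd_left (hy ▸ orderOf_dvd_of_mem_zpowers hz) ?_
    exact ((Nat.coprime_primes hℓ.1 Nat.prime_two).2 hℓ2).pow _ _
  have hQ : ⁅⁅P, Subgroup.zpowers x⁆, Subgroup.zpowers x⁆ = ⁅P, Subgroup.zpowers x⁆ :=
    Solv.coprime_commutator_commutator _ P (hnorm _ _) (hcop x P hxy le_rfl) (Or.inr hsol)
  have hP0 : P ≠ ⊥ := fun h => h3 (by rw [h, Subgroup.commutator_bot_left])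
  have hlt := Solv.commutator_lt_of_isSolvable hsol hP0
  have h5 : ⁅⁅P, P⁆, Subgroup.zpowers x⁆ = ⊥ := by
    by_contra h
    exact hlt.not_ge (hmin ⟨hlt.le.trans h1, inferInstance, h⟩ hlt.le)
  have hxN : Subgroup.zpowers x ≤ 𝒞(⁅P, P⁆) := by
    rw [Subgroup.le_centralizer_iff, ← Subgroup.commutator_eq_bot_iff_le_centralizer]; exact h5
  have h4 : P ≤ ⁅P, 𝒞(⁅P, P⁆)⁆ :=
    hmin ⟨(Subgroup.commutator_le_left _ _).trans h1, inferInstance, fun h => h3 (by
      rw [← hQ, eq_bot_iff, ← h]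
      exact Subgroup.commutator_mono (Subgroup.commutator_mono le_rfl hxN) le_rfl)⟩
      (Subgroup.commutator_le_left _ _)
  have hDN : ⁅⁅P, P⁆, 𝒞(⁅P, P⁆)⁆ = ⊥ := by
    rw [Subgroup.commutator_comm, Subgroup.commutator_eq_bot_iff_le_centralizer]
  have h6 : P ≤ 𝒞(⁅P, P⁆) := by
    have := Subgroup.commutator_commutator_eq_bot_of_rotate
      (H₁ := 𝒞(⁅P, P⁆)) (H₂ := P) (H₃ := ⁅P, P⁆)
      (by rw [eq_bot_iff, ← hDN]
          exact Subgroup.commutator_mono (Subgroup.commutator_le_right _ _) le_rfl)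
      (by rw [hDN, Subgroup.commutator_bot_left])
    rw [Subgroup.commutator_eq_bot_iff_le_centralizer, Subgroup.commutator_comm] at this
    exact h4.trans this
  have hDc : ∀ a ∈ ⁅P, P⁆, ∀ b ∈ ⁅P, P⁆, a * b = b * a := fun a ha b hb => h6 (hlt.le hb) a ha
  have hDy : ⁅⁅P, P⁆, Subgroup.zpowers y⁆ = ⊥ := by
    by_contra h0
    have : IsMulCommutative (⁅P, P⁆ : Subgroup G) := ⟨⟨fun a b => Subtype.ext (hDc _ a.2 _ b.2)⟩⟩
    have h7 := Solv.coprime_centralizer_inf_commutator (Subgroup.zpowers y) ⁅P, P⁆ (hnorm _ _)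
      (hcop y _ (Subgroup.mem_zpowers y) hlt.le)
    have hle : ⁅⁅P, P⁆, Subgroup.zpowers y⁆ ≤ ⁅P, P⁆ := Subgroup.commutator_le_left _ _
    obtain ⟨k, hk, hk'⟩ := ((hP.to_le (hle.trans hlt.le)).nontrivial_iff_card).1
      ((Subgroup.nontrivial_iff_ne_bot _).2 h0)
    obtain ⟨t, ht⟩ := exists_prime_orderOf_dvd_card' (G := ↥⁅⁅P, P⁆, Subgroup.zpowers y⁆) 2
      (hk' ▸ dvd_pow_self _ hk.ne')
    have ht' : orderOf (t : G) = 2 := by rw [Subgroup.orderOf_coe, ht]
    have h8 : (t : G) ∈ (⊥ : Subgroup G) := h7 ▸ ⟨⟨hle t.2, fun g _ =>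
      h.central_of_involution hρ hp2 hDc (hle t.2) ht' g⟩, t.2⟩
    rw [Subgroup.mem_bot.1 h8, orderOf_one] at ht'
    omega
  set Q := ⁅P, Subgroup.zpowers x⁆ with hQdef
  have hQP : Q ≤ P := Subgroup.commutator_le_left _ _
  have hYX : Subgroup.zpowers y ≤ 𝒩(Subgroup.zpowers x) := by
    refine le_norm_of_le_cent ?_
    rw [cent_zpowers, Subgroup.zpowers_le]
    obtain ⟨k, rfl⟩ := hxy
    exact Subgroup.mem_centralizer_singleton_iff.2 (Commute.self_zpow y k)
  have hYQ : Subgroup.zpowers y ≤ 𝒩(Q) := norm_comm (hnorm _ _) hYX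
  have hnQ := (normIn_sup_left hYQ).normal
  have hx1 : x ≠ 1 := by rintro rfl; rw [orderOf_one] at hx; exact hℓ.1.one_lt.ne hx
  have hy1 : y ≠ 1 := by rintro rfl; exact hx1 (by simpa using hxy)
  let L := Q ⊔ Subgroup.zpowers y
  have hyL : y ∈ L := Subgroup.mem_sup_right (Subgroup.mem_zpowers y)
  have h9 := orderOf_le_finrank ((bc ρ).comp L.subtype) (Q := Q.subgroupOf L) (y := ⟨y, hyL⟩)
    (fun h => hy1 (congrArg Subtype.val h))
    (by rw [So.zpowers, So.sup le_sup_left le_sup_right, Subgroup.subgroupOf_self])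
    (natCast_ne_zero fun hd => by
      have h7 := hd.trans (sup_comm (Subgroup.zpowers y) Q ▸ Grp.card_sup_dvd_of_le_normalizer hYQ)
      obtain ⟨k, hk⟩ := (hP.to_le hQP).exists_card_eq
      rw [Nat.card_zpowers, hy, hk, hp.dvd_mul] at h7
      rcases h7 with h7 | h7
      · exact ppd_ne hn0 hℓ ((Nat.prime_dvd_prime_iff_eq hp hℓ.1).1 (hp.dvd_of_dvd_pow h7)).symm
      · exact hp2 ((Nat.prime_dvd_prime_iff_eq hp Nat.prime_two).1 (hp.dvd_of_dvd_pow h7)))
    (fun z hz hz1 => by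
      rw [So.zpowers] at hz
      have hz' : (z : G) ∈ Subgroup.zpowers y := hz
      have hle : Subgroup.zpowers (z : G) ≤ Subgroup.zpowers y := Subgroup.zpowers_le.mpr hz'
      rw [So.zpowers, So.comm le_sup_left (hle.trans le_sup_right)]
      refine Subgroup.comap_mono (hQ.ge.trans (Subgroup.commutator_mono le_rfl ?_))
      rw [Subgroup.zpowers_le]
      refine Char.BS.mem_zpowers_of_mem_zpowers_of_dvd hxy hz' ?_
      obtain ⟨k, -, hk⟩ := (Nat.dvd_prime_pow hℓ.1).1 (hy ▸ orderOf_dvd_of_mem_zpowers hz')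
      rw [hx, hk]
      refine dvd_pow_self _ fun h0 => hz1 (Subtype.ext ?_)
      rw [h0, pow_zero, orderOf_eq_one_iff] at hk
      exact hk)
    (by
      rw [Rep.fix_comp_subgroupOf _ le_sup_left, Ne, Rep.fix_eq_top_iff_le_ker,
        (MonoidHom.ker_eq_bot_iff _).2 (bc_injective hρ), le_bot_iff]
      exact h3)
    (by
      rw [So.comm le_sup_left le_sup_left]
      intro z hz g
      have hz' : (z : G) ∈ ⁅P, P⁆ := Subgroup.commutator_mono hQP hQP hz
      have : L ≤ 𝒞(⁅P, P⁆) := sup_le (hQP.trans h6) (by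
        rw [Subgroup.le_centralizer_iff, ← Subgroup.commutator_eq_bot_iff_le_centralizer]
        exact hDy)
      rw [← map_mul, ← map_mul]
      exact congrArg _ (Subtype.ext (this g.2 z hz').symm))
    (by
      rw [So.zpowers, Rep.fix_comp_subgroupOf _ le_sup_right]
      exact fix_bc_eq_bot (ker_eq_bot_of_ppd hn hℓ (pow_eq_one_of_orderOf hx)
        (ne_one_of_orderOf hρ hℓ.1 hx)) hxy)
  rw [Subgroup.orderOf_mk, hy, finrank_baseChange, finrank_eq_of_card hn] at h9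
  omega

theorem nontrivial_of_card {n : ℕ} (hn0 : 0 < n) (hn : Nat.card V = p ^ n) : Nontrivial V := by
  rw [← Finite.one_lt_card_iff_nontrivial, hn]
  exact Nat.one_lt_pow hn0.ne' (Fact.out : p.Prime).one_lt

theorem Trans.isSemiLin_of_large [Group.IsSolvable G] (h : Trans ρ) (hρ : Function.Injective ρ)
    {n ℓ : ℕ} (hn0 : 1 < n) (hn : Nat.card V = p ^ n) (hℓ : Misc.Zsig.IsPPD p n ℓ)
    (hlarge : n + 1 < ℓ ∨ ℓ ^ 2 ∣ p ^ n - 1) : IsSemiLin ρ n := by
  have hp : p.Prime := Fact.out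
  have := Fact.mk hℓ.1
  have := nontrivial_of_card (by omega) hn
  have hd := h.card_dvd
  rw [hn] at hd
  have hlt := hℓ.lt (by omega) hp.one_lt
  obtain ⟨L⟩ : Nonempty (Sylow ℓ G) := inferInstance
  have hL : ℓ ∣ Nat.card L := L.dvd_card_of_dvd_card (hℓ.2.1.trans hd)
  obtain ⟨x, hx⟩ := exists_prime_orderOf_dvd_card' (G := L) ℓ hL
  have hx' : orderOf (x : G) = ℓ := by rw [Subgroup.orderOf_coe, hx]
  have hcyc : IsCyclic L := isCyclic_of_irr hρ
    (fun a ha b hb => comm_of_ppd hρ hn hℓ L.isPGroup' ha hb) fun W hW =>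
      irr_of_ppd hn hℓ (pow_eq_one_of_orderOf hx') (ne_one_of_orderOf hρ hℓ.1 hx') W (hW x x.2)
  obtain ⟨y, hy⟩ := (Subgroup.isCyclic_iff_exists_zpowers_eq_top _).1 hcyc
  have hy' : orderOf y = ℓ ^ (Nat.card G).factorization ℓ := by
    rw [← Nat.card_zpowers, hy, L.card_eq_multiplicity]
  have hbig : n + 1 < ℓ ^ (Nat.card G).factorization ℓ := by
    rcases hlarge with h1 | h1
    · exact h1.trans_le (Nat.le_of_dvd (pow_pos hℓ.1.pos _) (L.card_eq_multiplicity ▸ hL))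
    · have h2 := (hℓ.1.pow_dvd_iff_le_factorization Nat.card_pos.ne').1 (h1.trans hd)
      have h3 := Nat.pow_le_pow_right hℓ.1.pos h2
      nlinarith
  refine semilinear_of_ppd hρ hn hℓ hx' fun r hr h1 h2 => ?_
  by_cases hr2 : r = 2
  · subst hr2
    exact h.mem_centralizer_two hρ h2.symm (by omega) hn hℓ h1.symm hy' hbig (by rw [hy]; exact x.2) hx'
  · exact mem_centralizer_of_fpf hρ hℓ.1 hr (ppd_ne (by omega) hℓ) h2 h1 hx'
      (ker_eq_bot_of_ppd hn hℓ (pow_eq_one_of_orderOf hx') (ne_one_of_orderOf hρ hℓ.1 hx'))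
      (Grp.pCore_isPGroup r G) fun h => absurd h hr2

end Cfsg.Agent.Perm.SemiLin
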