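import Mathlib
import Cfsg.Agent.Perm.Huppert

/-!
# Huppert's theorem: dimension two, and dimension six over the field with two elements
-/

set_option autoImplicit false
set_option linter.unusedSectionVars false

namespace Cfsg.Agent.Perm.SemiLin

open Module Cfsg Cfsg.Agent.FT
open scoped commutatorElement

theorem card_mulAut_dvd_factorial (T : Type*) [Group T] [Finite T] :
    Nat.card (MulAut T) ∣ (Nat.card T - 1).factorial := by
  classical
  have := Fintype.ofFinite T
  let φ : MulAut T →* Equiv.Perm {t : T // t ≠ 1} :=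
    { toFun := fun f => Equiv.Perm.subtypePerm f.toEquiv (fun t => by simp)
      map_one' := by ext; rfl
      map_mul' := fun _ _ => by ext; rfl }
  have hφ : Function.Injective φ := by
    intro f g h
    ext t
    by_cases ht : t = 1
    · simp [ht]
    · exact congrArg (fun σ : Equiv.Perm {t : T // t ≠ 1} => (σ ⟨t, ht⟩).1) h
  have := Subgroup.card_dvd_of_injective φ hφ
  rw [Nat.card_perm, Nat.card_eq_fintype_card (α := {t : T // t ≠ 1}), Fintype.card_subtype_compl,
    Fintype.card_subtype_eq, ← Nat.card_eq_fintype_card] at this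
  exact this

theorem card_dvd_centralizer_mul {G : Type*} [Group G] [Finite G] (M : Subgroup G) [M.Normal] :
    Nat.card G ∣ Nat.card (Subgroup.centralizer (M : Set G)) * Nat.card (MulAut M) := by
  have h := Small.relIndex_centralizer_dvd_card_mulAut M
  rw [Subgroup.normalizer_eq_top, Subgroup.relIndex_top_right] at h
  rw [← Subgroup.card_mul_index (Subgroup.centralizer (M : Set G))]
  exact Nat.mul_dvd_mul_left _ h

section LinAlg

variable {K : Type*} [Field K] {V : Type*} [AddCommGroup V] [Module K V] [FiniteDimensional K V]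

theorem scalar_of_comm_of_anticomm (hV : finrank K V = 2) {A B t : End K V}
    (hne : A * B ≠ B * A) (h1 : t * A = A * t)
    (h2 : t * B = B * t) : ∃ c : K, t = c • 1 := by
  have : Nontrivial V := Module.nontrivial_of_finrank_pos (R := K) (by omega)
  obtain ⟨v, hv⟩ : ∃ v, LinearIndependent K ![v, A v] := by
    by_contra! h
    obtain ⟨c, rfl⟩ := LinearMap.exists_eq_smul_id_of_forall_notLinearIndependent h
    exact hne (by simp)
  have hspan := hv.span_eq_top_of_card_eq_finrank' (by simp [hV])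
  rw [Matrix.range_cons, Matrix.range_cons, Matrix.range_empty, Set.union_empty,
    Set.singleton_union] at hspan
  obtain ⟨α, β, hαβ⟩ := Submodule.mem_span_pair.1 (hspan ▸ Submodule.mem_top : t v ∈ _)
  have ht : t = α • 1 + β • A := by
    refine LinearMap.ext_on hspan ?_
    rintro x (rfl | rfl)
    · simp [← hαβ]
    · rw [← End.mul_apply, h1, End.mul_apply, ← hαβ]; simp
  refine ⟨α, ?_⟩
  have h3 : β • (A * B - B * A) = 0 := by
    rw [ht] at h2
    simp only [add_mul, mul_add, smul_mul_assoc, mul_smul_comm, one_mul, mul_one,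
      add_right_inj] at h2
    rw [smul_sub, h2, sub_self]
  rw [ht, (smul_eq_zero.1 h3).resolve_right (sub_ne_zero.2 hne), zero_smul, add_zero]

theorem comm_or_anticomm (hV : finrank K V = 2) {A B : End K V} (hA : IsUnit A) (hB : IsUnit B)
    {c : K} (h : A * B = c • (B * A)) : A * B = B * A ∨ A * B = -(B * A) := by
  have h1 := congrArg LinearMap.det h
  rw [LinearMap.det_smul, map_mul, map_mul, hV, mul_comm (LinearMap.det B)] at h1
  have h2 : LinearMap.det A * LinearMap.det B ≠ 0 :=
    ((hA.map LinearMap.det).mul (hB.map LinearMap.det)).ne_zero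
  have h3 : c ^ 2 = 1 := by
    apply mul_right_cancel₀ h2; rw [← h1, one_mul]
  rcases mul_self_eq_one_iff.1 (sq c ▸ h3) with rfl | rfl
  all_goals simp [h]

end LinAlg

variable {p : ℕ} [Fact p.Prime] {V : Type*} [AddCommGroup V] [Module (ZMod p) V] [Finite V]
  {G : Type*} [Group G] [Finite G] {ρ : G →* End (ZMod p) V}

/-- The elements acting as scalars. -/
def scal (ρ : G →* End (ZMod p) V) : Subgroup G where
  carrier := {g | ∃ c : ZMod p, ρ g = c • 1}
  one_mem' := ⟨1, by simp⟩
  mul_mem' := by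
    rintro a b ⟨c, hc⟩ ⟨d, hd⟩
    exact ⟨c * d, by simp [hc, hd, smul_smul, mul_comm]⟩
  inv_mem' := by
    rintro a ⟨c, hc⟩
    by_cases h0 : c = 0
    · refine ⟨0, ?_⟩
      have : (1 : End (ZMod p) V) = 0 := by
        rw [← map_one ρ, ← mul_inv_cancel a, map_mul, hc, h0]; simp
      rw [← mul_one (ρ a⁻¹), this]; simp
    · refine ⟨c⁻¹, ?_⟩
      have : ρ a * ρ a⁻¹ = 1 := by rw [← map_mul, mul_inv_cancel, map_one]
      rw [hc, smul_mul_assoc, one_mul] at this
      rw [← this, smul_smul, inv_mul_cancel₀ h0, one_smul]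

instance scal_normal (ρ : G →* End (ZMod p) V) : (scal ρ).Normal := ⟨by
  rintro a ⟨c, hc⟩ g
  refine ⟨c, ?_⟩
  rw [map_mul, map_mul, hc, mul_smul_comm, mul_one, smul_mul_assoc, ← map_mul, mul_inv_cancel,
    map_one]⟩

theorem card_scal_dvd [Nontrivial V] (hρ : Function.Injective ρ) : Nat.card (scal ρ) ∣ p - 1 := by
  have hinj : ∀ c d : ZMod p, c • (1 : End (ZMod p) V) = d • 1 → c = d := fun c d h =>
    smul_left_injective _ one_ne_zero h
  choose c hc using fun g : scal ρ => g.2
  let φ : scal ρ →* ZMod p :=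
    { toFun := c
      map_one' := hinj _ _ (by rw [← hc]; simp)
      map_mul' := fun a b => hinj _ _ (by
        rw [← hc, Subgroup.coe_mul, map_mul, hc, hc]; simp [smul_smul, mul_comm]) }
  have := Subgroup.card_dvd_of_injective φ.toHomUnits fun a b h => Subtype.ext (hρ (by
    have h1 : c a = c b := congrArg Units.val h
    rw [hc, hc, h1]))
  rwa [Nat.card_eq_fintype_card (α := (ZMod p)ˣ), ZMod.card_units] at this

theorem isUnit_rho (g : G) : IsUnit (ρ g) := (Group.isUnit g).map ρ

theorem Trans.isSemiLin_of_nonscalar (h : Trans ρ) (hn : Nat.card V = p ^ 2) {A : Subgroup G}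
    [hA : A.Normal] (hc : ∀ a ∈ A, ∀ b ∈ A, ρ a * ρ b = ρ b * ρ a) (hZ : ¬ A ≤ scal ρ) :
    IsSemiLin ρ 2 := by
  have := nontrivial_of_card two_pos hn
  have hV := finrank_eq_of_card hn
  refine semilinear_of_normal ρ A hc (fun W hW => ?_) hn
  by_contra! hW0
  obtain ⟨v, hv, hv0⟩ := (Submodule.ne_bot_iff W).1 hW0.1
  have h1 : Submodule.span (ZMod p) {v} = W := by
    refine Submodule.eq_of_le_of_finrank_le ((Submodule.span_singleton_le_iff_mem _ _).2 hv) ?_
    have := Submodule.finrank_lt hW0.2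
    rw [finrank_span_singleton hv0]; omega
  refine hZ fun a ha => LinearMap.exists_eq_smul_id_of_forall_notLinearIndependent fun w => ?_
  by_cases hw : w = 0
  · exact fun hl => hl.ne_zero 0 hw
  obtain ⟨g, rfl⟩ := h v w hv0 hw
  have h2 := hW _ (hA.conj_mem a ha g⁻¹) v hv
  rw [← h1, Submodule.mem_span_singleton] at h2
  obtain ⟨c, hc⟩ := h2
  rw [LinearIndependent.pair_iff' hw]
  push Not
  refine ⟨c, ?_⟩
  rw [← map_smul, hc, ← Rep.apply_mul, ← Rep.apply_mul]
  congr 2; group

theorem Trans.dim_two [Group.IsSolvable G] (h : Trans ρ) (hρ : Function.Injective ρ)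
    (hn : Nat.card V = p ^ 2) : IsSemiLin ρ 2 ∨ p + 1 ∣ 24 := by
  have hp : p.Prime := Fact.out
  have := nontrivial_of_card two_pos hn
  have hV := finrank_eq_of_card hn
  rcases subsingleton_or_nontrivial (G ⧸ scal ρ) with h0 | h0
  · left
    have h1 : scal ρ = ⊤ := QuotientGroup.subgroup_eq_top_of_subsingleton _ h0
    refine semilinear_of_normal ρ ⊤ (fun a _ b _ => ?_)
      (fun W hW => h.irr W fun g => hW g trivial) hn
    obtain ⟨c, hc⟩ : a ∈ scal ρ := h1 ▸ trivial
    simp [hc]
  obtain ⟨r, M, -, hMn, hM0, hMc, -⟩ := Grp.exists_minNormal_elementaryAbelian (G ⧸ scal ρ)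
  let π := QuotientGroup.mk' (scal ρ)
  by_cases hc : ∀ a ∈ M.comap π, ∀ b ∈ M.comap π, ρ a * ρ b = ρ b * ρ a
  · refine Or.inl (h.isSemiLin_of_nonscalar hn hc fun hle => hM0 ?_)
    rw [eq_bot_iff]
    intro m hm
    obtain ⟨a, rfl⟩ := QuotientGroup.mk'_surjective _ m
    exact (QuotientGroup.eq_one_iff a).2 (hle hm)
  right
  push Not at hc
  obtain ⟨a, ha, b, hb, hab⟩ := hc
  have hsign : ∀ g k : G, π g * π k = π k * π g →
      ρ g * ρ k = ρ k * ρ g ∨ ρ g * ρ k = -(ρ k * ρ g) := by
    intro g k hgk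
    have h1 : (k * g)⁻¹ * (g * k) ∈ scal ρ := QuotientGroup.eq.1 hgk.symm
    obtain ⟨c, hc⟩ := h1
    refine comm_or_anticomm hV (isUnit_rho g) (isUnit_rho k) (c := c) ?_
    rw [← map_mul, ← mul_inv_cancel_left (k * g) (g * k), map_mul, hc, map_mul]; simp
  have hMcomm : ∀ x ∈ M, ∀ y ∈ M, x * y = y * x := fun x hx y hy =>
    congrArg Subtype.val (hMc.is_comm.comm ⟨x, hx⟩ ⟨y, hy⟩)
  have hAB := (hsign a b (hMcomm _ ha _ hb)).resolve_left hab
  have hBA : ρ b * ρ a = -(ρ a * ρ b) := by rw [hAB, neg_neg]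
  have hscal : ∀ t : G, ρ t * ρ a = ρ a * ρ t → ρ t * ρ b = ρ b * ρ t → π t = 1 :=
    fun t h1 h2 => (QuotientGroup.eq_one_iff t).2
      (scalar_of_comm_of_anticomm hV hab h1 h2)
  have hsub : (Subgroup.centralizer (M : Set (G ⧸ scal ρ)) : Set (G ⧸ scal ρ))
      ⊆ {1, (π a)⁻¹, (π b)⁻¹, (π a * π b)⁻¹} := by
    intro x hx
    obtain ⟨g, rfl⟩ := QuotientGroup.mk'_surjective _ x
    simp only [Set.mem_insert_iff, Set.mem_singleton_iff, eq_inv_iff_mul_eq_one]
    rcases hsign g a (hx _ ha).symm with h1 | h1 <;> rcases hsign g b (hx _ hb).symm with h2 | h2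
    · exact Or.inl (hscal g h1 h2)
    · refine Or.inr (Or.inl (hscal (g * a) ?_ ?_))
      · rw [map_mul, ← mul_assoc, h1]
      · rw [map_mul, mul_assoc, hAB, mul_neg, ← mul_assoc, h2, neg_mul, neg_neg, mul_assoc]
    · refine Or.inr (Or.inr (Or.inl (hscal (g * b) ?_ ?_)))
      · rw [map_mul, mul_assoc, hBA, mul_neg, ← mul_assoc, h1, neg_mul, neg_neg, mul_assoc]
      · rw [map_mul, ← mul_assoc, h2]
    · refine Or.inr (Or.inr (Or.inr (hscal (g * (a * b)) ?_ ?_)))
      · rw [map_mul, map_mul, mul_assoc, mul_assoc, hBA, mul_neg, mul_neg, ← mul_assoc (ρ g), h1,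
          neg_mul, neg_neg, mul_assoc]
      · rw [map_mul, map_mul, ← mul_assoc (ρ b), ← neg_eq_iff_eq_neg.2 h2, neg_mul,
          mul_assoc (ρ g) (ρ b), ← mul_assoc (ρ b), hBA, neg_mul, mul_neg, neg_neg, mul_assoc]
  have hC4 : Nat.card (Subgroup.centralizer (M : Set (G ⧸ scal ρ))) ≤ 4 :=
    (Set.ncard_le_ncard hsub).trans (Set.ncard_insert_le _ _ |>.trans (Nat.succ_le_succ
      (Set.ncard_insert_le _ _ |>.trans (Nat.succ_le_succ
        ((Set.ncard_insert_le _ _).trans (by simp))))))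
  have hMC : M ≤ Subgroup.centralizer (M : Set (G ⧸ scal ρ)) := fun x hx y hy => hMcomm y hy x hx
  have hC2 : 2 ∣ Nat.card (Subgroup.centralizer (M : Set (G ⧸ scal ρ))) := by
    have h1 : orderOf (π a) = 2 := by
      refine orderOf_eq_prime ?_ fun h1 => ?_
      · rw [← map_pow]
        refine hscal _ (by rw [map_pow, ← pow_succ, pow_succ']) ?_
        rw [sq, map_mul, mul_assoc, hAB, mul_neg, ← mul_assoc, hAB, neg_mul, neg_neg, mul_assoc]
      · obtain ⟨c, hc⟩ : a ∈ scal ρ := (QuotientGroup.eq_one_iff a).1 h1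
        exact hab (by simp [hc])
    rw [← h1]
    exact Subgroup.orderOf_dvd_natCard _ (hMC ha)
  have hC : Nat.card (Subgroup.centralizer (M : Set (G ⧸ scal ρ))) ∣ 4 := by
    have := Nat.card_pos (α := Subgroup.centralizer (M : Set (G ⧸ scal ρ)))
    generalize Nat.card (Subgroup.centralizer (M : Set (G ⧸ scal ρ))) = c at *
    interval_cases c <;> omega
  have hA : Nat.card (MulAut M) ∣ 6 := (card_mulAut_dvd_factorial M).trans
    (Nat.factorial_dvd_factorial (n := 3) (by have := Subgroup.card_le_of_le hMC; omega))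
  have h1 : Nat.card (G ⧸ scal ρ) ∣ 24 :=
    (card_dvd_centralizer_mul M).trans (Nat.mul_dvd_mul hC hA)
  have h2 := h.card_dvd
  rw [Subgroup.card_eq_card_quotient_mul_card_subgroup (scal ρ), hn] at h2
  have h3 := h2.trans (Nat.mul_dvd_mul h1 (card_scal_dvd hρ))
  rw [← one_pow 2, Nat.sq_sub_sq] at h3
  exact Nat.dvd_of_mul_dvd_mul_right (by have := hp.two_le; omega) h3

theorem card_dvd_card_GL (hρ : Function.Injective ρ) {n : ℕ} (hn : Nat.card V = p ^ n) :
    Nat.card G ∣ ∏ i : Fin n, (p ^ n - p ^ (i : ℕ)) := by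
  have b := Module.finBasisOfFinrankEq (ZMod p) V (finrank_eq_of_card hn)
  have := Subgroup.card_dvd_of_injective
    ((LinearMap.toMatrixAlgEquiv b).toMonoidHom.comp ρ).toHomUnits fun x y h =>
      hρ ((LinearMap.toMatrixAlgEquiv b).injective (congrArg Units.val h))
  rw [show Nat.card (Matrix (Fin n) (Fin n) (ZMod p))ˣ = Nat.card (GL (Fin n) (ZMod p)) from rfl,
    Matrix.card_GL_field, ZMod.card] at this
  exact this

theorem Trans.card_dvd_of_abelian (h : Trans ρ) (hρ : Function.Injective ρ) {A : Subgroup G}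
    [A.Normal] (hc : ∀ a ∈ A, ∀ b ∈ A, a * b = b * a) (hp : ¬ p ∣ Nat.card A)
    (W : Submodule (ZMod p) V) (hW : ∀ a ∈ A, ∀ v ∈ W, ρ a v ∈ W) :
    Nat.card A ∣ Nat.card W - 1 := by
  classical
  letI : MulAction A V := MulAction.compHom V (ρ.comp A.subtype)
  let S : SubMulAction A V :=
    { carrier := {v | v ∈ W ∧ v ≠ 0}
      smul_mem' := fun a v hv => ⟨hW a a.2 v hv.1, fun h0 => hv.2 (by
        have h1 : ρ a v = 0 := h0
        rw [← Rep.apply_inv_apply ρ a v, h1, map_zero])⟩ }
  have h1 : Nat.card S = Nat.card W - 1 := by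
    have : (S : Set V) = (W : Set V) \ {0} := rfl
    change Nat.card (S : Set V) = Nat.card (W : Set V) - 1
    rw [Nat.card_coe_set_eq, Nat.card_coe_set_eq, this, Set.ncard_sdiff_singleton_of_mem W.zero_mem]
  rw [← h1, Nat.card_congr (MulAction.selfEquivOrbitsQuotientProd (G := A) (X := S) fun v => ?_),
    Nat.card_prod]
  · exact Dvd.intro_left _ rfl
  · rw [eq_bot_iff]
    intro a ha
    exact Subtype.ext (h.semireg hρ hc a.2
      (fun h1 => hp (h1.trans (Subgroup.orderOf_dvd_natCard A a.2))) v.2.2 (congrArg Subtype.val ha))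

theorem prime_dvd_card_center {r : ℕ} (hr : r.Prime) {P : Subgroup G} (hP : IsPGroup r P)
    (h0 : P ≠ ⊥) : r ∣ Nat.card ↥(𝒵(P)) := by
  have := Fact.mk hr
  have := (Subgroup.nontrivial_iff_ne_bot P).2 h0
  obtain ⟨k, hk, hk'⟩ := ((hP.to_subgroup (Subgroup.center P)).nontrivial_iff_card).1
    hP.center_nontrivial
  rw [← center_map_subtype, Subgroup.card_subtype, hk']
  exact dvd_pow_self _ hk.ne'

theorem mem_centralizer_fitting {x : G}
    (h : ∀ r : ℕ, r.Prime → pCore r G ≠ ⊥ → x ∈ 𝒞(pCore r G)) : x ∈ 𝒞(fittingSubgroup G) := by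
  rw [← Subgroup.zpowers_le, Subgroup.le_centralizer_iff, Grp.fitting_eq_iSup_pCore]
  refine iSup_le fun r => ?_
  by_cases h0 : pCore r G = ⊥
  · rw [h0]; exact bot_le
  rw [← Subgroup.le_centralizer_iff, Subgroup.zpowers_le]
  exact h r r.2 h0

theorem Trans.two_six {V : Type*} [AddCommGroup V] [Module (ZMod 2) V] [Finite V]
    {ρ : G →* End (ZMod 2) V} [Group.IsSolvable G] (h : Trans ρ) (hρ : Function.Injective ρ)
    (hn : Nat.card V = 2 ^ 6) : IsSemiLin ρ 6 := by
  have := nontrivial_of_card (p := 2) (by norm_num) hn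
  have hV := finrank_eq_of_card hn
  have h63 : 63 ∣ Nat.card G := by have := h.card_dvd; rwa [hn] at this
  have hGL : Nat.card G ∣ 20158709760 := by
    have := card_dvd_card_GL hρ hn
    simpa [Fin.prod_univ_succ] using this
  have hO2 : pCore 2 G = ⊥ := normal_pGroup_eq_bot hρ h.irr (Grp.pCore_isPGroup 2 G)
  have hodd : ∀ A : Subgroup G, A ≤ fittingSubgroup G → ¬ 2 ∣ Nat.card A := by
    intro A hA h2
    obtain ⟨t, ht⟩ := exists_prime_orderOf_dvd_card' (G := A) 2 h2
    have ht' : orderOf (t : G) = 2 := by rw [Subgroup.orderOf_coe, ht]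
    have := Grp.le_pCore_of_le_fitting (p := 2) (P := Subgroup.zpowers (t : G))
      (IsPGroup.of_card (n := 1) (by rw [Nat.card_zpowers, ht', pow_one]))
      (Subgroup.zpowers_le.2 (hA t.2)) (Subgroup.mem_zpowers _)
    rw [hO2, Subgroup.mem_bot] at this
    rw [this, orderOf_one] at ht'
    omega
  have hab : ∀ (A : Subgroup G) [A.Normal], A ≤ fittingSubgroup G →
      (∀ a ∈ A, ∀ b ∈ A, a * b = b * a) → Nat.card A ∣ 63 := by
    intro A _ hA hc
    have := h.card_dvd_of_abelian hρ hc (hodd A hA) ⊤ fun _ _ _ _ => trivial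
    rwa [card_submodule, finrank_top, hV] at this
  have h37 : ∀ r : ℕ, r.Prime → pCore r G ≠ ⊥ → r = 3 ∨ r = 7 := by
    intro r hr h0
    have := Fact.mk hr
    have h1 := (prime_dvd_card_center hr (Grp.pCore_isPGroup r G) h0).trans
      (hab _ (inf_le_left.trans (Grp.pCore_le_fitting r)) fun a ha b hb => hb.2 a ha.1)
    rcases (Nat.Prime.dvd_mul hr (m := 3 ^ 2) (n := 7)).1 h1 with h2 | h2
    · exact Or.inl ((Nat.prime_dvd_prime_iff_eq hr Nat.prime_three).1 (hr.dvd_of_dvd_pow h2))
    · exact Or.inr ((Nat.prime_dvd_prime_iff_eq hr (by norm_num)).1 h2)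
  have f7 : Fact (Nat.Prime 7) := ⟨by norm_num⟩
  have hO7 : pCore 7 G ≠ ⊥ := by
    intro h0
    obtain ⟨x, hx⟩ := exists_prime_orderOf_dvd_card' (G := G) 7 ((by norm_num : 7 ∣ 63).trans h63)
    have hX : IsPGroup 7 (Subgroup.zpowers x) :=
      IsPGroup.of_card (n := 1) (by rw [Nat.card_zpowers, hx, pow_one])
    have h1 : x ∈ 𝒞(pCore 3 G) := by
      have h2 : Nat.card (pCore 3 G) ≡ Nat.card ↥(pCore 3 G ⊓ 𝒞(Subgroup.zpowers x)) [MOD 7] :=
        Block.card_modEq_card_centralizer hX (fun y => y ∈ pCore 3 G) fun u _ y hy =>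
          Subgroup.Normal.conj_mem inferInstance y hy u
      obtain ⟨i, hi⟩ := (Grp.pCore_isPGroup 3 G).exists_card_eq
      obtain ⟨j, hj⟩ := ((Grp.pCore_isPGroup 3 G).to_le
        (inf_le_left : pCore 3 G ⊓ 𝒞(Subgroup.zpowers x) ≤ _)).exists_card_eq
      have h3 : i < 5 := by
        by_contra h4
        have := ((pow_dvd_pow 3 (not_lt.1 h4)).trans
          (hi ▸ Subgroup.card_subgroup_dvd_card _)).trans hGL
        norm_num at this
      have h4 := Subgroup.card_le_of_le (inf_le_left : pCore 3 G ⊓ 𝒞(Subgroup.zpowers x) ≤ _)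
      have h5 : j ≤ i := by
        rw [hi, hj] at h4; exact (Nat.pow_le_pow_iff_right (by norm_num)).1 h4
      have h6 : i = j := by
        rw [hi, hj] at h2
        clear * - h2 h3 h5
        interval_cases i <;> interval_cases j <;> simp_all [Nat.ModEq]
      have h7 := Subgroup.eq_of_le_of_card_ge
        (inf_le_left : pCore 3 G ⊓ 𝒞(Subgroup.zpowers x) ≤ _) (by rw [hi, hj, h6])
      rw [← Subgroup.zpowers_le, Subgroup.le_centralizer_iff, ← h7]
      exact inf_le_right
    have h2 := mem_centralizer_fitting (x := x) fun r hr h3 => by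
      rcases h37 r hr h3 with rfl | rfl
      · exact h1
      · exact absurd h0 h3
    have h3 := Grp.le_pCore_of_le_fitting hX
      (Subgroup.zpowers_le.2 (Grp.centralizer_fitting_le G h2)) (Subgroup.mem_zpowers x)
    rw [h0, Subgroup.mem_bot] at h3
    rw [h3, orderOf_one] at hx
    omega
  have hO3 : pCore 3 G ≠ ⊥ := by
    intro h0
    obtain ⟨i, hi⟩ := (Grp.pCore_isPGroup 7 G).exists_card_eq
    have h3 : i < 3 := by
      by_contra h4
      have := ((pow_dvd_pow 7 (not_lt.1 h4)).trans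
        (hi ▸ Subgroup.card_subgroup_dvd_card _)).trans hGL
      norm_num at this
    have h4 : i = 1 := by
      by_contra h5
      have h6 : i = 0 ∨ i = 2 := by omega
      rcases h6 with rfl | rfl
      · exact hO7 (Subgroup.card_eq_one.1 hi)
      · have hc := IsPGroup.isMulCommutative_of_card_eq_prime_sq hi
        have := hab (pCore 7 G) (Grp.pCore_le_fitting 7) fun a ha b hb =>
          congrArg Subtype.val (hc.is_comm.comm ⟨a, ha⟩ ⟨b, hb⟩)
        rw [hi] at this
        norm_num at this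
    subst h4
    have hcyc : IsCyclic (pCore 7 G) := isCyclic_of_prime_card (p := 7) hi
    have h5 := card_dvd_centralizer_mul (pCore 7 G)
    have h6 : 𝒞(pCore 7 G) ≤ pCore 7 G := by
      intro x hx
      have h2 := Grp.centralizer_fitting_le G (mem_centralizer_fitting (x := x) fun r hr h3 => by
        rcases h37 r hr h3 with rfl | rfl
        · exact absurd h0 h3
        · exact hx)
      refine (?_ : fittingSubgroup G ≤ _) h2
      rw [Grp.fitting_eq_iSup_pCore]
      refine iSup_le fun r => ?_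
      by_cases h7 : pCore r G = ⊥
      · rw [h7]; exact bot_le
      rcases h37 r r.2 h7 with h8 | h8
      · rw [h8] at h7; exact absurd h0 h7
      · rw [h8]
    rw [IsCyclic.card_mulAut, hi, pow_one, Nat.totient_prime f7.out] at h5
    have h7 := h63.trans (h5.trans (Nat.mul_dvd_mul_right (Subgroup.card_dvd_of_le h6) _))
    rw [hi] at h7
    norm_num at h7
  have hdisj : Disjoint (pCore 3 G) (pCore 7 G) :=
    IsPGroup.disjoint_of_ne 3 7 (by norm_num) _ _ (Grp.pCore_isPGroup 3 G) (Grp.pCore_isPGroup 7 G)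
  have hcm := Subgroup.commute_of_normal_of_disjoint _ _ inferInstance inferInstance hdisj
  have hAF := Grp.centralizer_fitting_le G
  have d3 : 3 ∣ Nat.card ↥(𝒞(fittingSubgroup G)) :=
    (prime_dvd_card_center Nat.prime_three (Grp.pCore_isPGroup 3 G) hO3).trans
      (Subgroup.card_dvd_of_le fun z hz => mem_centralizer_fitting fun r hr h3 => by
        rcases h37 r hr h3 with rfl | rfl
        · exact hz.2
        · exact fun y hy => (hcm z y hz.1 hy).eq.symm)
  have d7 : 7 ∣ Nat.card ↥(𝒞(fittingSubgroup G)) :=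
    (prime_dvd_card_center f7.out (Grp.pCore_isPGroup 7 G) hO7).trans
      (Subgroup.card_dvd_of_le fun z hz => mem_centralizer_fitting fun r hr h3 => by
        rcases h37 r hr h3 with rfl | rfl
        · exact fun y hy => (hcm y z hy hz.1).eq
        · exact hz.2)
  have hc : ∀ a ∈ 𝒞(fittingSubgroup G), ∀ b ∈ 𝒞(fittingSubgroup G), a * b = b * a :=
    fun a ha b hb => hb a (hAF ha)
  refine semilinear_of_normal ρ 𝒞(fittingSubgroup G)
    (fun a ha b hb => by rw [← map_mul, ← map_mul, hc a ha b hb]) (fun W hW => ?_) hn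
  have h1 := h.card_dvd_of_abelian hρ hc (hodd _ hAF) W hW
  rw [card_submodule] at h1
  have h2 := d3.trans h1
  have h3 := d7.trans h1
  have h4 := Submodule.finrank_le W
  have h5 : finrank (ZMod 2) W = 0 ∨ finrank (ZMod 2) W = 6 := by
    rw [hV] at h4
    generalize finrank (ZMod 2) W = j at *
    interval_cases j <;> omega
  exact h5.imp Submodule.finrank_eq_zero.1 fun h => Submodule.eq_top_of_finrank_eq (h.trans hV.symm)

end Cfsg.Agent.Perm.SemiLin
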