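import Mathlib

/-! Quaternion coordinates over a non-commutative ring: the algebraic core of Zassenhaus' theorem
on perfect Frobenius complements. -/

set_option autoImplicit false

namespace Cfsg.Agent.Perm.Fpf

/-- Formal quaternions `a + b i + c j + d k` with coefficients in a non-commutative ring. -/
@[ext] structure Qd (C : Type*) where
  a : C
  b : C
  c : C
  d : C

variable {C : Type*} [Ring C]

/-- The product, the coefficients commuting with `i, j, k`. -/
def Qd.mul (p q : Qd C) : Qd C :=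
  ⟨p.a * q.a - p.b * q.b - p.c * q.c - p.d * q.d,
   p.a * q.b + p.b * q.a + p.c * q.d - p.d * q.c,
   p.a * q.c - p.b * q.d + p.c * q.a + p.d * q.b,
   p.a * q.d + p.b * q.c - p.c * q.b + p.d * q.a⟩

/-- The anticommutator `p q + q p`. -/
def Qd.anti (p q : Qd C) : Qd C :=
  ⟨(p.mul q).a + (q.mul p).a, (p.mul q).b + (q.mul p).b, (p.mul q).c + (q.mul p).c,
    (p.mul q).d + (q.mul p).d⟩

/-- The properties of the set of elements `2 y + 1`, `y` of order three. -/
structure Sys (P : Qd C → Prop) : Prop where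
  sq : ∀ p, P p → p.mul p = ⟨-3, 0, 0, 0⟩
  neg : ∀ p, P p → P ⟨-p.a, -p.b, -p.c, -p.d⟩
  ci : ∀ p, P p → P ⟨p.a, p.b, -p.c, -p.d⟩
  cj : ∀ p, P p → P ⟨p.a, -p.b, p.c, -p.d⟩
  cx : ∀ p, P p → P ⟨p.a, p.d, p.b, p.c⟩
  one : P ⟨0, 1, 1, 1⟩
  good : ∀ p q, P p → P q → q = p ∨ q = ⟨-p.a, -p.b, -p.c, -p.d⟩ ∨ p.anti q = ⟨2, 0, 0, 0⟩ ∨
    p.anti q = ⟨-2, 0, 0, 0⟩ ∨ (p.anti q).mul (p.anti q) = ⟨20, 0, 0, 0⟩
  five : ∀ p, P p → p.b = 0 → p.a * p.a ≠ -1

theorem nlit (n : ℕ) [n.AtLeastTwo] : (ofNat(n) : C) = (ofNat(n) : ℤ) • (1 : C) := by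
  rw [zsmul_one]; simp

variable [Algebra ℚ C]

theorem can (n : ℕ) [n.AtLeastTwo] {x y : C} (h : (ofNat(n) : C) * (x - y) = 0) : x = y := by
  have h1 : ((ofNat(n) : ℚ)) • (x - y) = 0 := by
    rw [Algebra.smul_def, map_ofNat]; exact h
  have h2 : (ofNat(n) : ℚ) ≠ 0 := by
    exact OfNat.ofNat_ne_zero n
  rw [← sub_eq_zero, ← inv_smul_smul₀ h2 (x - y), h1, smul_zero]

theorem int_inj [Nontrivial C] {x y : ℤ} (h : (x : C) = y) : x = y := by
  haveI : CharZero C := algebraRat.charZero C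
  exact Int.cast_injective h

theorem lit_ne [Nontrivial C] (n : ℕ) [n.AtLeastTwo] (h : (ofNat(n) : C) = 0) : False := by
  haveI : CharZero C := algebraRat.charZero C
  exact OfNat.ofNat_ne_zero n h

variable [Nontrivial C] {P : Qd C → Prop}

theorem Sys.ell (h : Sys P) {a b c d : C} (hp : P ⟨a, b, c, d⟩) :
    (a = 0 ∧ ∃ z : ℤ, (z = 1 ∨ z = -1 ∨ z = 3 ∨ z = -3) ∧ b + c + d = z) ∨
    ((b + c + d) * a + a * (b + c + d) = 0 ∧ (b + c + d) * (b + c + d) = 5 + 3 * (a * a)) := by
  have e : Qd.anti ⟨a, b, c, d⟩ ⟨0, 1, 1, 1⟩ = ⟨-2 * (b + c + d), 2 * a, 2 * a, 2 * a⟩ := by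
    ext <;> simp only [Qd.anti, Qd.mul] <;> grind
  rcases h.good _ _ hp h.one with h1 | h1 | h1 | h1 | h1
  · simp only [Qd.mk.injEq] at h1
    obtain ⟨rfl, rfl, rfl, rfl⟩ := h1
    exact Or.inl ⟨rfl, 3, by simp, by push_cast; grind⟩
  · simp only [Qd.mk.injEq] at h1
    obtain ⟨h1, h2, h3, h4⟩ := h1
    refine Or.inl ⟨by simpa using h1, -3, by simp, ?_⟩
    rw [neg_eq_iff_eq_neg.1 h2.symm, neg_eq_iff_eq_neg.1 h3.symm, neg_eq_iff_eq_neg.1 h4.symm]
    norm_num
  · rw [e] at h1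
    simp only [Qd.mk.injEq] at h1
    obtain ⟨h1, h2, -, -⟩ := h1
    refine Or.inl ⟨can 2 (by linear_combination (norm := grind) h2), -1, by simp, can 2 ?_⟩
    push_cast
    linear_combination (norm := grind) -h1
  · rw [e] at h1
    simp only [Qd.mk.injEq] at h1
    obtain ⟨h1, h2, -, -⟩ := h1
    refine Or.inl ⟨can 2 (by linear_combination (norm := grind) h2), 1, by simp, can 2 ?_⟩
    push_cast
    linear_combination (norm := grind) -h1
  · rw [e] at h1
    simp only [Qd.mul, Qd.mk.injEq] at h1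
    obtain ⟨h1, h2, -, -⟩ := h1
    refine Or.inr ⟨can 4 ?_, can 4 ?_⟩
    · linear_combination (norm := grind) -h2
    · linear_combination (norm := grind) h1

theorem Sys.of_re_ne (h : Sys P) {a b c d : C} (hp : P ⟨a, b, c, d⟩) (ha : a ≠ 0) :
    b * b = 2 ∧ b * b + c * c + d * d = 2 := by
  have f0 := (h.ell hp).resolve_left (fun hh => ha hh.1)
  have f1 := (h.ell (h.ci _ hp)).resolve_left (fun hh => ha hh.1)
  have f2 := (h.ell (h.cj _ hp)).resolve_left (fun hh => ha hh.1)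
  have f3 := (h.ell (h.cj _ (h.ci _ hp))).resolve_left (fun hh => ha hh.1)
  simp only at f1 f2 f3
  have hs := h.sq _ hp
  simp only [Qd.mul, Qd.mk.injEq] at hs
  obtain ⟨s0, s1, s2, s3⟩ := hs
  have ab : b * a + a * b = 0 := can 2 (by linear_combination (norm := grind) f0.1 + f1.1)
  have ac : c * a + a * c = 0 := can 2 (by linear_combination (norm := grind) f0.1 + f2.1)
  have ad : d * a + a * d = 0 := can 2 (by linear_combination (norm := grind) f0.1 + f3.1)
  have cd : d * c = c * d := by linear_combination (norm := grind) ab - s1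
  have bd : d * b = b * d := by linear_combination (norm := grind) s2 - ac
  have bc : c * b = b * c := by linear_combination (norm := grind) ad - s3
  have zbc : b * c = 0 := can 8 (by
    linear_combination (norm := grind) f0.2 - f1.2 - f2.2 + f3.2 - 4 * bc)
  have zbd : b * d = 0 := can 8 (by
    linear_combination (norm := grind) f0.2 - f1.2 + f2.2 - f3.2 - 4 * bd)
  have zcd : c * d = 0 := can 8 (by
    linear_combination (norm := grind) f0.2 + f1.2 - f2.2 - f3.2 - 4 * cd)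
  have aa : a * a = -1 := can 2 (by
    linear_combination (norm := grind) -s0 - f0.2 + 2 * zbc + 2 * zbd + 2 * zcd + bc + bd + cd)
  have sm : b * b + c * c + d * d = 2 := by linear_combination (norm := grind) aa - s0
  refine ⟨?_, sm⟩
  have b3 : b * b * b = 2 * b := by
    linear_combination (norm := grind) b * sm - zbc * c - zbd * d
  have hb0 : b ≠ 0 := fun hb => h.five _ hp hb aa
  have hb1 : b * b ≠ 1 := fun hb => hb0 (by linear_combination (norm := grind) hb * b - b3)
  have e : Qd.anti ⟨a, b, c, d⟩ ⟨a, b, -c, -d⟩ = ⟨2 - 4 * (b * b), 0, 0, 0⟩ := by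
    ext <;> simp only [Qd.anti, Qd.mul]
    · linear_combination (norm := grind) 2 * aa + 2 * sm
    · linear_combination (norm := grind) 2 * ab + 2 * cd
    · grind
    · grind
  rcases h.good _ _ hp (h.ci _ hp) with h1 | h1 | h1 | h1 | h1
  · simp only [Qd.mk.injEq] at h1
    obtain ⟨-, -, h3, h4⟩ := h1
    have hc : c = 0 := can 2 (by linear_combination (norm := grind) -h3)
    have hd : d = 0 := can 2 (by linear_combination (norm := grind) -h4)
    rw [hc, hd] at sm
    simpa using sm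
  · simp only [Qd.mk.injEq] at h1
    exact absurd (can 2 (by linear_combination (norm := grind) h1.1)) ha
  · rw [e] at h1
    simp only [Qd.mk.injEq] at h1
    have h2 : b * b = 0 := can 4 (by linear_combination (norm := grind) -h1.1)
    exact absurd (can 2 (by linear_combination (norm := grind) h2 * b - b3)) hb0
  · rw [e] at h1
    simp only [Qd.mk.injEq] at h1
    exact absurd (can 4 (by linear_combination (norm := grind) -h1.1)) hb1
  · rw [e] at h1
    simp only [Qd.mul, Qd.mk.injEq] at h1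
    exact absurd (can 16 (by linear_combination (norm := grind) h1.1 - 16 * (b3 * b))) hb1

theorem Sys.re_eq_zero (h : Sys P) {a b c d : C} (hp : P ⟨a, b, c, d⟩) : a = 0 := by
  by_contra ha
  have h1 := h.of_re_ne hp ha
  have h2 := h.of_re_ne (h.cx _ hp) ha
  have h3 := h.of_re_ne (h.cx _ (h.cx _ hp)) ha
  simp only at h2 h3
  exact lit_ne (C := C) 4 (by linear_combination (norm := grind) h1.2 - h1.1 - h2.1 - h3.1)

/-- The twelve elements attached to a golden number `φ`. -/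
def Form12 (φ : C) (p : Qd C) : Prop :=
  ∃ u v : C, (u = φ ∨ u = -φ) ∧ (v = φ - 1 ∨ v = -(φ - 1)) ∧
    (p = ⟨0, 0, u, v⟩ ∨ p = ⟨0, v, 0, u⟩ ∨ p = ⟨0, u, v, 0⟩)

/-- The eight elements `± i ± j ± k`. -/
def Form8 (p : Qd C) : Prop :=
  p.a = 0 ∧ (p.b = 1 ∨ p.b = -1) ∧ (p.c = 1 ∨ p.c = -1) ∧ (p.d = 1 ∨ p.d = -1)

omit [Nontrivial C] in
theorem golden_of {c d : C} (hcd : d * c = c * d) (h : c * c + d * d = 3)
    (h1 : c - d = 1 ∨ c - d = -1 ∨ c + d = 1 ∨ c + d = -1) :
    ∃ φ : C, φ * φ = φ + 1 ∧ (c = φ ∨ c = -φ) ∧ (d = φ - 1 ∨ d = -(φ - 1)) := by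
  rcases h1 with h1 | h1 | h1 | h1
  · obtain rfl : d = c - 1 := by rw [← h1]; abel
    exact ⟨c, can 2 (by linear_combination (norm := grind) h), Or.inl rfl, Or.inl rfl⟩
  · obtain rfl : d = c + 1 := by rw [← neg_eq_iff_eq_neg.2 h1]; abel
    exact ⟨-c, can 2 (by linear_combination (norm := grind) h), Or.inr (neg_neg c).symm,
      Or.inr (by abel)⟩
  · obtain rfl : d = 1 - c := by rw [← h1]; abel
    exact ⟨c, can 2 (by linear_combination (norm := grind) h), Or.inl rfl, Or.inr (by abel)⟩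
  · obtain rfl : d = -1 - c := by rw [← h1]; abel
    exact ⟨-c, can 2 (by linear_combination (norm := grind) h), Or.inr (neg_neg c).symm,
      Or.inl (by abel)⟩

theorem not_sq_five {s : C} (hs : s * s = 5) (z : ℤ) (h : s = z) : False := by
  have h1 : z * z = 5 := int_inj (C := C) (by push_cast; rw [← h, hs])
  have h2 : z ≤ 2 := by nlinarith
  have h3 : -2 ≤ z := by nlinarith
  interval_cases z <;> omega

theorem ell_two {s t : C} {z w : ℤ} (hs : s * s = 5) (ht : t * t = 5)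
    (hz : z = 1 ∨ z = -1 ∨ z = 3 ∨ z = -3) (hw : w = 1 ∨ w = -1 ∨ w = 3 ∨ w = -3)
    (h0 : s + t + z + w = 0) (h1 : s * s + t * t + z * z + w * w = 12) :
    s + t = 0 ∧ ((z : C) = 1 ∨ (z : C) = -1) := by
  have h2 : z * z + w * w = 2 := int_inj (C := C) (by
    push_cast; linear_combination (norm := grind) h1 - hs - ht)
  have h3 : (z = 1 ∨ z = -1) ∧ (w = 1 ∨ w = -1) := by
    rcases hz with rfl | rfl | rfl | rfl <;> rcases hw with rfl | rfl | rfl | rfl <;> simp_all
  obtain ⟨hz, hw⟩ := h3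
  rcases hz with rfl | rfl <;> rcases hw with rfl | rfl <;> push_cast at h0
  · exfalso
    obtain rfl : t = -2 - s := by linear_combination (norm := grind) 1 * h0
    exact not_sq_five hs (-1) (can 4 (by push_cast; linear_combination (norm := grind) ht - hs))
  · exact ⟨by linear_combination (norm := grind) 1 * h0, by simp⟩
  · exact ⟨by linear_combination (norm := grind) 1 * h0, by simp⟩
  · exfalso
    obtain rfl : t = 2 - s := by linear_combination (norm := grind) 1 * h0
    exact not_sq_five hs 1 (can 4 (by push_cast; linear_combination (norm := grind) hs - ht))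

theorem ell_three {s t u : C} {z : ℤ} (hs : s * s = 5) (ht : t * t = 5) (hu : u * u = 5)
    (h1 : s * s + t * t + u * u + z * z = 12) : False := by
  have h2 : z * z = -3 := int_inj (C := C) (by
    push_cast; linear_combination (norm := grind) h1 - hs - ht - hu)
  nlinarith

omit [Nontrivial C] in
theorem half_int {b : C} {z : ℤ} (hz : z = 2 ∨ z = -2) (h : 2 * b = z) : b = 1 ∨ b = -1 := by
  rcases hz with rfl | rfl
  · exact Or.inl (can 2 (by push_cast at h; linear_combination (norm := grind) h))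
  · exact Or.inr (can 2 (by push_cast at h; linear_combination (norm := grind) h))

theorem Sys.classify (h : Sys P) {p : Qd C} (hp : P p) :
    Form8 p ∨ ∃ φ : C, φ * φ = φ + 1 ∧ Form12 φ p := by
  obtain ⟨a, b, c, d⟩ := p
  obtain rfl := h.re_eq_zero hp
  have key : ∀ {b c d : C}, P ⟨0, b, c, d⟩ →
      (∃ z : ℤ, (z = 1 ∨ z = -1 ∨ z = 3 ∨ z = -3) ∧ b + c + d = z) ∨
        (b + c + d) * (b + c + d) = 5 := fun hp =>
    (h.ell hp).imp And.right (fun hh => by simpa using hh.2)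
  have f0 := key hp
  have f1 := key (h.ci _ hp)
  have f2 := key (h.cj _ hp)
  have f3 := key (h.cj _ (h.ci _ hp))
  simp only at f1 f2 f3
  have hs := h.sq _ hp
  simp only [Qd.mul, Qd.mk.injEq] at hs
  obtain ⟨s0, s1, s2, s3⟩ := hs
  have cd : d * c = c * d := by linear_combination (norm := grind) - s1
  have bd : d * b = b * d := by linear_combination (norm := grind) s2
  have bc : c * b = b * c := by linear_combination (norm := grind) - s3
  have sm : b * b + c * c + d * d = 3 := by linear_combination (norm := grind) - s0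
  set l0 := b + c + d with e0
  set l1 := b + -c + -d with e1
  set l2 := -b + c + -d with e2
  set l3 := -b + -c + - -d with e3
  have t0 : l0 + l1 + l2 + l3 = 0 := by rw [e0, e1, e2, e3]; abel
  have t1 : l0 * l0 + l1 * l1 + l2 * l2 + l3 * l3 = 12 := by
    rw [e0, e1, e2, e3]; linear_combination (norm := grind) 4 * sm
  have hb : 2 * b = l0 + l1 := by rw [e0, e1, two_mul]; abel
  have hc : 2 * c = l0 + l2 := by rw [e0, e2, two_mul]; abel
  have hd : 2 * d = l0 + l3 := by rw [e0, e3, two_mul]; abel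
  have B : b = 0 → (c - d = 1 ∨ c - d = -1 ∨ c + d = 1 ∨ c + d = -1) →
      Form8 ⟨0, b, c, d⟩ ∨ ∃ φ : C, φ * φ = φ + 1 ∧ Form12 φ ⟨0, b, c, d⟩ := by
    intro h0 h1
    obtain ⟨φ, g1, g2, g3⟩ := golden_of cd (by simpa [h0] using sm) h1
    exact Or.inr ⟨φ, g1, c, d, g2, g3, Or.inl (by rw [h0])⟩
  have Cc : c = 0 → (d - b = 1 ∨ d - b = -1 ∨ d + b = 1 ∨ d + b = -1) →
      Form8 ⟨0, b, c, d⟩ ∨ ∃ φ : C, φ * φ = φ + 1 ∧ Form12 φ ⟨0, b, c, d⟩ := by
    intro h0 h1
    obtain ⟨φ, g1, g2, g3⟩ := golden_of bd.symm (by simpa [h0, add_comm] using sm) h1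
    exact Or.inr ⟨φ, g1, d, b, g2, g3, Or.inr (Or.inl (by rw [h0]))⟩
  have D : d = 0 → (b - c = 1 ∨ b - c = -1 ∨ b + c = 1 ∨ b + c = -1) →
      Form8 ⟨0, b, c, d⟩ ∨ ∃ φ : C, φ * φ = φ + 1 ∧ Form12 φ ⟨0, b, c, d⟩ := by
    intro h0 h1
    obtain ⟨φ, g1, g2, g3⟩ := golden_of bc (by simpa [h0] using sm) h1
    exact Or.inr ⟨φ, g1, b, c, g2, g3, Or.inr (Or.inr (by rw [h0]))⟩
  rcases f0 with ⟨z0, g0, f0⟩ | f0 <;> rcases f1 with ⟨z1, g1, f1⟩ | f1 <;>
    rcases f2 with ⟨z2, g2, f2⟩ | f2 <;> rcases f3 with ⟨z3, g3, f3⟩ | f3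
  · left
    rw [f0, f1, f2, f3] at t0 t1
    have u0 : z0 + z1 + z2 + z3 = 0 := int_inj (C := C) (by push_cast; exact t0)
    have u1 : z0 * z0 + z1 * z1 + z2 * z2 + z3 * z3 = 12 := int_inj (C := C) (by push_cast; exact t1)
    have u2 : (z0 + z1 = 2 ∨ z0 + z1 = -2) ∧ (z0 + z2 = 2 ∨ z0 + z2 = -2) ∧
        (z0 + z3 = 2 ∨ z0 + z3 = -2) := by
      rcases g0 with rfl | rfl | rfl | rfl <;> rcases g1 with rfl | rfl | rfl | rfl <;>
        rcases g2 with rfl | rfl | rfl | rfl <;> rcases g3 with rfl | rfl | rfl | rfl <;> omega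
    exact ⟨rfl, half_int u2.1 (by rw [hb, f0, f1]; push_cast; rfl),
      half_int u2.2.1 (by rw [hc, f0, f2]; push_cast; rfl),
      half_int u2.2.2 (by rw [hd, f0, f3]; push_cast; rfl)⟩
  · exact (not_sq_five f3 (-(z0 + z1 + z2)) (by
      push_cast; rw [← f0, ← f1, ← f2]; linear_combination (norm := abel1) t0)).elim
  · exact (not_sq_five f2 (-(z0 + z1 + z3)) (by
      push_cast; rw [← f0, ← f1, ← f3]; linear_combination (norm := abel1) t0)).elim
  · obtain ⟨k1, k2⟩ := ell_two f2 f3 g0 g1 (by rw [← f0, ← f1, ← t0]; abel)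
      (by rw [← f0, ← f1, ← t1]; abel)
    have h0 : b = 0 := can 2 (by rw [e2, e3] at k1; linear_combination (norm := grind) -k1)
    refine B h0 (Or.inr (Or.inr ?_))
    rw [← f0, e0, h0, zero_add] at k2
    exact k2
  · exact (not_sq_five f1 (-(z0 + z2 + z3)) (by
      push_cast; rw [← f0, ← f2, ← f3]; linear_combination (norm := abel1) t0)).elim
  · obtain ⟨k1, k2⟩ := ell_two f1 f3 g0 g2 (by rw [← f0, ← f2, ← t0]; abel)
      (by rw [← f0, ← f2, ← t1]; abel)
    have h0 : c = 0 := can 2 (by rw [e1, e3] at k1; linear_combination (norm := grind) -k1)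
    refine Cc h0 (Or.inr (Or.inr ?_))
    rw [← f0, e0, h0, add_zero, add_comm] at k2
    exact k2
  · obtain ⟨k1, k2⟩ := ell_two f1 f2 g0 g3 (by rw [← f0, ← f3, ← t0]; abel)
      (by rw [← f0, ← f3, ← t1]; abel)
    have h0 : d = 0 := can 2 (by rw [e1, e2] at k1; linear_combination (norm := grind) -k1)
    refine D h0 (Or.inr (Or.inr ?_))
    rw [← f0, e0, h0, add_zero] at k2
    exact k2
  · exact (ell_three f1 f2 f3 (z := z0) (by rw [← f0, ← t1]; abel)).elim
  · exact (not_sq_five f0 (-(z1 + z2 + z3)) (by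
      push_cast; rw [← f1, ← f2, ← f3]; linear_combination (norm := abel1) t0)).elim
  · obtain ⟨k1, k2⟩ := ell_two f0 f3 g1 g2 (by rw [← f1, ← f2, ← t0]; abel)
      (by rw [← f1, ← f2, ← t1]; abel)
    have h0 : d = 0 := can 2 (by rw [← hd] at k1; linear_combination (norm := grind) k1)
    refine D h0 ?_
    rw [← f1, e1, h0, neg_zero, add_zero, ← sub_eq_add_neg] at k2
    exact k2.imp_right Or.inl
  · obtain ⟨k1, k2⟩ := ell_two f0 f2 g3 g1 (by rw [← f1, ← f3, ← t0]; abel)
      (by rw [← f1, ← f3, ← t1]; abel)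
    have h0 : c = 0 := can 2 (by rw [← hc] at k1; linear_combination (norm := grind) k1)
    refine Cc h0 ?_
    rw [← f3, e3, h0, neg_zero, add_zero, neg_neg, add_comm, ← sub_eq_add_neg] at k2
    exact k2.imp_right Or.inl
  · exact (ell_three f0 f2 f3 (z := z1) (by rw [← f1, ← t1]; abel)).elim
  · obtain ⟨k1, k2⟩ := ell_two f0 f1 g2 g3 (by rw [← f2, ← f3, ← t0])
      (by rw [← f2, ← f3, ← t1])
    have h0 : b = 0 := can 2 (by rw [← hb] at k1; linear_combination (norm := grind) k1)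
    refine B h0 ?_
    rw [← f2, e2, h0, neg_zero, zero_add, ← sub_eq_add_neg] at k2
    exact k2.imp_right Or.inl
  · exact (ell_three f0 f1 f3 (z := z2) (by rw [← f2, ← t1]; abel)).elim
  · exact (ell_three f0 f1 f2 (z := z3) (by rw [← f3, ← t1])).elim
  · exact (lit_ne (C := C) 8 (by linear_combination (norm := grind) t1 - f0 - f1 - f2 - f3)).elim

omit [Algebra ℚ C] [Nontrivial C] in
theorem Sys.std (h : Sys P) {φ : C} {p : Qd C} (hp : P p) (hf : Form12 φ p) :
    P ⟨0, 0, φ, φ - 1⟩ := by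
  obtain ⟨u, v, hu, hv, hf⟩ := hf
  have h1 : P ⟨0, 0, u, v⟩ := by
    rcases hf with rfl | rfl | rfl
    · exact hp
    · exact h.cx _ (h.cx _ hp)
    · exact h.cx _ hp
  rcases hu with rfl | rfl <;> rcases hv with rfl | rfl
  · exact h1
  · simpa using h.cj _ h1
  · simpa using h.cj _ (h.ci _ h1)
  · simpa using h.ci _ h1

theorem Sys.golden_unique (h : Sys P) {φ ψ : C} (hφ : φ * φ = φ + 1) (hψ : ψ * ψ = ψ + 1)
    (hp : P ⟨0, 0, φ, φ - 1⟩) (hq : P ⟨0, 0, ψ, ψ - 1⟩) : ψ = φ := by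
  by_contra hne
  obtain ⟨w, hw⟩ : ∃ w, w = φ * ψ + ψ * φ - φ - ψ := ⟨_, rfl⟩
  obtain ⟨k, hk⟩ : ∃ k, k = φ * ψ - ψ * φ := ⟨_, rfl⟩
  have kk : k * k = w * w + w - 6 := by
    rw [hk, hw]
    linear_combination (norm := grind) -2 * (φ * hψ * φ) - 2 * (ψ * hφ * ψ) - 3 * hφ - 3 * hψ +
      φ * hψ + ψ * hφ + hφ * ψ + hψ * φ
  have e1 : Qd.anti ⟨0, 0, φ, φ - 1⟩ ⟨0, 0, ψ, ψ - 1⟩ = ⟨-2 * w - 2, 0, 0, 0⟩ := by
    rw [hw]
    ext <;> simp only [Qd.anti, Qd.mul] <;> grind
  have f1 : w = -2 ∨ w = 0 ∨ w * w + 2 * w = 4 := by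
    rcases h.good _ _ hp hq with h1 | h1 | h1 | h1 | h1
    · simp only [Qd.mk.injEq] at h1
      exact absurd h1.2.2.1 hne
    · simp only [Qd.mk.injEq] at h1
      exact (lit_ne (C := C) 2 (by linear_combination (norm := grind) 1 * h1.2.2.1 - h1.2.2.2)).elim
    · rw [e1] at h1
      simp only [Qd.mk.injEq] at h1
      exact Or.inl (can 2 (by linear_combination (norm := grind) -h1.1))
    · rw [e1] at h1
      simp only [Qd.mk.injEq] at h1
      exact Or.inr (Or.inl (can 2 (by linear_combination (norm := grind) -h1.1)))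
    · rw [e1] at h1
      simp only [Qd.mul, Qd.mk.injEq] at h1
      exact Or.inr (Or.inr (can 4 (by linear_combination (norm := grind) h1.1)))
  have hk0 : k ≠ 0 := by
    intro h0
    rw [h0] at kk
    have h2 : w ≠ -2 := fun h2 => by
      rw [h2] at kk
      exact lit_ne (C := C) 4 (by linear_combination (norm := norm_num) kk)
    rcases f1 with f | f | f
    · exact h2 f
    · rw [f] at kk
      exact lit_ne (C := C) 6 (by linear_combination (norm := norm_num) kk)
    · exact h2 (by linear_combination (norm := (simp only [nlit (C := C)]; noncomm_ring)) f + kk)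
  have e2 : Qd.anti ⟨0, 0, φ, φ - 1⟩ ⟨0, -0, ψ, -(ψ - 1)⟩ = ⟨2 - 2 * φ - 2 * ψ, -2 * k, 0, 0⟩ := by
    rw [hk]
    ext <;> simp only [Qd.anti, Qd.mul] <;> grind
  have f2 : w = -2 := by
    rcases h.good _ _ hp (h.cj _ hq) with h1 | h1 | h1 | h1 | h1
    · simp only [Qd.mk.injEq] at h1
      exact absurd h1.2.2.1 hne
    · simp only [Qd.mk.injEq] at h1
      exact absurd (by rw [hk, h1.2.2.1]; grind) hk0
    · rw [e2] at h1
      simp only [Qd.mk.injEq] at h1
      exact absurd (can 2 (by linear_combination (norm := grind) -h1.2.1)) hk0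
    · rw [e2] at h1
      simp only [Qd.mk.injEq] at h1
      exact absurd (can 2 (by linear_combination (norm := grind) -h1.2.1)) hk0
    · rw [e2] at h1
      simp only [Qd.mul, Qd.mk.injEq] at h1
      have h2 : w * w = 4 := can 4 (by
        linear_combination (norm := grind) -h1.1 - 4 * kk + 4 * hφ + 4 * hψ - 4 * hw)
      have h3 : w ≠ 0 := fun h3 => by
        rw [h3] at h2
        exact lit_ne (C := C) 4 (by linear_combination (norm := grind) -h2)
      rcases f1 with f | f | f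
      · exact f
      · exact absurd f h3
      · exact absurd (can 2 (by linear_combination (norm := grind) f - h2)) h3
  have e3 : Qd.anti ⟨0, 0, φ, φ - 1⟩ ⟨0, ψ - 1, 0, ψ⟩ = ⟨2 - φ + ψ, k, k, -k⟩ := by
    rw [hk]
    ext <;> simp only [Qd.anti, Qd.mul]
    · linear_combination (norm := grind) hw - f2
    · grind
    · grind
    · grind
  rcases h.good _ _ hp (h.cx _ hq) with h1 | h1 | h1 | h1 | h1
  · simp only [Qd.mk.injEq] at h1
    exact absurd (by rw [hk, sub_eq_zero.1 h1.2.1]; simp) hk0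
  · simp only [Qd.mk.injEq, neg_zero] at h1
    exact absurd (by rw [hk, sub_eq_zero.1 h1.2.1]; simp) hk0
  · rw [e3] at h1
    simp only [Qd.mk.injEq] at h1
    exact hk0 h1.2.1
  · rw [e3] at h1
    simp only [Qd.mk.injEq] at h1
    exact hk0 h1.2.1
  · rw [e3] at h1
    simp only [Qd.mul, Qd.mk.injEq] at h1
    have a1 : k * φ + φ * k = k := by
      rw [hk]; linear_combination (norm := grind) hφ * ψ - ψ * hφ
    have a2 : k * ψ + ψ * k = k := by
      rw [hk]; linear_combination (norm := grind) φ * hψ - hψ * φ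
    exact hk0 (can 4 (by linear_combination (norm := grind) h1.2.1 + a1 - a2))

/-- All the elements of the system lie among the twenty elements attached to one golden number. -/
theorem Sys.exists_golden (h : Sys P) (h0 : ∃ φ : C, φ * φ = φ + 1) :
    ∃ φ : C, φ * φ = φ + 1 ∧ ∀ p, P p → Form8 p ∨ Form12 φ p := by
  by_cases h1 : ∀ p, P p → Form8 p
  · obtain ⟨φ, hφ⟩ := h0
    exact ⟨φ, hφ, fun p hp => Or.inl (h1 p hp)⟩
  push Not at h1
  obtain ⟨p, hp, h1⟩ := h1
  obtain ⟨φ, hφ, hf⟩ := (h.classify hp).resolve_left h1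
  refine ⟨φ, hφ, fun q hq => (h.classify hq).imp_right ?_⟩
  rintro ⟨ψ, hψ, hg⟩
  rwa [← h.golden_unique hφ hψ (h.std hp hf) (h.std hq hg)]

end Cfsg.Agent.Perm.Fpf
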