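import Mathlib

/-!
A trigonometric Diophantine equation: `ζ + ζ⁻¹ + η + η⁻¹ = 1` in roots of unity.
-/

set_option autoImplicit false

namespace Cfsg.Agent.Perm.Fpf

theorem add_inv_eq_of_pow_eq_one {z : ℂ} {n : ℕ} (hn : n ≠ 0) (hz : z ^ n = 1) :
    ∃ t : ℝ, -2 ≤ t ∧ t ≤ 2 ∧ z + z⁻¹ = t := by
  have h1 : ‖z‖ = 1 := Complex.norm_eq_one_of_pow_eq_one hz hn
  have h2 := Complex.abs_re_le_norm z
  rw [h1, abs_le] at h2
  refine ⟨2 * z.re, by linarith [h2.1], by linarith [h2.2], ?_⟩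
  rw [Complex.inv_eq_conj h1, Complex.add_conj]

theorem root_sum_eq_one {ζ η : ℂ} {n : ℕ} (hn : n ≠ 0) (hζ : ζ ^ n = 1) (hη : η ^ n = 1)
    (h : ζ + ζ⁻¹ + (η + η⁻¹) = 1) :
    ζ + ζ⁻¹ = 2 ∨ ζ + ζ⁻¹ = -1 ∨ ζ + ζ⁻¹ = 1 ∨ ζ + ζ⁻¹ = 0 ∨
      (ζ + ζ⁻¹) ^ 2 = (ζ + ζ⁻¹) + 1 := by
  have hint : ∀ {F : Type} [Field F] (z : F), z ^ n = 1 → IsIntegral ℤ z := by
    intro F _ z hz
    exact IsIntegral.of_pow (Nat.pos_of_ne_zero hn) (hz ▸ isIntegral_one)
  let K := IntermediateField.adjoin ℚ ({ζ, η} : Set ℂ)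
  have : FiniteDimensional ℚ K := by
    apply IntermediateField.finiteDimensional_adjoin
    rintro x (rfl | rfl)
    · exact (hint _ hζ).tower_top
    · exact (hint _ hη).tower_top
  have : NumberField K := {}
  let z : K := ⟨ζ, IntermediateField.subset_adjoin _ _ (by simp)⟩
  let w : K := ⟨η, IntermediateField.subset_adjoin _ _ (by simp)⟩
  have hz : z ^ n = 1 := Subtype.ext hζ
  have hw : w ^ n = 1 := Subtype.ext hη
  have hzw : z + z⁻¹ + (w + w⁻¹) = 1 := Subtype.ext h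
  have ha : IsIntegral ℤ (z + z⁻¹) :=
    (hint z hz).add (hint z⁻¹ (by rw [inv_pow, hz, inv_one]))
  set a := z + z⁻¹ with ha'
  have hc : IsIntegral ℤ (a * (1 - a)) := ha.mul (isIntegral_one.sub ha)
  have hα : IsIntegral ℤ (a * (1 - a) * (a * (1 - a) + 1) * (a * (1 - a) + 1 + 1)) :=
    (hc.mul (hc.add isIntegral_one)).mul ((hc.add isIntegral_one).add isIntegral_one)
  have h0 : a * (1 - a) * (a * (1 - a) + 1) * (a * (1 - a) + 1 + 1) = 0 := by
    by_contra hne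
    obtain ⟨σ, hσ⟩ := NumberField.exists_conjugate_one_le_norm (K := K) (α := ⟨_, hα⟩)
      (fun h => hne (congrArg Subtype.val h))
    obtain ⟨t, ht1, ht2, ht⟩ := add_inv_eq_of_pow_eq_one (z := σ z) hn (by rw [← map_pow, hz, map_one])
    obtain ⟨u, hu1, hu2, hu⟩ := add_inv_eq_of_pow_eq_one (z := σ w) hn (by rw [← map_pow, hw, map_one])
    have h1 : σ a = t := by rw [ha', map_add, map_inv₀, ht]
    have h2 : t + u = 1 := by
      have := congrArg σ hzw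
      rw [map_add, h1, map_add, map_inv₀, hu, map_one] at this
      exact_mod_cast this
    change 1 ≤ ‖σ (a * (1 - a) * (a * (1 - a) + 1) * (a * (1 - a) + 1 + 1))‖ at hσ
    simp only [map_mul, map_add, map_sub, map_one, h1] at hσ
    norm_cast at hσ
    have h3 : -2 ≤ t * (1 - t) := by nlinarith
    have h4 : t * (1 - t) ≤ 1 / 4 := by nlinarith [sq_nonneg (t - 1 / 2)]
    generalize t * (1 - t) = c at hσ h3 h4
    rw [Real.norm_eq_abs, le_abs] at hσ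
    rcases hσ with hσ | hσ
    · nlinarith [sq_nonneg (c + 1), sq_nonneg (c + 3 / 2), mul_nonneg (sub_nonneg.2 h3) (sub_nonneg.2 h4)]
    · nlinarith [sq_nonneg (c + 1), sq_nonneg (c + 1 / 2), mul_nonneg (sub_nonneg.2 h3) (sub_nonneg.2 h4)]
  have h1 := congrArg (fun x : K => (x : ℂ)) h0
  have h2 : ((a : K) : ℂ) = ζ + ζ⁻¹ := rfl
  push_cast at h1
  rw [h2] at h1
  generalize ζ + ζ⁻¹ = b at h1 ⊢
  have h3 : (b - 2) * ((b + 1) * ((b - 1) * (b * (b ^ 2 - (b + 1))))) = 0 := by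
    linear_combination -h1
  simp only [mul_eq_zero, sub_eq_zero, add_eq_zero_iff_eq_neg] at h3
  exact h3

end Cfsg.Agent.Perm.Fpf
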