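import Mathlib
import Cfsg.Agent.FGS.FpfFun
import Cfsg.Agent.Perm.FpfRoot

/-! Products of two elements of order three in a fixed-point-free linear group. -/

set_option autoImplicit false

namespace Cfsg.Agent.Perm.Fpf

/-- A representation of `G` in a ring in which `g - 1` is invertible for `g ≠ 1`, together with the
possible values of `xy + (xy)⁻¹` for elements `x, y` of order three. -/
structure FRep {G R : Type*} [Group G] [Ring R] (ρ : G →* R) : Prop where
  unit : ∀ g, g ≠ 1 → IsUnit (ρ g - 1)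
  tr : ∀ x y, orderOf x = 3 → orderOf y = 3 → x * y = 1 ∨ x = y ∨
    ρ (x * y) + ρ (x * y)⁻¹ = 1 ∨ ρ (x * y) + ρ (x * y)⁻¹ = 0 ∨
    (ρ (x * y) + ρ (x * y)⁻¹) * (ρ (x * y) + ρ (x * y)⁻¹) = (ρ (x * y) + ρ (x * y)⁻¹) + 1

section
variable {G R : Type*} [Group G] [Ring R] {ρ : G →* R}

theorem cube_rel (hu : ∀ g, g ≠ 1 → IsUnit (ρ g - 1)) {x : G} (hx : orderOf x = 3) :
    ρ x * ρ x + ρ x + 1 = 0 := by
  have h1 : x ≠ 1 := by rintro rfl; simp at hx
  have h2 : ρ x * ρ x * ρ x = 1 := by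
    rw [← map_mul, ← map_mul, ← pow_three', ← hx, pow_orderOf_eq_one, map_one]
  apply (hu x h1).mul_left_cancel
  linear_combination (norm := noncomm_ring) h2

theorem inv_rel (hu : ∀ g, g ≠ 1 → IsUnit (ρ g - 1)) {x : G} (hx : orderOf x = 3) :
    ρ x⁻¹ = -1 - ρ x := by
  have h1 : x⁻¹ = x * x := by
    rw [inv_eq_iff_mul_eq_one, ← pow_three, ← hx, pow_orderOf_eq_one]
  rw [h1, map_mul]
  linear_combination (norm := noncomm_ring) cube_rel hu hx

theorem tr_eq (hu : ∀ g, g ≠ 1 → IsUnit (ρ g - 1)) {x y : G} (hx : orderOf x = 3)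
    (hy : orderOf y = 3) :
    ρ (x * y) + ρ (x * y)⁻¹ = ρ x * ρ y + ρ y * ρ x + ρ x + ρ y + 1 := by
  rw [mul_inv_rev, map_mul, map_mul, inv_rel hu hx, inv_rel hu hy]
  noncomm_ring

theorem sq_eq_neg_one (hu : ∀ g, g ≠ 1 → IsUnit (ρ g - 1)) {g : G} (h1 : g ≠ 1) (h2 : g * g = 1) :
    ρ g = -1 := by
  have h3 : ρ g * ρ g = 1 := by rw [← map_mul, h2, map_one]
  rw [← add_eq_zero_iff_eq_neg]
  apply (hu g h1).mul_left_cancel
  linear_combination (norm := noncomm_ring) h3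

end

variable {G V : Type*} [Group G] [Finite G] [AddCommGroup V] [Module ℂ V] [FiniteDimensional ℂ V]
  {ρ : G →* Module.End ℂ V}

omit [Finite G] in
theorem unit_of_fpf (hρ : ∀ g, g ≠ 1 → ∀ v, ρ g v = v → v = 0) (g : G) (hg : g ≠ 1) :
    IsUnit (ρ g - 1) := by
  rw [LinearMap.isUnit_iff_ker_eq_bot, LinearMap.ker_eq_bot']
  intro v hv
  exact hρ g hg v (by simpa [sub_eq_zero] using hv)

omit [Finite G] in
theorem exists_root (hρ : ∀ g, g ≠ 1 → ∀ v, ρ g v = v → v = 0) (E : Submodule ℂ V) (hE : E ≠ ⊥)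
    (g : G) (hg : ∀ v ∈ E, ρ g v ∈ E) {c : ℂ} (hc : ∀ v ∈ E, (ρ g + ρ g⁻¹) v = c • v) :
    ∃ ζ : ℂ, ζ ≠ 0 ∧ ζ + ζ⁻¹ = c ∧ ∀ m : ℕ, ζ ^ m = 1 ↔ g ^ m = 1 := by
  haveI : Nontrivial E := Submodule.nontrivial_iff_ne_bot.2 hE
  obtain ⟨ζ, hζ⟩ := Module.End.exists_eigenvalue ((ρ g).restrict hg)
  obtain ⟨v, hv⟩ := hζ.exists_hasEigenvector
  have h0 : (v : V) ≠ 0 := fun h => hv.2 (Subtype.ext h)
  have h1 : ρ g v = ζ • (v : V) := congrArg Subtype.val hv.apply_eq_smul
  have h2 : ∀ m : ℕ, ρ (g ^ m) v = ζ ^ m • (v : V) := by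
    intro m
    induction m with
    | zero => simp
    | succ m ih => rw [pow_succ, map_mul, Module.End.mul_apply, h1, map_smul, ih, smul_smul, pow_succ']
  have h3 : ζ • ρ g⁻¹ v = v := by
    rw [← map_smul, ← h1, ← Module.End.mul_apply, ← map_mul, inv_mul_cancel, map_one,
      Module.End.one_apply]
  have hζ0 : ζ ≠ 0 := by
    rintro rfl
    exact h0 (by rw [← h3, zero_smul])
  have h4 : ρ g⁻¹ v = ζ⁻¹ • (v : V) := by
    rw [eq_inv_smul_iff₀ hζ0, h3]
  refine ⟨ζ, hζ0, ?_, fun m => ⟨fun h => ?_, fun h => ?_⟩⟩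
  · have h5 := hc v v.2
    rw [LinearMap.add_apply, h1, h4, ← add_smul] at h5
    exact smul_left_injective ℂ h0 h5
  · by_contra hne
    exact h0 (hρ _ hne _ (by rw [h2, h, one_smul]))
  · have h5 := h2 m
    rw [h, map_one, Module.End.one_apply] at h5
    exact smul_left_injective ℂ h0 (by simpa using h5.symm)

theorem tr_zero_of_root {G R : Type*} [Group G] [Ring R] {ρ : G →* R}
    (hu : ∀ g, g ≠ 1 → IsUnit (ρ g - 1)) {g : G} {ζ : ℂ} (h0 : ζ ≠ 0)
    (h : ∀ m : ℕ, ζ ^ m = 1 ↔ g ^ m = 1) (h1 : ζ + ζ⁻¹ = 0) : ρ g + ρ g⁻¹ = 0 := by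
  have h2 : ζ ^ 2 = -1 := by field_simp at h1; linear_combination h1
  have h3 : g ^ 4 = 1 := (h 4).1 (by linear_combination (ζ ^ 2 - 1) * h2)
  have h4 : g ^ 2 ≠ 1 := fun hh => by
    have := (h 2).2 hh
    rw [h2] at this
    norm_num at this
  have h5 := sq_eq_neg_one hu h4 (by rw [← pow_add]; exact h3)
  have h6 : ρ g⁻¹ * ρ g = 1 := by rw [← map_mul, inv_mul_cancel, map_one]
  rw [pow_two, map_mul] at h5
  linear_combination (norm := noncomm_ring) ρ g⁻¹ * h5 - h6 * ρ g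

theorem tr_golden_of_root {G R : Type*} [Group G] [Ring R] {ρ : G →* R}
    (hu : ∀ g, g ≠ 1 → IsUnit (ρ g - 1)) {g : G} {ζ : ℂ} (h0 : ζ ≠ 0)
    (h : ∀ m : ℕ, ζ ^ m = 1 ↔ g ^ m = 1) (h1 : (ζ + ζ⁻¹) ^ 2 = ζ + ζ⁻¹ + 1) :
    (ρ g + ρ g⁻¹) * (ρ g + ρ g⁻¹) = ρ g + ρ g⁻¹ + 1 := by
  have h2 : ζ ^ 4 - ζ ^ 3 + ζ ^ 2 - ζ + 1 = 0 := by field_simp at h1; linear_combination h1
  have h5 : ζ ^ 5 = -1 := by linear_combination (ζ + 1) * h2
  have h3 : g ^ 10 = 1 := (h 10).1 (by linear_combination (ζ ^ 5 - 1) * h5)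
  have h4 : g ^ 5 ≠ 1 := fun hh => by
    have := (h 5).2 hh
    rw [h5] at this
    norm_num at this
  have h6 : g ^ 2 ≠ 1 := fun hh => by
    have h7 := (h 2).2 hh
    have h8 : ζ = 3 / 2 := by linear_combination (-1 / 2) * h2 + (ζ ^ 2 - ζ + 2) / 2 * h7
    rw [h8] at h7
    norm_num at h7
  have h7 := sq_eq_neg_one hu h4 (by rw [← pow_add]; exact h3)
  have h8 := hu _ h6
  rw [map_pow] at h7 h8
  have h9 : ρ g ^ 4 - ρ g ^ 3 + ρ g ^ 2 - ρ g + 1 = 0 := by
    apply h8.mul_left_cancel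
    linear_combination (norm := noncomm_ring) (ρ g - 1) * h7
  have h10 : ρ g * ρ g⁻¹ = 1 := by rw [← map_mul, mul_inv_cancel, map_one]
  have h11 : ρ g⁻¹ * ρ g = 1 := by rw [← map_mul, inv_mul_cancel, map_one]
  have h12 : IsUnit (ρ g * ρ g) := by rw [← map_mul]; exact (Group.isUnit _).map ρ
  apply h12.mul_left_cancel
  linear_combination (norm := noncomm_ring) h9 + ρ g * ρ g * h10 + ρ g * ρ g * h11 +
    ρ g * h10 * ρ g⁻¹ + h10 - ρ g * h10

theorem frep_of_fpf [Nontrivial V] (hρ : ∀ g, g ≠ 1 → ∀ v, ρ g v = v → v = 0) : FRep ρ := by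
  have hu := unit_of_fpf hρ
  refine ⟨hu, fun x y hx hy => ?_⟩
  have hy' : orderOf y⁻¹ = 3 := by rw [orderOf_inv, hy]
  have ea := tr_eq hu hx hy
  have eb := tr_eq hu hx hy'
  rw [inv_rel hu hy] at eb
  set a := ρ (x * y) + ρ (x * y)⁻¹ with ha
  set b := ρ (x * y⁻¹) + ρ (x * y⁻¹)⁻¹ with hb
  have hab : b = 1 - a := by rw [ea, eb]; noncomm_ring
  have cx : Commute a (ρ x) := by
    rw [ea, Commute, SemiconjBy]
    linear_combination (norm := noncomm_ring) ρ y * cube_rel hu hx - cube_rel hu hx * ρ y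
  have cy : Commute a (ρ y) := by
    rw [ea, Commute, SemiconjBy]
    linear_combination (norm := noncomm_ring) ρ x * cube_rel hu hy - cube_rel hu hy * ρ x
  have cy' : Commute a (ρ y⁻¹) := by
    rw [inv_rel hu hy]
    exact ((Commute.one_right a).neg_right).sub_right cy
  obtain ⟨c, hc⟩ := Module.End.exists_eigenvalue a
  have hE : a.eigenspace c ≠ ⊥ := hc
  have inv : ∀ g : G, Commute a (ρ g) → ∀ v ∈ a.eigenspace c, ρ g v ∈ a.eigenspace c := by
    intro g hg v hv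
    rw [Module.End.mem_eigenspace_iff] at hv ⊢
    rw [← Module.End.mul_apply, hg.eq, Module.End.mul_apply, hv, map_smul]
  obtain ⟨ζ, z0, z1, z2⟩ := exists_root hρ _ hE (x * y)
    (inv _ (by rw [map_mul]; exact cx.mul_right cy)) (c := c)
    (fun v hv => Module.End.mem_eigenspace_iff.1 hv)
  obtain ⟨η, w0, w1, w2⟩ := exists_root hρ _ hE (x * y⁻¹)
    (inv _ (by rw [map_mul]; exact cx.mul_right cy')) (c := 1 - c)
    (fun v hv => by
      rw [← hb, hab, LinearMap.sub_apply, Module.End.mem_eigenspace_iff.1 hv, sub_smul, one_smul,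
        Module.End.one_apply])
  rcases root_sum_eq_one (n := Nat.card G) Nat.card_pos.ne' ((z2 _).2 pow_card_eq_one')
    ((w2 _).2 pow_card_eq_one') (by rw [z1, w1]; ring) with h | h | h | h | h
  · left
    have h1 : ζ = 1 := by
      field_simp at h
      exact sub_eq_zero.1 (pow_eq_zero_iff (n := 2) (by norm_num) |>.1 (by linear_combination h))
    simpa using (z2 1).1 (by simpa using h1)
  · right; left
    have h2 : η + η⁻¹ = 2 := by rw [w1, ← z1, h]; ring
    have h1 : η = 1 := by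
      field_simp at h2
      exact sub_eq_zero.1 (pow_eq_zero_iff (n := 2) (by norm_num) |>.1 (by linear_combination h2))
    simpa [mul_inv_eq_one] using (w2 1).1 (by simpa using h1)
  · right; right; left
    have h1 := tr_zero_of_root hu w0 w2 (by rw [w1, ← z1, h]; ring)
    rw [← hb, hab] at h1
    exact (sub_eq_zero.1 h1).symm
  · right; right; right; left
    exact tr_zero_of_root hu z0 z2 h
  · right; right; right; right
    exact tr_golden_of_root hu z0 z2 h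

open FGS.FrobCompl in
/-- A Frobenius complement has a representation with the properties `FRep`. -/
theorem exists_frep.{u} {G : Type u} [Group G] [Finite G] (h : Occurs G) :
    ∃ (R : Type u) (_ : Ring R) (_ : Algebra ℚ R) (_ : Nontrivial R) (ρ : G →* R), FRep ρ ∧
      ∃ φ : R, φ * φ = φ + 1 ∧ ∀ r, φ * r = r * φ := by
  obtain ⟨f₀, hf₀, hf0⟩ := Occurs.exists_int h
  let τ : G →* Module.End ℂ (G → ℂ) :=
    { toFun := fun x => LinearMap.funLeft ℂ ℂ (fun g => x⁻¹ * g)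
      map_one' := by ext f g; simp
      map_mul' := fun x y => by ext f g; simp [mul_assoc] }
  have hτ : ∀ x f g, τ x f g = f (x⁻¹ * g) := fun _ _ _ => rfl
  let U : Submodule ℂ (G → ℂ) :=
    { carrier := {f | FpfFun f}
      add_mem' := fun h1 h2 => (fpfSub G ℂ).add_mem h1 h2
      zero_mem' := (fpfSub G ℂ).zero_mem
      smul_mem' := fun c f hf => FpfFun.map hf (AddMonoidHom.mulLeft c) }
  have hU : U ≠ ⊥ := by
    rw [Submodule.ne_bot_iff]
    refine ⟨fun g => (f₀ g : ℂ), hf₀.map (Int.castAddHom ℂ), fun h => hf0 ?_⟩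
    funext g
    exact Int.cast_eq_zero.1 (congrFun h g)
  have hUτ : ∀ x, ∀ f ∈ U, τ x f ∈ U := fun x f hf => FpfFun.left hf x⁻¹
  have hfpf : ∀ x : G, x ≠ 1 → ∀ f ∈ U, τ x f = f → f = 0 := by
    intro x hx f hf h
    have h1 : orderOf x ≠ 1 := by simpa using hx
    obtain ⟨r, hr, hra⟩ := Nat.exists_prime_and_dvd h1
    have h2 : orderOf (x ^ (orderOf x / r)) = r :=
      orderOf_pow_orderOf_div (orderOf_pos x).ne' hra
    have h3 : ∀ (i : ℕ) g, f (x ^ i * g) = f g := by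
      intro i g
      induction i with
      | zero => simp
      | succ i ih => rw [← ih, ← congrFun h (x ^ (i + 1) * g), hτ, pow_succ', mul_assoc,
          inv_mul_cancel_left]
    funext g
    have h4 := hf _ (h2.symm ▸ hr) g
    simp only [← pow_mul, h3, Finset.sum_const, Finset.card_range, h2] at h4
    simpa [hr.ne_zero] using h4
  let σ : G →* Module.End ℂ U :=
    { toFun := fun x => (τ x).restrict (hUτ x)
      map_one' := by ext f g; simp
      map_mul' := fun x y => by ext f g; simp }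
  haveI : Nontrivial U := Submodule.nontrivial_iff_ne_bot.2 hU
  refine ⟨Module.End ℂ U, Module.End.instRing, Algebra.restrictScalars ℚ ℂ _, inferInstance, σ,
    frep_of_fpf (V := U) fun g hg v hv => ?_, algebraMap ℂ _ (Real.goldenRatio : ℝ), ?_,
    fun r => Algebra.commutes _ r⟩
  · exact Subtype.ext (hfpf g hg _ v.2 (congrArg Subtype.val hv))
  · rw [← map_mul, ← map_one (algebraMap ℂ (Module.End ℂ U)), ← map_add, ← pow_two]
    congr 1
    exact_mod_cast Real.goldenRatio_sq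

end Cfsg.Agent.Perm.Fpf
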