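import Mathlib
import Cfsg.Agent.Perm.FpfAlg
import Cfsg.Agent.Perm.FpfTrace

/-! Quaternion coordinates for the elements of order three of a fixed-point-free group. -/

set_option autoImplicit false

namespace Cfsg.Agent.Perm.Fpf

variable {R : Type*} [Ring R] [Algebra ℚ R]

/-- The relations of the quaternion units. -/
structure IsQuat {R : Type*} [Ring R] (I J : R) : Prop where
  ii : I * I = -1
  jj : J * J = -1
  ji : J * I = -(I * J)

/-- The centraliser of the quaternion units. -/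
abbrev Cen (I J : R) : Subalgebra ℚ R := Subalgebra.centralizer ℚ {I, J}

/-- The element with the given quaternion coordinates. -/
def qmk {I J : R} (p : Qd (Cen I J)) : R := p.a + p.b * I + p.c * J + p.d * (I * J)

theorem cen_I {I J : R} (c : Cen I J) : I * c = c * I := c.2 I (by simp)
theorem cen_J {I J : R} (c : Cen I J) : J * c = c * J := c.2 J (by simp)
theorem cen_I' {I J : R} (c : Cen I J) (x : R) : I * (c * x) = c * (I * x) := by
  rw [← mul_assoc, cen_I, mul_assoc]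
theorem cen_J' {I J : R} (c : Cen I J) (x : R) : J * (c * x) = c * (J * x) := by
  rw [← mul_assoc, cen_J, mul_assoc]

section
omit [Algebra ℚ R]
variable {I J : R} (h : IsQuat I J)
include h
theorem IsQuat.ii' (x : R) : I * (I * x) = -x := by rw [← mul_assoc, h.ii, neg_one_mul]
theorem IsQuat.jj' (x : R) : J * (J * x) = -x := by rw [← mul_assoc, h.jj, neg_one_mul]
theorem IsQuat.ji' (x : R) : J * (I * x) = -(I * (J * x)) := by
  rw [← mul_assoc, h.ji, neg_mul, mul_assoc]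
end

variable {I J : R}

theorem qmk_mul (h : IsQuat I J) (p q : Qd (Cen I J)) : qmk (p.mul q) = qmk p * qmk q := by
  simp only [qmk, Qd.mul, AddMemClass.coe_add, AddSubgroupClass.coe_sub, MulMemClass.coe_mul,
    mul_add, add_mul, sub_mul, mul_assoc, cen_I, cen_J, cen_I', cen_J', h.ii, h.jj, h.ji,
    h.ii', h.jj', h.ji', mul_neg, neg_neg, mul_one]
  abel

theorem qmk_anti (h : IsQuat I J) (p q : Qd (Cen I J)) :
    qmk (p.anti q) = qmk p * qmk q + qmk q * qmk p := by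
  rw [← qmk_mul h, ← qmk_mul h]
  simp only [qmk, Qd.anti, AddMemClass.coe_add, add_mul]
  abel

theorem qmk_re (h : IsQuat I J) (p : Qd (Cen I J)) :
    qmk p - I * qmk p * I - J * qmk p * J - I * J * qmk p * (I * J) = 4 * p.a := by
  simp only [qmk, mul_add, add_mul, mul_assoc, cen_I, cen_J, cen_I', cen_J', h.ii, h.jj, h.ji,
    h.ii', h.jj', h.ji', mul_neg, neg_neg, mul_one, neg_mul]
  noncomm_ring

theorem qmk_inj (h : IsQuat I J) {p q : Qd (Cen I J)} (e : qmk p = qmk q) : p = q := by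
  have key : ∀ p q : Qd (Cen I J), qmk p = qmk q → p.a = q.a := by
    intro p q e
    apply Subtype.ext
    apply can 4
    rw [mul_sub, ← qmk_re h, ← qmk_re h, e, sub_self]
  have h1 := key _ _ e
  have h2 := key (p.mul ⟨0, 1, 0, 0⟩) (q.mul ⟨0, 1, 0, 0⟩) (by rw [qmk_mul h, qmk_mul h, e])
  have h3 := key (p.mul ⟨0, 0, 1, 0⟩) (q.mul ⟨0, 0, 1, 0⟩) (by rw [qmk_mul h, qmk_mul h, e])
  have h4 := key (p.mul ⟨0, 0, 0, 1⟩) (q.mul ⟨0, 0, 0, 1⟩) (by rw [qmk_mul h, qmk_mul h, e])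
  simp only [Qd.mul, mul_zero, mul_one, sub_zero, zero_sub, neg_inj] at h2 h3 h4
  exact Qd.ext h1 h2 h3 h4

theorem qmk_surj (h : IsQuat I J) (r : R) : ∃ p : Qd (Cen I J), qmk p = r := by
  have key : ∀ r : R, r - I * r * I - J * r * J - I * J * r * (I * J) ∈ Cen I J := by
    intro r
    rw [Subalgebra.mem_centralizer_iff]
    rintro g (rfl | rfl) <;>
    · simp only [mul_sub, sub_mul, mul_assoc, h.ii, h.jj, h.ji,
        h.ii', h.jj', h.ji', mul_neg, neg_neg, mul_one, neg_mul]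
      abel
  refine ⟨⟨(1 / 4 : ℚ) • ⟨_, key r⟩, (-1 / 4 : ℚ) • ⟨_, key (r * I)⟩,
    (-1 / 4 : ℚ) • ⟨_, key (r * J)⟩, (-1 / 4 : ℚ) • ⟨_, key (r * (I * J))⟩⟩, ?_⟩
  simp only [qmk, SetLike.val_smul, smul_mul_assoc, mul_sub, sub_mul, mul_assoc, h.ii, h.jj, h.ji,
    h.ii', h.jj', h.ji', mul_neg, neg_neg, mul_one, neg_mul]
  module

theorem qmk_scalar (n : ℤ) : qmk (⟨n, 0, 0, 0⟩ : Qd (Cen I J)) = n := by
  simp [qmk]

variable {G : Type*} [Group G] {ρ : G →* R}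

omit [Algebra ℚ R] in
theorem FRep.eq_one [Nontrivial R] (h : FRep ρ) {g : G} (hg : ρ g = 1) : g = 1 := by
  by_contra h1
  have := h.unit g h1
  rw [hg, sub_self] at this
  exact not_isUnit_zero this

omit [Algebra ℚ R] in
theorem FRep.tr_sq_one [Nontrivial R] (h : FRep ρ) {g : G}
    (h1 : (ρ g + ρ g⁻¹) * (ρ g + ρ g⁻¹) = 1) : ρ g + ρ g⁻¹ = 1 ∨ ρ g + ρ g⁻¹ = -1 := by
  have h10 : ρ g * ρ g⁻¹ = 1 := by rw [← map_mul, mul_inv_cancel, map_one]
  have h11 : ρ g⁻¹ * ρ g = 1 := by rw [← map_mul, inv_mul_cancel, map_one]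
  have h2 : ρ g ^ 4 + ρ g ^ 2 + 1 = 0 := by
    linear_combination (norm := noncomm_ring) ρ g * ρ g * h1 - ρ g * ρ g * h10 - ρ g * ρ g * h11 -
      ρ g * h10 * ρ g⁻¹ - h10
  have h3 : g ^ 3 * g ^ 3 = 1 := h.eq_one (by
    rw [map_mul, map_pow]
    linear_combination (norm := noncomm_ring) (ρ g ^ 2 - 1) * h2)
  by_cases h4 : g ^ 3 = 1
  · right
    have h5 : ρ g ^ 3 = 1 := by rw [← map_pow, h4, map_one]
    linear_combination (norm := noncomm_ring) ρ g⁻¹ * h2 - ρ g⁻¹ * ρ g * h5 - h11 - h11 * ρ g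
  · left
    have h5 := sq_eq_neg_one h.unit h4 h3
    rw [map_pow] at h5
    linear_combination (norm := noncomm_ring) ρ g⁻¹ * h2 - ρ g⁻¹ * ρ g * h5 + h11 - h11 * ρ g

omit [Algebra ℚ R] in
theorem FRep.quat (h : FRep ρ) {x y : G} (hx : orderOf x = 3) (hy : orderOf y = 3)
    (h0 : ρ (x * y) + ρ (x * y)⁻¹ = 0) :
    IsQuat (ρ (x * y)) (ρ (x * (x * y) * x⁻¹)) ∧
      2 * ρ x + 1 = -(ρ (x * y) + ρ (x * (x * y) * x⁻¹) + ρ (x * y) * ρ (x * (x * y) * x⁻¹)) := by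
  have hX := cube_rel h.unit hx
  have hX' := inv_rel h.unit hx
  have hY := cube_rel h.unit hy
  have hI : ρ (x * y) * ρ (x * y) = -1 := by
    have h1 : ρ (x * y) * ρ (x * y)⁻¹ = 1 := by rw [← map_mul, mul_inv_cancel, map_one]
    linear_combination (norm := noncomm_ring) ρ (x * y) * h0 - h1
  have hy' : ρ y = (-1 - ρ x) * ρ (x * y) := by rw [← hX', ← map_mul, inv_mul_cancel_left]
  rw [map_mul ρ (x * (x * y)), map_mul ρ x (x * y), hX']
  generalize ρ (x * y) = I at *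
  generalize ρ x = X at *
  rw [hy'] at hY
  have hXI : X * I = 1 - I - I * X := by
    linear_combination (norm := noncomm_ring) X * hY * I + hX * I * (-1 - X) * I * I + hX * I * I
      - I * (-1 - X) * hI - hI
  have hJ : X * I * (-1 - X) = I * X - X - 1 := by
    linear_combination (norm := noncomm_ring) hXI * (-1 - X) + I * hX
  refine ⟨⟨hI, ?_, ?_⟩, ?_⟩
  · linear_combination (norm := noncomm_ring) -(X * I * hX * I * (-1 - X)) + X * hI * (-1 - X) + hX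
  · rw [hJ]
    linear_combination (norm := noncomm_ring) (I - 1) * hXI + hI * 0 - hI
  · rw [hJ]
    linear_combination (norm := noncomm_ring) hI * X

theorem FRep.sys [Nontrivial R] (h : FRep ρ) {x i j : G} (hx : orderOf x = 3)
    (hq : IsQuat (ρ i) (ρ j)) (hd : 2 * ρ x + 1 = -(ρ i + ρ j + ρ i * ρ j)) :
    Sys (fun p : Qd (Cen (ρ i) (ρ j)) => ∃ g, orderOf g = 3 ∧ qmk p = 2 * ρ g + 1) := by
  have hi : ρ i⁻¹ = -ρ i := by
    have h1 : ρ i⁻¹ * ρ i = 1 := by rw [← map_mul, inv_mul_cancel, map_one]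
    linear_combination (norm := noncomm_ring) ρ i⁻¹ * hq.ii - h1 * ρ i
  have hj : ρ j⁻¹ = -ρ j := by
    have h1 : ρ j⁻¹ * ρ j = 1 := by rw [← map_mul, inv_mul_cancel, map_one]
    linear_combination (norm := noncomm_ring) ρ j⁻¹ * hq.jj - h1 * ρ j
  have ord : ∀ a g : G, orderOf g = 3 → orderOf (a * g * a⁻¹) = 3 := fun a g hg =>
    ((MulAut.conj a).orderOf_eq g).trans hg
  have neg : ∀ p : Qd (Cen (ρ i) (ρ j)), qmk ⟨-p.a, -p.b, -p.c, -p.d⟩ = -qmk p := by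
    intro p
    simp only [qmk, NegMemClass.coe_neg, neg_mul]
    abel
  have mi : qmk (⟨0, 1, 0, 0⟩ : Qd (Cen (ρ i) (ρ j))) = ρ i := by simp [qmk]
  have mj : qmk (⟨0, 0, 1, 0⟩ : Qd (Cen (ρ i) (ρ j))) = ρ j := by simp [qmk]
  refine ⟨?_, ?_, ?_, ?_, ?_, ?_, ?_, ?_⟩
  · rintro p ⟨g, hg, hp⟩
    apply qmk_inj hq
    rw [qmk_mul hq, hp]
    have := qmk_scalar (I := ρ i) (J := ρ j) (-3)
    push_cast at this
    rw [this]
    linear_combination (norm := grind) 4 * cube_rel h.unit hg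
  · rintro p ⟨g, hg, hp⟩
    refine ⟨g⁻¹, by rw [orderOf_inv, hg], ?_⟩
    rw [neg, hp, inv_rel h.unit hg]
    noncomm_ring
  · rintro p ⟨g, hg, hp⟩
    refine ⟨i * g * i⁻¹, ord _ _ hg, ?_⟩
    have e : qmk ⟨p.a, p.b, -p.c, -p.d⟩ = -(ρ i * qmk p * ρ i) := by
      have e1 := qmk_mul hq ((⟨0, 1, 0, 0⟩ : Qd (Cen (ρ i) (ρ j))).mul p) ⟨0, 1, 0, 0⟩
      rw [qmk_mul hq _ p, mi] at e1
      rw [← e1, ← neg]
      congr 1
      ext <;> simp [Qd.mul]
    rw [e, hp, map_mul, map_mul, hi]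
    linear_combination (norm := noncomm_ring) -hq.ii
  · rintro p ⟨g, hg, hp⟩
    refine ⟨j * g * j⁻¹, ord _ _ hg, ?_⟩
    have e : qmk ⟨p.a, -p.b, p.c, -p.d⟩ = -(ρ j * qmk p * ρ j) := by
      have e1 := qmk_mul hq ((⟨0, 0, 1, 0⟩ : Qd (Cen (ρ i) (ρ j))).mul p) ⟨0, 0, 1, 0⟩
      rw [qmk_mul hq _ p, mj] at e1
      rw [← e1, ← neg]
      congr 1
      ext <;> simp [Qd.mul]
    rw [e, hp, map_mul, map_mul, hj]
    linear_combination (norm := noncomm_ring) -hq.jj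
  · rintro p ⟨g, hg, hp⟩
    refine ⟨x * g * x⁻¹, ord _ _ hg, ?_⟩
    have e1 : qmk (⟨-1, -1, -1, -1⟩ : Qd (Cen (ρ i) (ρ j))) = 2 * ρ x := by
      simp only [qmk, NegMemClass.coe_neg, OneMemClass.coe_one]
      linear_combination (norm := noncomm_ring) -hd
    have e2 : qmk (⟨-1, 1, 1, 1⟩ : Qd (Cen (ρ i) (ρ j))) = 2 * ρ x⁻¹ := by
      simp only [qmk, NegMemClass.coe_neg, OneMemClass.coe_one, inv_rel h.unit hx]
      linear_combination (norm := noncomm_ring) hd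
    have e3 : qmk (⟨4, 0, 0, 0⟩ : Qd (Cen (ρ i) (ρ j))) = 4 := by
      have := qmk_scalar (I := ρ i) (J := ρ j) 4
      push_cast at this
      exact this
    have e : 4 * qmk ⟨p.a, p.d, p.b, p.c⟩ = 2 * ρ x * qmk p * (2 * ρ x⁻¹) := by
      rw [← e1, ← e2, ← e3, ← qmk_mul hq, ← qmk_mul hq, ← qmk_mul hq]
      congr 1
      apply Qd.ext <;> simp only [Qd.mul] <;> noncomm_ring
    have h1 : ρ x * ρ x⁻¹ = 1 := by rw [← map_mul, mul_inv_cancel, map_one]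
    apply can 4
    rw [mul_sub, e, hp, map_mul, map_mul]
    linear_combination (norm := grind) 4 * h1
  · refine ⟨x⁻¹, by rw [orderOf_inv, hx], ?_⟩
    simp only [qmk, OneMemClass.coe_one, ZeroMemClass.coe_zero, inv_rel h.unit hx]
    linear_combination (norm := noncomm_ring) hd
  · rintro p q ⟨g, hg, hp⟩ ⟨g', hg', hp'⟩
    have e : qmk (p.anti q) = 4 * (ρ (g * g') + ρ (g * g')⁻¹) - 2 := by
      rw [qmk_anti hq, hp, hp', tr_eq h.unit hg hg']
      grind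
    rcases h.tr g g' hg hg' with h1 | h1 | h1 | h1 | h1
    · right; left
      apply qmk_inj hq
      rw [neg, hp, hp', eq_inv_of_mul_eq_one_right h1, inv_rel h.unit hg]
      noncomm_ring
    · left
      apply qmk_inj hq
      rw [hp, hp', h1]
    · right; right; left
      apply qmk_inj hq
      have := qmk_scalar (I := ρ i) (J := ρ j) 2
      push_cast at this
      rw [e, this, h1]
      norm_num
    · right; right; right; left
      apply qmk_inj hq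
      have := qmk_scalar (I := ρ i) (J := ρ j) (-2)
      push_cast at this
      rw [e, this, h1]
      norm_num
    · right; right; right; right
      apply qmk_inj hq
      have := qmk_scalar (I := ρ i) (J := ρ j) 20
      push_cast at this
      rw [qmk_mul hq, e, this]
      linear_combination (norm := grind) 16 * h1
  · rintro p ⟨g, hg, hp⟩ hb ha
    have e : qmk (p.anti ⟨0, 1, 0, 0⟩) = 2 * (ρ (g * i) + ρ (g * i)⁻¹) := by
      rw [qmk_anti hq, hp, mi, mul_inv_rev, map_mul, map_mul, hi, inv_rel h.unit hg]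
      noncomm_ring
    have e' : p.anti ⟨0, 1, 0, 0⟩ = ⟨0, 2 * p.a, 0, 0⟩ := by
      apply Qd.ext <;> simp [Qd.anti, Qd.mul, hb, two_mul]
    have e2 : qmk (⟨0, p.a, 0, 0⟩ : Qd (Cen (ρ i) (ρ j))) = ρ (g * i) + ρ (g * i)⁻¹ := by
      apply can 2
      rw [mul_sub, ← e, e']
      simp [qmk, two_mul, add_mul]
    have e3 : (ρ (g * i) + ρ (g * i)⁻¹) * (ρ (g * i) + ρ (g * i)⁻¹) = 1 := by
      rw [← e2, ← qmk_mul hq]
      simp [Qd.mul, ha, qmk]
    rcases h.tr_sq_one e3 with h1 | h1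
    · have := qmk_scalar (I := ρ i) (J := ρ j) 1
      rw [Int.cast_one, Int.cast_one, ← h1, ← e2] at this
      have h2 := congrArg Qd.a (qmk_inj hq this)
      exact one_ne_zero h2
    · have := qmk_scalar (I := ρ i) (J := ρ j) (-1)
      rw [Int.cast_neg, Int.cast_one, Int.cast_neg, Int.cast_one, ← h1, ← e2] at this
      have h2 := congrArg Qd.a (qmk_inj hq this)
      exact one_ne_zero (neg_eq_zero.1 h2)

/-- Integral coordinates with respect to `1, φ, i, φ i, j, φ j, k, φ k`. -/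
abbrev T8 := (ℤ × ℤ) × (ℤ × ℤ) × (ℤ × ℤ) × (ℤ × ℤ)

/-- Product in `ℤ[φ]`. -/
def mul2 (a b : ℤ × ℤ) : ℤ × ℤ := (a.1 * b.1 + a.2 * b.2, a.1 * b.2 + a.2 * b.1 + a.2 * b.2)

/-- Product of quaternions over `ℤ[φ]`. -/
def mul8 (p q : T8) : T8 :=
  (mul2 p.1 q.1 - mul2 p.2.1 q.2.1 - mul2 p.2.2.1 q.2.2.1 - mul2 p.2.2.2 q.2.2.2,
   mul2 p.1 q.2.1 + mul2 p.2.1 q.1 + mul2 p.2.2.1 q.2.2.2 - mul2 p.2.2.2 q.2.2.1,
   mul2 p.1 q.2.2.1 - mul2 p.2.1 q.2.2.2 + mul2 p.2.2.1 q.1 + mul2 p.2.2.2 q.2.1,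
   mul2 p.1 q.2.2.2 + mul2 p.2.1 q.2.2.1 - mul2 p.2.2.1 q.2.1 + mul2 p.2.2.2 q.1)

/-- Evaluation of an element of `ℤ[φ]`. -/
def ev2 {C : Type*} [Ring C] (φ : C) (a : ℤ × ℤ) : C := a.1 + a.2 * φ

theorem ev2_add {C : Type*} [Ring C] (φ : C) (a b : ℤ × ℤ) :
    ev2 φ (a + b) = ev2 φ a + ev2 φ b := by
  simp only [ev2, Prod.fst_add, Prod.snd_add, Int.cast_add, add_mul]; abel

theorem ev2_sub {C : Type*} [Ring C] (φ : C) (a b : ℤ × ℤ) :
    ev2 φ (a - b) = ev2 φ a - ev2 φ b := by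
  simp only [ev2, Prod.fst_sub, Prod.snd_sub, Int.cast_sub, sub_mul]; abel

theorem ev2_mul {C : Type*} [Ring C] {φ : C} (h : φ * φ = φ + 1) (a b : ℤ × ℤ) :
    ev2 φ (mul2 a b) = ev2 φ a * ev2 φ b := by
  simp only [ev2, mul2, ← zsmul_eq_mul]
  simp only [← zsmul_one (R := C), mul_add, add_mul, smul_mul_assoc, mul_smul_comm, one_mul,
    mul_one, h]
  module

/-- Evaluation of integral coordinates. -/
def ev8 {I J : R} (φ : Cen I J) (t : T8) : R :=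
  qmk ⟨ev2 φ t.1, ev2 φ t.2.1, ev2 φ t.2.2.1, ev2 φ t.2.2.2⟩

theorem ev8_mul (h : IsQuat I J) {φ : Cen I J} (hφ : φ * φ = φ + 1) (s t : T8) :
    ev8 φ (mul8 s t) = ev8 φ s * ev8 φ t := by
  simp only [ev8, ← qmk_mul h, mul8, Qd.mul, ev2_add, ev2_sub, ev2_mul hφ]

theorem ev8_add (φ : Cen I J) (s t : T8) : ev8 φ (s + t) = ev8 φ s + ev8 φ t := by
  simp only [ev8, qmk, Prod.fst_add, Prod.snd_add, ev2_add, AddMemClass.coe_add, add_mul]
  abel

/-- Twice the twenty elements of order three of the binary icosahedral group. -/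
def D20 : List T8 :=
  [((-1, 0), (1, 0), (1, 0), (1, 0)), ((-1, 0), (1, 0), (1, 0), (-1, 0)),
   ((-1, 0), (1, 0), (-1, 0), (1, 0)), ((-1, 0), (1, 0), (-1, 0), (-1, 0)),
   ((-1, 0), (-1, 0), (1, 0), (1, 0)), ((-1, 0), (-1, 0), (1, 0), (-1, 0)),
   ((-1, 0), (-1, 0), (-1, 0), (1, 0)), ((-1, 0), (-1, 0), (-1, 0), (-1, 0)),
   ((-1, 0), (0, 0), (0, 1), (-1, 1)), ((-1, 0), (-1, 1), (0, 0), (0, 1)),
   ((-1, 0), (0, 1), (-1, 1), (0, 0)),
   ((-1, 0), (0, 0), (0, 1), (1, -1)), ((-1, 0), (1, -1), (0, 0), (0, 1)),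
   ((-1, 0), (0, 1), (1, -1), (0, 0)),
   ((-1, 0), (0, 0), (0, -1), (-1, 1)), ((-1, 0), (-1, 1), (0, 0), (0, -1)),
   ((-1, 0), (0, -1), (-1, 1), (0, 0)),
   ((-1, 0), (0, 0), (0, -1), (1, -1)), ((-1, 0), (1, -1), (0, 0), (0, -1)),
   ((-1, 0), (0, -1), (1, -1), (0, 0))]

theorem FRep.exists_coord [Nontrivial R] (h : FRep ρ)
    (hφ : ∃ φ : R, φ * φ = φ + 1 ∧ ∀ r, φ * r = r * φ) {x y : G} (hx : orderOf x = 3)
    (hy : orderOf y = 3) (h0 : ρ (x * y) + ρ (x * y)⁻¹ = 0) :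
    ∃ (I J : R) (φ : Cen I J), IsQuat I J ∧ φ * φ = φ + 1 ∧
      ∀ g, orderOf g = 3 → ∃ t ∈ D20, 2 * ρ g = ev8 φ t := by
  obtain ⟨hq, hd⟩ := h.quat hx hy h0
  obtain ⟨φ₀, h1, h2⟩ := hφ
  obtain ⟨φ, h3, h4⟩ := (h.sys hx hq hd).exists_golden
    ⟨⟨φ₀, fun g _ => (h2 g).symm⟩, Subtype.ext h1⟩
  refine ⟨_, _, φ, hq, h3, fun g hg => ?_⟩
  obtain ⟨p, hp⟩ := qmk_surj hq (2 * ρ g + 1)
  have key : ∀ b c d : ℤ × ℤ, p = ⟨0, ev2 φ b, ev2 φ c, ev2 φ d⟩ →
      2 * ρ g = ev8 φ ((-1, 0), b, c, d) := by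
    intro b c d e
    rw [← add_left_inj 1, ← hp, e]
    simp only [ev8, qmk, ev2]
    push_cast
    noncomm_ring
  have e1 : ev2 φ (1, 0) = 1 := by simp [ev2]
  have e2 : ev2 φ (-1, 0) = -1 := by simp [ev2]
  have e3 : ev2 φ (0, 0) = 0 := by simp [ev2]
  have e4 : ev2 φ (0, 1) = φ := by simp [ev2]
  have e5 : ev2 φ (0, -1) = -φ := by simp [ev2]
  have e6 : ev2 φ (-1, 1) = φ - 1 := by simp [ev2, sub_eq_neg_add]
  have e7 : ev2 φ (1, -1) = -(φ - 1) := by simp [ev2, sub_eq_add_neg]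
  rcases h4 p ⟨g, hg, hp⟩ with ⟨k0, k1, k2, k3⟩ | ⟨u, v, k1, k2, k3⟩
  · have f : ∀ c : Cen (ρ (x * y)) (ρ (x * (x * y) * x⁻¹)), c = 1 ∨ c = -1 →
        ∃ z : ℤ × ℤ, (z = (1, 0) ∨ z = (-1, 0)) ∧ c = ev2 φ z := by
      rintro c (rfl | rfl)
      · exact ⟨_, Or.inl rfl, e1.symm⟩
      · exact ⟨_, Or.inr rfl, e2.symm⟩
    obtain ⟨z1, l1, k1⟩ := f _ k1
    obtain ⟨z2, l2, k2⟩ := f _ k2
    obtain ⟨z3, l3, k3⟩ := f _ k3
    refine ⟨_, ?_, key _ _ _ (Qd.ext k0 k1 k2 k3)⟩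
    rcases l1 with rfl | rfl <;> rcases l2 with rfl | rfl <;> rcases l3 with rfl | rfl <;> decide
  · obtain ⟨z1, l1, rfl⟩ : ∃ z : ℤ × ℤ, (z = (0, 1) ∨ z = (0, -1)) ∧ u = ev2 φ z := by
      rcases k1 with rfl | rfl
      · exact ⟨_, Or.inl rfl, e4.symm⟩
      · exact ⟨_, Or.inr rfl, e5.symm⟩
    obtain ⟨z2, l2, rfl⟩ : ∃ z : ℤ × ℤ, (z = (-1, 1) ∨ z = (1, -1)) ∧ v = ev2 φ z := by
      rcases k2 with rfl | rfl
      · exact ⟨_, Or.inl rfl, e6.symm⟩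
      · exact ⟨_, Or.inr rfl, e7.symm⟩
    rcases k3 with k3 | k3 | k3
    · refine ⟨_, ?_, key (0, 0) z1 z2 (by rw [k3, e3])⟩
      rcases l1 with rfl | rfl <;> rcases l2 with rfl | rfl <;> decide
    · refine ⟨_, ?_, key z2 (0, 0) z1 (by rw [k3, e3])⟩
      rcases l1 with rfl | rfl <;> rcases l2 with rfl | rfl <;> decide
    · refine ⟨_, ?_, key z1 z2 (0, 0) (by rw [k3, e3])⟩
      rcases l1 with rfl | rfl <;> rcases l2 with rfl | rfl <;> decide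

end Cfsg.Agent.Perm.Fpf
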