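import Mathlib

/-!
Kernel-checkable certificates for subgroups of `GL(2, p)` acting regularly on non-zero vectors.
-/

set_option autoImplicit false

namespace Cfsg.Agent.Perm.GL2Cert

/-- A `2 × 2` matrix as a quadruple of natural numbers. -/
abbrev T := ℕ × ℕ × ℕ × ℕ

def mulT (p : ℕ) (x y : T) : T :=
  ((x.1 * y.1 + x.2.1 * y.2.2.1) % p, (x.1 * y.2.1 + x.2.1 * y.2.2.2) % p,
    (x.2.2.1 * y.1 + x.2.2.2 * y.2.2.1) % p, (x.2.2.1 * y.2.1 + x.2.2.2 * y.2.2.2) % p)

def toMat (p : ℕ) (x : T) : Matrix (Fin 2) (Fin 2) (ZMod p) :=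
  !![(x.1 : ZMod p), (x.2.1 : ZMod p); (x.2.2.1 : ZMod p), (x.2.2.2 : ZMod p)]

def small (p : ℕ) (x : T) : Bool := x.1 < p && x.2.1 < p && x.2.2.1 < p && x.2.2.2 < p

theorem toMat_mulT (p : ℕ) (x y : T) : toMat p (mulT p x y) = toMat p x * toMat p y := by
  simp [toMat, mulT]

theorem toMat_one (p : ℕ) : toMat p (1, 0, 0, 1) = 1 := by
  simp [toMat, Matrix.one_fin_two]

theorem eq_of_toMat_eq {p : ℕ} {x y : T} (hx : small p x = true) (hy : small p y = true)
    (h : toMat p x = toMat p y) : x = y := by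
  obtain ⟨a, b, c, d⟩ := x
  obtain ⟨a', b', c', d'⟩ := y
  simp only [small, Bool.and_eq_true, decide_eq_true_eq] at hx hy
  have key : ∀ m n : ℕ, m < p → n < p → (m : ZMod p) = n → m = n := by
    intro m n hm hn h
    rw [ZMod.natCast_eq_natCast_iff', Nat.mod_eq_of_lt hm, Nat.mod_eq_of_lt hn] at h
    exact h
  have h1 := key _ _ hx.1.1.1 hy.1.1.1 (congrFun (congrFun h 0) 0)
  have h2 := key _ _ hx.1.1.2 hy.1.1.2 (congrFun (congrFun h 0) 1)
  have h3 := key _ _ hx.1.2 hy.1.2 (congrFun (congrFun h 1) 0)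
  have h4 := key _ _ hx.2 hy.2 (congrFun (congrFun h 1) 1)
  rw [h1, h2, h3, h4]

/-- The list of partial products along a word. -/
def walk (p : ℕ) : List T → T → List T
  | [], x => [x]
  | g :: w, x => x :: walk p w (mulT p g x)

variable {p : ℕ}

theorem walk_mem (H : Subgroup (GL (Fin 2) (ZMod p))) (w : List T)
    (hw : ∀ g ∈ w, ∃ h ∈ H, (h : Matrix (Fin 2) (Fin 2) (ZMod p)) = toMat p g) (x : T)
    (hx : ∃ h ∈ H, (h : Matrix (Fin 2) (Fin 2) (ZMod p)) = toMat p x) :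
    ∀ y ∈ walk p w x, ∃ h ∈ H, (h : Matrix (Fin 2) (Fin 2) (ZMod p)) = toMat p y := by
  induction w generalizing x with
  | nil => intro y hy; rw [List.mem_singleton.1 hy]; exact hx
  | cons g w ih =>
    intro y hy
    rcases List.mem_cons.1 hy with rfl | hy
    · exact hx
    · refine ih (fun g hg => hw g (List.mem_cons_of_mem _ hg)) _ ?_ y hy
      obtain ⟨h, hh, hh2⟩ := hw g List.mem_cons_self
      obtain ⟨k, hk, hk2⟩ := hx
      exact ⟨h * k, H.mul_mem hh hk, by rw [Units.val_mul, hh2, hk2, toMat_mulT]⟩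

theorem length_le_card [NeZero p] (H : Subgroup (GL (Fin 2) (ZMod p))) (L : List T)
    (hL : ∀ y ∈ L, ∃ h ∈ H, (h : Matrix (Fin 2) (Fin 2) (ZMod p)) = toMat p y)
    (hs : L.all (small p) = true) : L.dedup.length ≤ Nat.card H := by
  choose f hf1 hf2 using hL
  rw [List.all_eq_true] at hs
  rw [← List.card_toFinset, ← Fintype.card_coe, ← Nat.card_eq_fintype_card]
  apply Nat.card_le_card_of_injective
    (fun y : L.toFinset => (⟨f y (List.mem_toFinset.1 y.2), hf1 _ _⟩ : H))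
  intro x y hxy
  apply Subtype.ext
  apply eq_of_toMat_eq (hs _ (List.mem_toFinset.1 x.2)) (hs _ (List.mem_toFinset.1 y.2))
  rw [← hf2 x (List.mem_toFinset.1 x.2), ← hf2 y (List.mem_toFinset.1 y.2)]
  exact congrArg (fun h : H => ((h : GL (Fin 2) (ZMod p)) : Matrix (Fin 2) (Fin 2) (ZMod p))) hxy

theorem mem_of_closed {G : Type*} [Group G] [Finite G] (S X : Set G) (h1 : (1 : G) ∈ X)
    (h : ∀ s ∈ S, ∀ x ∈ X, s * x ∈ X) : ∀ g ∈ Subgroup.closure S, g ∈ X := by
  intro g hg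
  induction hg using Subgroup.closure_induction_left with
  | one => exact h1
  | mul_left s hs x _ hx => exact h s hs x hx
  | inv_mul_cancel s hs x _ hx =>
    have h2 : ∀ n : ℕ, s ^ n * x ∈ X := by
      intro n
      induction n with
      | zero => simpa using hx
      | succ n ih => rw [pow_succ', mul_assoc]; exact h s hs _ ih
    obtain ⟨n, hn⟩ := (mem_powers_iff_mem_zpowers (x := s) (y := s⁻¹)).2
      (Subgroup.inv_mem _ (Subgroup.mem_zpowers s))
    rw [← hn]
    exact h2 n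

theorem regular_of_det [hp : Fact p.Prime] (H : Subgroup (GL (Fin 2) (ZMod p)))
    (hfpf : ∀ h ∈ H, h ≠ 1 → ((h : Matrix (Fin 2) (Fin 2) (ZMod p)) - 1).det ≠ 0)
    (hcard : p ^ 2 - 1 ≤ Nat.card H) :
    Nat.card H = p ^ 2 - 1 ∧ ∀ v w : Fin 2 → ZMod p, v ≠ 0 → w ≠ 0 → ∃! h : H,
      Matrix.mulVec ((h : GL (Fin 2) (ZMod p)) : Matrix (Fin 2) (Fin 2) (ZMod p)) v = w := by
  have hc : Nat.card {w : Fin 2 → ZMod p // w ≠ 0} = p ^ 2 - 1 := by
    rw [Nat.card_eq_fintype_card, Fintype.card_subtype_compl]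
    simp
  have hne : ∀ (h : GL (Fin 2) (ZMod p)) (v : Fin 2 → ZMod p), v ≠ 0 →
      Matrix.mulVec (h : Matrix (Fin 2) (Fin 2) (ZMod p)) v ≠ 0 := by
    intro h v hv h0
    exact hv (Matrix.eq_zero_of_mulVec_eq_zero (Matrix.GeneralLinearGroup.det_ne_zero h) h0)
  have hinj : ∀ (v : Fin 2 → ZMod p) (hv : v ≠ 0), Function.Injective fun h : H =>
      (⟨Matrix.mulVec ((h : GL (Fin 2) (ZMod p)) : Matrix (Fin 2) (Fin 2) (ZMod p)) v,
        hne _ v hv⟩ : {w : Fin 2 → ZMod p // w ≠ 0}) := by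
    intro v hv h k hhk
    have h1 := congrArg Subtype.val hhk
    simp only at h1
    by_contra hne'
    have h2 := hfpf _ (h⁻¹ * k).2 (by
      intro h3
      apply hne'
      apply Subtype.ext
      rwa [Subgroup.coe_mul, Subgroup.coe_inv, inv_mul_eq_one] at h3)
    apply hv
    apply Matrix.eq_zero_of_mulVec_eq_zero h2
    rw [Matrix.sub_mulVec, Matrix.one_mulVec, Subgroup.coe_mul, Subgroup.coe_inv, Units.val_mul,
      ← Matrix.mulVec_mulVec, ← h1, Matrix.mulVec_mulVec, Units.inv_mul, Matrix.one_mulVec,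
      sub_self]
  have hle := Nat.card_le_card_of_injective _ (hinj 1 one_ne_zero)
  have heq : Nat.card H = p ^ 2 - 1 := by omega
  refine ⟨heq, fun v w hv hw => ?_⟩
  obtain ⟨h, hh, hu⟩ := ((Nat.bijective_iff_injective_and_card _).2
    ⟨hinj v hv, heq.trans hc.symm⟩).existsUnique ⟨w, hw⟩
  exact ⟨h, congrArg Subtype.val hh, fun k hk => hu k (Subtype.ext hk)⟩

/-- Test that `x` is the identity or has no eigenvalue `1`. -/
def fpf (p : ℕ) (x : T) : Bool :=
  x == (1, 0, 0, 1) || (x.1 * x.2.2.2 + 1) % p != (x.2.1 * x.2.2.1 + x.1 + x.2.2.2) % p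

theorem det_ne_zero_of_fpf {x : T} (hx : fpf p x = true) (h1 : toMat p x ≠ 1) :
    (toMat p x - 1).det ≠ 0 := by
  simp only [fpf, Bool.or_eq_true, beq_iff_eq, bne_iff_ne] at hx
  rcases hx with rfl | hx
  · exact absurd (toMat_one p) h1
  · intro h
    apply hx
    rw [← ZMod.natCast_eq_natCast_iff']
    simp only [toMat, Matrix.det_fin_two, Matrix.sub_apply, Matrix.of_apply, Matrix.cons_val',
      Matrix.cons_val_zero, Matrix.cons_val_one, Matrix.cons_val_fin_one, Matrix.one_apply_eq,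
      ne_eq, zero_ne_one, not_false_eq_true, Matrix.one_apply_ne, one_ne_zero] at h
    push_cast
    linear_combination h

/-- All elements of the group generated by `S` lie in a list closed under the generators. -/
theorem closure_mem_list [NeZero p] (S : Set (GL (Fin 2) (ZMod p))) (gs L : List T)
    (hS : ∀ s ∈ S, ∃ g ∈ gs, (s : Matrix (Fin 2) (Fin 2) (ZMod p)) = toMat p g)
    (h1 : (1, 0, 0, 1) ∈ L)
    (hcl : (gs.all fun g => L.all fun x => L.contains (mulT p g x)) = true) :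
    ∀ h ∈ Subgroup.closure S, ∃ x ∈ L, (h : Matrix (Fin 2) (Fin 2) (ZMod p)) = toMat p x := by
  apply mem_of_closed S {h | ∃ x ∈ L, (h : Matrix (Fin 2) (Fin 2) (ZMod p)) = toMat p x}
  · exact ⟨_, h1, (toMat_one p).symm⟩
  · rintro s hs x ⟨y, hy, hxy⟩
    obtain ⟨g, hg, hsg⟩ := hS s hs
    simp only [List.all_eq_true, List.contains_iff_mem] at hcl
    exact ⟨_, hcl g hg y hy, by rw [Units.val_mul, hsg, hxy, toMat_mulT]⟩

/-- The complete certificate when the whole group is listed along a walk `w`. -/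
theorem regular_of_walk [hp : Fact p.Prime] (S : Set (GL (Fin 2) (ZMod p))) (gs w : List T)
    (hS : ∀ s ∈ S, ∃ g ∈ gs, (s : Matrix (Fin 2) (Fin 2) (ZMod p)) = toMat p g)
    (hS' : ∀ g ∈ gs, ∃ s ∈ S, (s : Matrix (Fin 2) (Fin 2) (ZMod p)) = toMat p g)
    (hw : (w.all fun g => gs.contains g) = true)
    (hcl : (gs.all fun g => (walk p w (1, 0, 0, 1)).all fun x =>
      (walk p w (1, 0, 0, 1)).contains (mulT p g x)) = true)
    (hs : (walk p w (1, 0, 0, 1)).all (small p) = true)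
    (hf : (walk p w (1, 0, 0, 1)).all (fpf p) = true)
    (hc : p ^ 2 - 1 ≤ (walk p w (1, 0, 0, 1)).dedup.length) :
    Nat.card (Subgroup.closure S) = p ^ 2 - 1 ∧ ∀ v w : Fin 2 → ZMod p, v ≠ 0 → w ≠ 0 →
      ∃! h : Subgroup.closure S,
      Matrix.mulVec ((h : GL (Fin 2) (ZMod p)) : Matrix (Fin 2) (Fin 2) (ZMod p)) v = w := by
  apply regular_of_det
  · intro h hh h1
    obtain ⟨x, hx, hx2⟩ := closure_mem_list S gs _ hS (by cases w <;> simp [walk]) hcl h hh
    rw [hx2]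
    apply det_ne_zero_of_fpf (List.all_eq_true.1 hf x hx)
    rw [← hx2]
    exact fun h2 => h1 (Units.ext h2)
  · refine hc.trans (length_le_card _ _ (walk_mem _ w ?_ _ ⟨1, one_mem _, (toMat_one p).symm⟩) hs)
    intro g hg
    simp only [List.all_eq_true, List.contains_iff_mem] at hw
    obtain ⟨s, hs, hs2⟩ := hS' g (hw g hg)
    exact ⟨s, Subgroup.subset_closure hs, hs2⟩

end Cfsg.Agent.Perm.GL2Cert
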