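import Mathlib
import Cfsg.Agent.Perm.FpfQuat
import Cfsg.Agent.Perm.GL2Cert

/-! The binary icosahedral group and `SL(2,5)`. -/

set_option autoImplicit false

namespace Cfsg.Agent.Perm.Fpf

/-- Decoding of a vector with entries in `[-2, 5]`. -/
def unkey (n : ℕ) : T8 :=
  ((Int.subNatNat (n % 8) 2, Int.subNatNat (n / 8 % 8) 2),
   (Int.subNatNat (n / 64 % 8) 2, Int.subNatNat (n / 512 % 8) 2),
   (Int.subNatNat (n / 4096 % 8) 2, Int.subNatNat (n / 32768 % 8) 2),
   (Int.subNatNat (n / 262144 % 8) 2, Int.subNatNat (n / 2097152 % 8) 2))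

/-- The code of half of a vector. -/
def key (t : T8) : ℕ :=
  ((t.1.1 + 4).toNat + 8 * (t.1.2 + 4).toNat + 64 * (t.2.1.1 + 4).toNat +
    512 * (t.2.1.2 + 4).toNat + 4096 * (t.2.2.1.1 + 4).toNat + 32768 * (t.2.2.1.2 + 4).toNat +
    262144 * (t.2.2.2.1 + 4).toNat + 2097152 * (t.2.2.2.2 + 4).toNat) / 2

/-- Codes of twice the elements of the binary icosahedral group. -/
def K120 : List ℕ :=
  [4793492, 5059793, 4535505, 5051601, 4527313, 5059665, 4535377, 5051473, 4527185, 6661265,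
   6891089, 4822673, 2991249, 6890193, 4765329, 6595729, 2696785, 4821649, 2925713, 2695889,
   4764305, 4785298, 4793362, 5051475, 4269202, 4527315, 4535379, 2692235, 4530827, 4760651,
   4499026, 2724946, 6623890, 4821651, 6595731, 2696787, 6628442, 4789850, 4560026, 5059667,
   5317778, 4527187, 5051603, 2953874, 5055115, 2958426, 6919250, 5084314, 6886539, 2925715,
   6891091, 5023314, 4535507, 4801682, 2700427, 2667602, 4502682, 4564562, 4826187, 4764307,
   4798042, 6632082, 6661267, 5059795, 2991251, 2962066, 5088850, 5026970, 6894731, 6861906,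
   4793618, 4760779, 4498130, 6624914, 4788954, 2695891, 6628570, 4531851, 4822675, 2725074,
   5022418, 6890195, 2958554, 6919378, 5056139, 2954898, 4765331, 2667730, 4797146, 6633106,
   4563666, 4826315, 2963090, 5087954, 6862034, 2700441, 4798026, 6894745, 4797130, 4760793,
   4826329, 6628554, 2958538, 4793488, 4531865, 4502666, 5055129, 5056153, 5084298, 5026954,
   4826201, 2958410, 6886553, 4788938, 4560010, 2692249, 4530841, 6628426, 4789834, 4760665]

theorem K120_check : (D20.all fun s => K120.all fun k =>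
    K120.any (Nat.beq (key (mul8 s (unkey k)))) &&
      decide (mul8 s (unkey k) = unkey (key (mul8 s (unkey k))) + unkey (key (mul8 s (unkey k))))) =
    true := by
  decide +kernel

theorem K120_closed : ∀ s ∈ D20, ∀ k ∈ K120, ∃ k' ∈ K120, mul8 s (unkey k) = unkey k' + unkey k' := by
  have h := K120_check
  simp only [List.all_eq_true, Bool.and_eq_true, List.any_eq_true, Nat.beq_eq,
    decide_eq_true_eq] at h
  intro s hs k hk
  obtain ⟨⟨k', h1, h2⟩, h3⟩ := h s hs k hk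
  exact ⟨k', h1, h2 ▸ h3⟩

/-- Reduction modulo `√5`. -/
def red0 (t : T8) : Matrix (Fin 2) (Fin 2) (ZMod 5) :=
  !![ev2 3 t.1 + 2 * ev2 3 t.2.1, ev2 3 t.2.2.1 + 2 * ev2 3 t.2.2.2;
    -ev2 3 t.2.2.1 + 2 * ev2 3 t.2.2.2, ev2 3 t.1 - 2 * ev2 3 t.2.1]

theorem red0_mul (s t : T8) : red0 (mul8 s t) = red0 s * red0 t := by
  have h : (3 : ZMod 5) * 3 = 3 + 1 := by decide
  have h5 : (5 : ZMod 5) = 0 := by decide
  simp only [red0, mul8, ev2_add, ev2_sub, ev2_mul h, Matrix.mul_fin_two]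
  generalize ev2 (3 : ZMod 5) s.1 = a0
  generalize ev2 (3 : ZMod 5) s.2.1 = a1
  generalize ev2 (3 : ZMod 5) s.2.2.1 = a2
  generalize ev2 (3 : ZMod 5) s.2.2.2 = a3
  generalize ev2 (3 : ZMod 5) t.1 = b0
  generalize ev2 (3 : ZMod 5) t.2.1 = b1
  generalize ev2 (3 : ZMod 5) t.2.2.1 = b2
  generalize ev2 (3 : ZMod 5) t.2.2.2 = b3
  ext i j
  fin_cases i <;> fin_cases j <;> simp only [Matrix.of_apply, Matrix.cons_val', Matrix.cons_val_zero,
    Matrix.cons_val_one, Matrix.cons_val_fin_one, Fin.zero_eta, Fin.mk_one, Fin.isValue]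
  · linear_combination (-(a1 * b1) - a3 * b3) * h5
  · linear_combination (-(a1 * b3) + a3 * b1) * h5
  · linear_combination (a1 * b3 - a3 * b1) * h5
  · linear_combination (-(a1 * b1) - a3 * b3) * h5

theorem red0_add (s t : T8) : red0 (s + t) = red0 s + red0 t := by
  simp only [red0, Prod.fst_add, Prod.snd_add, ev2_add]
  ext i j
  fin_cases i <;> fin_cases j <;> simp <;> ring

theorem det_D20 : ∀ t ∈ D20, ((3 : ZMod 5) • red0 t).det = 1 := by
  simp only [Matrix.det_fin_two]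
  decide +kernel

theorem eq_one_K120 : ∀ k ∈ K120, (3 : ZMod 5) • red0 (unkey k) = 1 →
    unkey k = ((2, 0), (0, 0), (0, 0), (0, 0)) := by
  decide +kernel

theorem one_K120 : ∃ k ∈ K120, unkey k = ((2, 0), (0, 0), (0, 0), (0, 0)) := by
  decide +kernel

variable {G R : Type*} [Group G] [Finite G] [Ring R] [Algebra ℚ R] [Nontrivial R] {ρ : G →* R}

/-- The elements of order three generate a homomorphic image of a subgroup of `SL(2,5)`. -/
theorem FRep.exists_graph (h : FRep ρ)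
    (hφ : ∃ φ : R, φ * φ = φ + 1 ∧ ∀ r, φ * r = r * φ) {x y : G} (hx : orderOf x = 3)
    (hy : orderOf y = 3) (h0 : ρ (x * y) + ρ (x * y)⁻¹ = 0) :
    ∃ H : Subgroup (Matrix.SpecialLinearGroup (Fin 2) (ZMod 5) × G),
      (∀ a ∈ H, a.1 = 1 → a = 1) ∧ ∀ g, orderOf g = 3 → ∃ m, (m, g) ∈ H := by
  obtain ⟨I, J, φ, hq, h1, h2⟩ := h.exists_coord hφ hx hy h0
  have hone : ev8 φ ((2, 0), (0, 0), (0, 0), (0, 0)) = 2 := by
    simp [ev8, ev2, qmk]
    rfl
  let S : Set (Matrix.SpecialLinearGroup (Fin 2) (ZMod 5) × G) :=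
    {a | ∃ t ∈ D20, a.1.1 = (3 : ZMod 5) • red0 t ∧ 2 * ρ a.2 = ev8 φ t}
  let X : Set (Matrix.SpecialLinearGroup (Fin 2) (ZMod 5) × G) :=
    {a | ∃ k ∈ K120, a.1.1 = (3 : ZMod 5) • red0 (unkey k) ∧ 2 * ρ a.2 = ev8 φ (unkey k)}
  have hX : ∀ a ∈ Subgroup.closure S, a ∈ X := by
    apply GL2Cert.mem_of_closed
    · obtain ⟨k, hk, e⟩ := one_K120
      refine ⟨k, hk, ?_, ?_⟩
      · rw [e]
        change (1 : Matrix (Fin 2) (Fin 2) (ZMod 5)) = _
        decide
      · rw [e, hone]; simp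
    · rintro a ⟨s, hs, a1, a2⟩ b ⟨k, hk, b1, b2⟩
      obtain ⟨k', hk', e⟩ := K120_closed s hs k hk
      refine ⟨k', hk', ?_, ?_⟩
      · rw [Prod.fst_mul, Matrix.SpecialLinearGroup.coe_mul, a1, b1, smul_mul_smul_comm,
          ← red0_mul, e, red0_add, ← two_smul (ZMod 5), smul_smul]
        rfl
      · apply can 2
        have e2 := ev8_mul hq h1 s (unkey k)
        rw [e, ev8_add, ← a2, ← b2] at e2
        rw [Prod.snd_mul, map_mul]
        linear_combination (norm := grind) -e2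
  refine ⟨Subgroup.closure S, fun a ha h3 => ?_, fun g hg => ?_⟩
  · obtain ⟨k, hk, a1, a2⟩ := hX a ha
    rw [eq_one_K120 k hk (by rw [← a1, h3]; rfl), hone] at a2
    exact Prod.ext h3 (h.eq_one (can 2 (by rw [mul_sub, a2, mul_one, sub_self])))
  · obtain ⟨t, ht, e⟩ := h2 g hg
    exact ⟨⟨_, det_D20 t ht⟩, Subgroup.subset_closure ⟨t, ht, rfl, e⟩⟩

omit [Finite G] in
/-- Two elements of order three generating different subgroups give a pair whose product has
order four. -/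
theorem FRep.exists_pair (h : FRep ρ) {x y : G} (hx : orderOf x = 3) (hy : orderOf y = 3)
    (h1 : x * y ≠ 1) (h2 : x ≠ y) :
    ∃ u v : G, orderOf u = 3 ∧ orderOf v = 3 ∧ ρ (u * v) + ρ (u * v)⁻¹ = 0 := by
  have hy' : orderOf y⁻¹ = 3 := by rw [orderOf_inv, hy]
  rcases h.tr x y hx hy with h3 | h3 | h3 | h3 | h3
  · exact absurd h3 h1
  · exact absurd h3 h2
  · refine ⟨x, y⁻¹, hx, hy', ?_⟩
    rw [tr_eq h.unit hx hy] at h3
    rw [tr_eq h.unit hx hy', inv_rel h.unit hy]
    linear_combination (norm := noncomm_ring) -h3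
  · exact ⟨x, y, hx, hy, h3⟩
  · have hz : orderOf (x * y * x⁻¹) = 3 := ((MulAut.conj x).orderOf_eq y).trans hy
    refine ⟨y, x * y * x⁻¹, hy, hz, ?_⟩
    rw [tr_eq h.unit hx hy] at h3
    rw [tr_eq h.unit hy hz, map_mul, map_mul, inv_rel h.unit hx]
    have hX := cube_rel h.unit hx
    have hY := cube_rel h.unit hy
    generalize ρ x = X at *
    generalize ρ y = Y at *
    linear_combination (norm := noncomm_ring)
      -h3 + Y * hX * Y + X * hY * X + hY * X + Y * hX + hX * Y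

end Cfsg.Agent.Perm.Fpf
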