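import Mathlib
import Cfsg.Agent.Perm.FpfIcos
import Cfsg.Agent.Perm.FpfGroup
import Cfsg.Agent.Class.SL2Sylow
import Cfsg.Agent.Char.Burnside

/-! Zassenhaus: a perfect Frobenius complement is `SL(2,5)`. -/

set_option autoImplicit false

namespace Cfsg.Agent.Perm.Fpf

theorem card_SL25 : Nat.card (Matrix.SpecialLinearGroup (Fin 2) (ZMod 5)) = 120 := by
  haveI : Fact (Nat.Prime 5) := ⟨Nat.prime_five⟩
  rw [Class.card_SL2, ZMod.card]
  norm_num

theorem solvable_of_card_dvd_sixty {G : Type*} [Group G] [Finite G] (h : Nat.card G ∣ 60)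
    (h1 : Nat.card G ≠ 60) : Group.IsSolvable G := by
  have h2 : Nat.card G ∣ 30 ∨ Nat.card G ∣ 2 ^ 2 * 5 ^ 1 ∨ Nat.card G ∣ 2 ^ 2 * 3 ^ 1 := by
    have h3 := Nat.le_of_dvd (by norm_num) h
    generalize Nat.card G = n at *
    interval_cases n <;> simp_all
  rcases h2 with h2 | h2 | h2
  · haveI := IsZGroup.of_squarefree (Squarefree.squarefree_of_dvd h2 (by
      rw [show 30 = 2 * (3 * 5) by norm_num, Nat.squarefree_mul_iff, Nat.squarefree_mul_iff]
      exact ⟨by norm_num, Nat.prime_two.squarefree, by norm_num, Nat.prime_three.squarefree,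
        Nat.prime_five.squarefree⟩))
    infer_instance
  · exact Char.isSolvable_of_card_dvd_pow_mul_pow Nat.prime_two Nat.prime_five G h2
  · exact Char.isSolvable_of_card_dvd_pow_mul_pow Nat.prime_two Nat.prime_three G h2

/-- Zassenhaus' theorem: a perfect Frobenius complement is isomorphic to `SL(2,5)`. -/
theorem equiv_SL25_of_occurs {G : Type*} [Group G] [Finite G] [Nontrivial G]
    (h : FGS.FrobCompl.Occurs G) (hp : commutator G = ⊤) :
    Nonempty (G ≃* Matrix.SpecialLinearGroup (Fin 2) (ZMod 5)) := by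
  have hA := AbCyc.of_occurs h
  obtain ⟨R, _, _, _, ρ, hρ, hφ⟩ := exists_frep h
  obtain ⟨x₀, y₀, hx₀, hy₀, h1, h2⟩ := hA.exists_pair_three hp
  obtain ⟨x, y, hx, hy, h0⟩ := hρ.exists_pair hx₀ hy₀ h1 h2
  obtain ⟨H, hH1, hH2⟩ := hρ.exists_graph hφ hx hy h0
  let p1 := (MonoidHom.fst (Matrix.SpecialLinearGroup (Fin 2) (ZMod 5)) G).comp H.subtype
  let p2 := (MonoidHom.snd (Matrix.SpecialLinearGroup (Fin 2) (ZMod 5)) G).comp H.subtype
  have i1 : Function.Injective p1 :=
    (injective_iff_map_eq_one p1).2 fun a ha => Subtype.ext (hH1 a a.2 ha)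
  have s2 : Function.Surjective p2 := by
    rw [← MonoidHom.range_eq_top, eq_top_iff, ← hA.closure_three hp, Subgroup.closure_le]
    intro g hg
    obtain ⟨m, hm⟩ := hH2 g hg
    exact ⟨⟨_, hm⟩, rfl⟩
  have c1 : Nat.card H ∣ 120 := card_SL25 ▸ Subgroup.card_dvd_of_injective p1 i1
  have c2 : Nat.card G ∣ Nat.card H := Subgroup.card_dvd_of_surjective p2 s2
  have c3 : Nat.card G = 120 := by
    have hq := (hρ.quat hx hy h0).1.ii
    rw [← map_mul] at hq
    generalize x * y * (x * y) = z at hq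
    have hz1 : z ≠ 1 := fun hz => by
      rw [hz, map_one] at hq
      exact lit_ne (C := R) 2 (by linear_combination (norm := norm_num) hq)
    have hz2 : orderOf z = 2 := orderOf_eq_prime (hρ.eq_one (by rw [map_pow, hq]; simp)) hz1
    have hz3 : z ∈ Subgroup.center G := by
      rw [Subgroup.mem_center_iff]
      intro g
      rw [← mul_inv_eq_one]
      apply hρ.eq_one
      have e : ρ (g * z) = ρ (z * g) := by rw [map_mul, map_mul, hq]; simp
      rw [map_mul, e, ← map_mul, mul_inv_cancel, map_one]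
    haveI : (Subgroup.zpowers z).Normal := ⟨fun n hn g => by
      rwa [Subgroup.mem_center_iff.1 (Subgroup.zpowers_le.2 hz3 hn) g, mul_inv_cancel_right]⟩
    have c4 := Subgroup.card_eq_card_quotient_mul_card_subgroup (Subgroup.zpowers z)
    rw [Nat.card_zpowers, hz2] at c4
    have c5 : Nat.card (G ⧸ Subgroup.zpowers z) ∣ 60 :=
      Nat.dvd_of_mul_dvd_mul_right two_pos (c4 ▸ c2.trans c1)
    by_contra c6
    haveI := solvable_of_card_dvd_sixty c5 (by omega)
    haveI : Group.IsSolvable (Subgroup.zpowers z) := by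
      letI : CommGroup (Subgroup.zpowers z) := IsCyclic.commGroup
      infer_instance
    exact not_solvable_of_perfect hp (solvable_of_ker_le_range (Subgroup.zpowers z).subtype
      (QuotientGroup.mk' (Subgroup.zpowers z)) (by simp))
  have c4 : Nat.card H = 120 := Nat.dvd_antisymm c1 (c3 ▸ c2)
  have b1 : Function.Bijective p1 :=
    (Nat.bijective_iff_injective_and_card p1).2 ⟨i1, c4.trans card_SL25.symm⟩
  have b2 : Function.Bijective p2 :=
    (Nat.bijective_iff_surjective_and_card p2).2 ⟨s2, c4.trans c3.symm⟩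
  exact ⟨(MulEquiv.ofBijective p2 b2).symm.trans (MulEquiv.ofBijective p1 b1)⟩

end Cfsg.Agent.Perm.Fpf
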