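import Mathlib
import Cfsg.Agent.PLocal.AmalgamS4
import Cfsg.Agent.PLocal.AmbSyl
import Cfsg.Agent.PLocal.Hyperplane
import Cfsg.Agent.Inv.CycExt

/-! Point stabilizers of primitive groups with a suborbit of length 3 (Sims, Wong). -/

set_option autoImplicit false

namespace Cfsg.Agent.Sub3

open Subgroup Cfsg Cfsg.Agent.PLocal Cfsg.Agent.PLocal.Amb Cfsg.Agent.PLocal.Amal

variable {G : Type*} [Group G] [Finite G]

/-- the action on the three cosets of a subgroup of index 3 -/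
theorem exists_hom {P T : Subgroup G} (h3 : T.relIndex P = 3) :
    ∃ f : P →* Equiv.Perm (Fin 3), f.ker.map P.subtype ≤ T := by
  classical
  have := Fintype.ofFinite (P ⧸ T.subgroupOf P)
  let e : (P ⧸ T.subgroupOf P) ≃ Fin 3 :=
    Fintype.equivFinOfCardEq (by rw [← Nat.card_eq_fintype_card]; exact h3)
  refine ⟨e.permCongrHom.toMonoidHom.comp (MulAction.toPermHom P (P ⧸ T.subgroupOf P)), ?_⟩
  rintro _ ⟨x, hx, rfl⟩
  have h1 : x ∈ (T.subgroupOf P).normalCore := by
    rw [normalCore_eq_ker]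
    exact e.permCongrHom.map_eq_one_iff.1 hx
  exact normalCore_le (T.subgroupOf P) h1

theorem exists_core {P T : Subgroup G} (hT : T ≤ P) (h3 : T.relIndex P = 3) :
    ∃ K, K ≤ T ∧ P ≤ 𝐍[K] ∧ K.relIndex T ∣ 2 := by
  obtain ⟨f, hf⟩ := exists_hom h3
  refine ⟨_, hf, le_normalizer_map_subtype _, ?_⟩
  have h1 : (f.ker.map P.subtype).relIndex P ∣ 2 * 3 := by
    rw [relIndex, map_subtype_subgroupOf, index_ker]
    have := card_subgroup_dvd_card f.range
    rwa [Nat.card_perm, Nat.card_fin] at this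
  rw [← relIndex_mul_relIndex _ _ _ hf hT, h3] at h1
  exact Nat.dvd_of_mul_dvd_mul_right (by norm_num) h1

theorem le_normalizer_pRes {P T : Subgroup G} (hT : T ≤ P) (h3 : T.relIndex P = 3) :
    P ≤ 𝐍[𝐎[2, T]] := by
  obtain ⟨K, h1, h2, h4⟩ := exists_core hT h3
  have := normal_subgroupOf' (hT.trans h2)
  rw [← pRes_eq_of_le (pRes_le_of_pow (K := K) fun g hg => ⟨1, ?_⟩) h1]
  · exact h2.trans (normalizer_le_normalizer_pRes 2 K)
  · obtain ⟨c, hc⟩ := h4
    rw [pow_one, hc, pow_mul]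
    exact K.pow_mem (pow_index_mem (K.subgroupOf T) ⟨g, hg⟩) c

theorem relIndex_pCoreOf_dvd {P T : Subgroup G} (hT : IsSyl 2 T P) (h3 : T.relIndex P = 3) :
    (pCoreOf 2 P).relIndex T ∣ 2 := by
  obtain ⟨K, h1, h2, h4⟩ := exists_core hT.le h3
  exact (relIndex_dvd_of_le_left T (le_pCoreOf (hT.2.to_le h1) (h1.trans hT.le) h2)).trans h4

/-- the amalgam of two subgroups interchanged up to conjugacy, with index 3 -/
theorem cases_aux {P T : Subgroup G} {g : G} (hT : IsSyl 2 T P) (h3 : T.relIndex P = 3)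
    (hg : cj(g, T) = T) (hcore : ∀ N : Subgroup G, N ≤ T → P ≤ 𝐍[N] → cj(g, P) ≤ 𝐍[N] → N = ⊥) :
    Nonempty (P ≃* Multiplicative (ZMod 3)) ∨ Nonempty (P ≃* Equiv.Perm (Fin 3)) ∨
      Nonempty (P ≃* DihedralGroup 6) ∨ Nonempty (P ≃* Equiv.Perm (Fin 4)) ∨
      Nonempty (P ≃* Equiv.Perm (Fin 4) × Multiplicative (ZMod 2)) := by
  classical
  have hQT := hT.pCoreOf_le
  have hQ'T : cj(g, pCoreOf 2 P) ≤ T := hg ▸ cj_mono g hQT
  have hn := le_normalizer_pCoreOf 2 P
  have hn' : cj(g, P) ≤ 𝐍[cj(g, pCoreOf 2 P)] := by rw [normalizer_cj]; exact cj_mono g hn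
  have hPT := card_mul_relIndex_of_le hT.le
  rw [h3] at hPT
  rcases (Nat.dvd_prime Nat.prime_two).1 (relIndex_pCoreOf_dvd hT h3) with h1 | h2
  · left
    have e : pCoreOf 2 P = T := le_antisymm hQT (relIndex_eq_one.1 h1)
    rw [e, hg] at hn'
    rw [hcore T le_rfl (e ▸ hn) hn', card_bot, one_mul] at hPT
    have : Fact (Nat.Prime 3) := ⟨Nat.prime_three⟩
    exact ⟨mulEquivOfPrimeCardEq hPT.symm (by simp)⟩
  right
  have hQc := card_mul_relIndex_of_le hQT
  rw [h2] at hQc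
  by_cases hc : P ⊓ 𝐂[pCoreOf 2 P] ≤ pCoreOf 2 P
  · right; right
    have hT1 : T ≠ ⊥ := fun h => by rw [h, relIndex_bot_right] at h2; omega
    have d1 : DPar P T := by
      refine ⟨inferInstance, hT.le, hT.2, h3 ▸ Nat.prime_three, by omega, h2, hc, fun ha => ?_⟩
      have e := omegaOne_center_cj (p := 2) T g
      rw [hg] at e
      refine omegaOne_center_ne_bot hT.2 hT1 (hcore _ ?_
        (ha.trans (centralizer_le_normalizer' _)) ?_)
      · exact (closure_le _).2 fun x hx => hx.1.1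
      · rw [e, normalizer_cj]; exact cj_mono g (ha.trans (centralizer_le_normalizer' _))
    have d2 : DPar cj(g, P) T := hg ▸ d1.cj g
    have k := s4Pair d1 d2 (by nth_rewrite 2 [← hg]; rw [relIndex_cj]) hcore
    rcases k.card with h8 | h16
    · exact Or.inl (k.iso_sym4 d1 h8)
    · obtain ⟨e⟩ := k.iso_two_sym4 d1 d2 h16
      exact Or.inr ⟨e.trans MulEquiv.prodComm⟩
  have hC : (P ⊓ 𝐂[pCoreOf 2 P]) ⊔ T = P := by
    refine (eq_or_eq_of_relIndex_prime (h3 ▸ Nat.prime_three) le_sup_right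
      (sup_le inf_le_left hT.le)).resolve_left fun e => hc (le_pCoreOf
        (hT.2.to_le (le_sup_left.trans e.le)) inf_le_left
        (le_normalizer_inf le_normalizer (le_normalizer_centralizer hn)))
  have hTn : T ≤ 𝐍[pCoreOf 2 P ⊓ cj(g, pCoreOf 2 P)] :=
    le_normalizer_inf (hT.le.trans hn) ((hg.ge.trans (cj_mono g hT.le)).trans hn')
  have hbot : pCoreOf 2 P ⊓ cj(g, pCoreOf 2 P) = ⊥ := by
    refine hcore _ (inf_le_left.trans hQT) (hC.ge.trans (sup_le ?_ hTn)) ?_
    · exact inf_le_right.trans ((centralizer_anti inf_le_left).trans (centralizer_le_normalizer' _))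
    · refine (cj_mono g hC.ge).trans ?_
      rw [cj_sup, hg, cj_inf, ← centralizer_cj]
      exact sup_le (inf_le_right.trans ((centralizer_anti inf_le_right).trans
        (centralizer_le_normalizer' _))) hTn
  by_cases hQ : pCoreOf 2 P = ⊥
  · left
    obtain ⟨f, hf⟩ := exists_hom h3
    have hk : f.ker = ⊥ := by
      rw [← map_eq_bot_iff_of_injective _ P.subtype_injective, eq_bot_iff, ← hQ]
      exact le_pCoreOf (hT.2.to_le hf) (map_subtype_le _) (le_normalizer_map_subtype _)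
    rw [hQ, card_bot] at hQc
    refine ⟨MulEquiv.ofBijective f ((Nat.bijective_iff_injective_and_card f).2
      ⟨(MonoidHom.ker_eq_bot_iff f).1 hk, ?_⟩)⟩
    rw [Nat.card_perm, Nat.card_fin, ← hPT, ← hQc]; rfl
  right; left
  have hQ2 : Nat.card (pCoreOf 2 P) = 2 := by
    have e := card_inf_mul_relIndex (pCoreOf 2 P) cj(g, pCoreOf 2 P)
    rw [hbot, card_bot, one_mul, card_cj] at e
    have := relIndex_le_two h2 hQ'T
    have := (pCoreOf 2 P).one_lt_card_iff_ne_bot.2 hQ
    omega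
  obtain ⟨q, hq1, hq2, hq⟩ := exists_eq_zpowers_of_card_prime hQ2
  obtain ⟨s, hs1, hs2, hs⟩ := exists_eq_zpowers_of_card_prime ((card_cj g _).trans hQ2)
  have hqo : orderOf q = 2 := orderOf_eq_prime hq2 hq1
  have hqQ : q ∈ pCoreOf 2 P := hq ▸ mem_zpowers q
  have hsT : s ∈ T := hQ'T (hs ▸ mem_zpowers s)
  have hsQ : s ∉ pCoreOf 2 P := fun h => hs1 (mem_bot.1 (hbot ▸ ⟨h, hs ▸ mem_zpowers s⟩))
  have hqc : ∀ x ∈ P, x * q = q * x := fun x hx => by
    have h1 := conj_mem_of_mem_normalizer (hn hx) hqQ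
    rw [hq, mem_zpowers_iff_mem_range_orderOf, hqo] at h1
    simp only [Finset.mem_image, Finset.mem_range] at h1
    obtain ⟨k, hk, e⟩ := h1
    interval_cases k
    · exact absurd (by simpa using e.symm) hq1
    · rw [pow_one] at e; rw [← mul_inv_eq_iff_eq_mul, ← e]
  have h12 : Nat.card P = 12 := by omega
  have : Fact (Nat.Prime 3) := ⟨Nat.prime_three⟩
  obtain ⟨r', hr'⟩ := exists_prime_orderOf_dvd_card' (G := P) 3 (by omega)
  have hr : orderOf (r' : G) = 3 := by rw [Subgroup.orderOf_coe, hr']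
  have hrq : Commute (r' : G) q := hqc _ r'.2
  have hc6 : orderOf ((r' : G) * q) = 6 := by
    rw [hrq.orderOf_mul_eq_mul_orderOf_of_coprime (by rw [hr, hqo]; decide), hr, hqo]
  set c := (r' : G) * q with hcdef
  have hcP : zpowers c ≤ P := zpowers_le.2 (P.mul_mem r'.2 (pCoreOf_le 2 P hqQ))
  have hi : (zpowers c).relIndex P = 2 := by
    have := card_mul_relIndex_of_le hcP
    rw [Nat.card_zpowers, hc6] at this
    omega
  have hss : s * s = 1 := by rw [← pow_two]; exact hs2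
  have hcn : P ≤ 𝐍[zpowers c] := (normal_subgroupOf_iff_le_normalizer hcP).1
    (normal_of_index_eq_two hi)
  have hmem : ∀ y ∈ zpowers c, ∃ k < 6, c ^ k = y := fun y hy => by
    rw [mem_zpowers_iff_mem_range_orderOf, hc6] at hy
    simpa using hy
  have hc3 : c ^ 3 = q := by
    rw [hcdef, hrq.mul_pow, ← hr, pow_orderOf_eq_one, one_mul, hr, pow_succ, hq2, one_mul]
  have hsc : s ∉ zpowers c := fun h => by
    obtain ⟨k, hk, e⟩ := hmem s h
    have h1 : 6 ∣ k * 2 := by rw [← hc6, orderOf_dvd_iff_pow_eq_one, pow_mul, e, hs2]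
    obtain rfl | rfl : k = 0 ∨ k = 3 := by omega
    · exact hs1 (by rw [← e, pow_zero])
    · exact hsQ (by rw [← e, hc3]; exact hqQ)
  have hgen : closure {c, s} = P := by
    refine (eq_or_eq_of_relIndex_prime (T := zpowers c) (hi ▸ Nat.prime_two)
      (zpowers_le.2 (subset_closure (by simp))) ((closure_le _).2 ?_)).resolve_left
      fun e => hsc (e ▸ subset_closure (by simp))
    rintro x (rfl | rfl)
    exacts [hcP (mem_zpowers _), hT.le hsT]
  have hinv : s * c * s⁻¹ = c⁻¹ := by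
    obtain ⟨k, hk, e⟩ := hmem _ (conj_mem_of_mem_normalizer (hcn (hT.le hsT)) (mem_zpowers c))
    have ho : orderOf (c ^ k) = 6 := by rw [e, orderOf_conj', hc6]
    rw [orderOf_pow' _ (by rintro rfl; simp at ho), hc6] at ho
    obtain rfl | rfl : k = 1 ∨ k = 5 := by
      clear * - hk ho
      interval_cases k <;> revert ho <;> decide
    · exfalso
      refine hsQ (le_pCoreOf (hT.2.to_le (zpowers_le.2 hsT)) (zpowers_le.2 (hT.le hsT)) ?_
        (mem_zpowers s))
      refine le_trans ?_ (centralizer_le_normalizer' _)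
      rw [← hgen, closure_le, Amb.centralizer_zpowers]
      rintro x (rfl | rfl)
      · rw [pow_one] at e
        exact mem_centralizer_singleton_iff.2 (by rw [← mul_inv_eq_iff_eq_mul.1 e.symm])
      · exact mem_centralizer_singleton_iff.2 rfl
    · rw [← e, eq_inv_iff_mul_eq_one, ← pow_succ]
      exact orderOf_dvd_iff_pow_eq_one.1 hc6.dvd
  obtain ⟨e⟩ := Inv.nonempty_dihedral_of_gens hc6 hinv hss hsc
  exact ⟨(MulEquiv.subgroupCongr hgen.symm).trans e⟩

theorem cases {P : Subgroup G} {g : G} (h3 : cj(g, P).relIndex P = 3)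
    (hcore : ∀ N : Subgroup G, N ≤ P → P ≤ 𝐍[N] → cj(g, P) ≤ 𝐍[N] → N = ⊥) :
    Nonempty (P ≃* Multiplicative (ZMod 3)) ∨ Nonempty (P ≃* Equiv.Perm (Fin 3)) ∨
      Nonempty (P ≃* DihedralGroup 6) ∨ Nonempty (P ≃* Equiv.Perm (Fin 4)) ∨
      Nonempty (P ≃* Equiv.Perm (Fin 4) × Multiplicative (ZMod 2)) := by
  have i1 : (cj(g, P) ⊓ P).relIndex P = 3 := by rw [inf_relIndex_right, h3]
  have i2 : (cj(g, P) ⊓ P).relIndex cj(g, P) = 3 := by
    have e1 := card_mul_relIndex_of_le (inf_le_right : cj(g, P) ⊓ P ≤ P)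
    have e2 := card_mul_relIndex_of_le (inf_le_left : cj(g, P) ⊓ P ≤ cj(g, P))
    rw [card_cj, ← e1, i1] at e2
    exact Nat.eq_of_mul_eq_mul_left Nat.card_pos e2
  set T := cj(g, P) ⊓ P with hT
  have h2 : IsPGroup 2 T := isPGroup_of_pRes_le (R := ⊥) IsPGroup.of_bot
    (hcore _ ((pRes_le 2 T).trans inf_le_right) (le_normalizer_pRes inf_le_right i1)
      (le_normalizer_pRes inf_le_left i2)).le
  have s1 : IsSyl 2 T P := isSyl_of_not_dvd_relIndex h2 inf_le_right (by rw [i1]; decide)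
  have s2 : IsSyl 2 T cj(g, P) := isSyl_of_not_dvd_relIndex h2 inf_le_left (by rw [i2]; decide)
  obtain ⟨h, hh, e⟩ := s2.exists_cj_eq (s1.cj g)
  refine cases_aux (g := h * g) s1 i1 (by rw [cj_mul, e]) fun N a b c =>
    hcore N (a.trans inf_le_right) b ?_
  rwa [cj_mul, cj_of_mem hh] at c

/-- Sims, Wong -/
theorem stabilizer_cases {Ω : Type*} [MulAction G Ω] [FaithfulSMul G Ω]
    (hprim : MulAction.IsPreprimitive G Ω) (a b : Ω)
    (h3 : Nat.card (MulAction.orbit (MulAction.stabilizer G a) b) = 3) :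
    Nonempty (MulAction.stabilizer G a ≃* Multiplicative (ZMod 3)) ∨
      Nonempty (MulAction.stabilizer G a ≃* Equiv.Perm (Fin 3)) ∨
      Nonempty (MulAction.stabilizer G a ≃* DihedralGroup 6) ∨
      Nonempty (MulAction.stabilizer G a ≃* Equiv.Perm (Fin 4)) ∨
      Nonempty (MulAction.stabilizer G a ≃* Equiv.Perm (Fin 4) × Multiplicative (ZMod 2)) := by
  obtain ⟨g, rfl⟩ := MulAction.exists_smul_eq G a b
  have e : MulAction.stabilizer G (g • a) = cj(g, MulAction.stabilizer G a) :=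
    MulAction.stabilizer_smul_eq_stabilizer_map_conj g a
  have hi : cj(g, MulAction.stabilizer G a).relIndex (MulAction.stabilizer G a) = 3 := by
    rw [← e, ← h3, relIndex, Nat.card_coe_set_eq, ← MulAction.index_stabilizer]
    rfl
  have hne : ¬ cj(g, MulAction.stabilizer G a) ≤ MulAction.stabilizer G a := fun h => by
    rw [cj_of_mem_normalizer (mem_normalizer_of_cj_le h), relIndex_self] at hi
    omega
  have : Nontrivial Ω := ⟨g • a, a, fun h => hne (by rw [← e, h])⟩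
  have hM := MulAction.IsPreprimitive.isCoatom_stabilizer_of_isPreprimitive G a
  refine cases hi fun N h1 h2 h4 => ?_
  have hN : 𝐍[N] = ⊤ := hM.2 _ (lt_of_le_of_ne h2 fun h => hne (h ▸ h4))
  rw [eq_bot_iff]
  intro x hx
  rw [mem_bot]
  refine FaithfulSMul.eq_of_smul_eq_smul (α := Ω) fun c => ?_
  obtain ⟨y, rfl⟩ := MulAction.exists_smul_eq G a c
  have h5 : (y⁻¹ * x * y) • a = a := h1 (inv_conj_mem_of_mem_normalizer (hN ▸ mem_top y) hx)
  rw [one_smul, smul_smul]
  nth_rewrite 2 [← h5]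
  rw [smul_smul]; congr 1; group

end Cfsg.Agent.Sub3
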