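import Mathlib

/-!
Schur's method: a permutation group containing a regular abelian subgroup `H` of composite order
with exactly `p` solutions of `h ^ p = 1` (a nontrivial cyclic Sylow `p`-subgroup) is doubly
transitive or has a nontrivial block which is a subgroup of `H` (Burnside, Schur, Wielandt).
-/

set_option autoImplicit false

namespace Cfsg.Agent.Perm.BGroup

open Finset

variable {G H : Type*} [Group G] [CommGroup H] {ι : H →* G}

section core

variable [MulAction G H]

/-- invariance under the stabiliser of `1` -/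
def SInv (G : Type*) [Group G] [MulAction G H] {R : Type*} (f : H → R) : Prop :=
  ∀ s : G, s • (1 : H) = 1 → ∀ x, f (s • x) = f x

theorem SInv.two (hι : ∀ h x : H, ι h • x = h * x) {R : Type*} {f : H → R} (hf : SInv G f)
    (g : G) (x y : H) : f ((g • x)⁻¹ * g • y) = f (x⁻¹ * y) := by
  rw [← hf (ι (g • x)⁻¹ * g * ι x) (by simp only [mul_smul, hι]; simp) (x⁻¹ * y)]
  simp only [mul_smul, hι]
  simp

theorem sinv_closure (hι : ∀ h x : H, ι h • x = h * x) {X : Set H} (hX : SInv G (· ∈ X)) :
    ∀ x ∈ Subgroup.closure X, ∀ s : G, s • (1 : H) = 1 → s • x ∈ Subgroup.closure X := by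
  intro x hx
  induction hx using Subgroup.closure_induction with
  | mem x hx => exact fun s hs => Subgroup.subset_closure ((hX s hs x).to_iff.2 hx)
  | one => intro s hs; rw [hs]; exact one_mem _
  | mul x y _ _ hx hy =>
    intro s hs
    have := mul_mem (hx s hs) (hy (ι (s • x)⁻¹ * s * ι x) (by simp only [mul_smul, hι]; simp))
    simp only [mul_smul, hι] at this
    simpa using this
  | inv x _ hx =>
    intro s hs
    have := inv_mem (hx (ι (s • x⁻¹)⁻¹ * s * ι x⁻¹) (by simp only [mul_smul, hι]; simp))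
    simp only [mul_smul, hι] at this
    simpa [hs] using this

theorem sinv_coeff_pow [Fintype H] (hι : ∀ h x : H, ι h • x = h * x) {R : Type*} [CommRing R]
    {a : MonoidAlgebra R H} (ha : SInv G a.coeff) (n : ℕ) : SInv G (a ^ n).coeff := by
  classical
  induction n with
  | zero =>
    intro s hs x
    rw [pow_zero, MonoidAlgebra.one_def, MonoidAlgebra.coeff_single_apply,
      MonoidAlgebra.coeff_single_apply]
    refine if_congr ?_ rfl rfl
    conv_lhs => rw [← hs]
    exact smul_left_cancel_iff s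
  | succ n ih =>
    intro s hs x
    rw [pow_succ, MonoidAlgebra.coeff_mul_apply_left, MonoidAlgebra.coeff_mul_apply_left,
      Finsupp.sum_fintype _ _ (by simp), Finsupp.sum_fintype _ _ (by simp)]
    refine (Fintype.sum_equiv (MulAction.toPerm s) _ _ fun y => ?_).symm
    rw [MulAction.toPerm_apply, ih s hs, ha.two hι]

variable [Fintype H] [DecidableEq H] {p : ℕ}

theorem coset_subset (hp : p.Prime) (hι : ∀ h x : H, ι h • x = h * x)
    (hprim : ∀ K : Subgroup H, (∀ x ∈ K, ∀ s : G, s • (1 : H) = 1 → s • x ∈ K) → K = ⊥ ∨ K = ⊤)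
    (hE : #{e : H | e ^ p = 1} = p) {X : Finset H} (hX : SInv G (· ∈ X)) {x e : H} (hx : x ∈ X)
    (hxp : x ^ p ≠ 1) (he : e ^ p = 1) : e * x ∈ X := by
  haveI := Fact.mk hp
  haveI : CharP (MonoidAlgebra (ZMod p) H) p :=
    charP_of_injective_algebraMap (algebraMap (ZMod p) (MonoidAlgebra (ZMod p) H)).injective p
  have h1 : SInv G (∑ y ∈ X, MonoidAlgebra.single y (1 : ZMod p)).coeff := by
    intro s hs y
    have := hX s hs y
    simp only [eq_iff_iff] at this
    simp [MonoidAlgebra.coeff_sum, Finsupp.finsetSum_apply, Finsupp.single_apply, this]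
  have h2 := sinv_coeff_pow hι h1 p
  have h3 : ∀ h : H, ((∑ y ∈ X, MonoidAlgebra.single y (1 : ZMod p)) ^ p).coeff h =
      (#{y ∈ X | y ^ p = h} : ZMod p) := by
    intro h
    rw [sum_pow_char]
    simp [MonoidAlgebra.coeff_sum, Finsupp.finsetSum_apply, Finsupp.single_apply]
  set Y : Set H := {h | (#{y ∈ X | y ^ p = h} : ZMod p) ≠ 0} with hY
  have hYs : SInv G (· ∈ Y) := fun s hs y => by
    simp only [hY, Set.mem_setOf_eq, ← h3, h2 s hs]
  have h4 : Subgroup.closure Y ≤ (powMonoidHom p : H →* H).range := by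
    refine (Subgroup.closure_le _).2 fun h hh => ?_
    obtain ⟨y, hy⟩ : ({y ∈ X | y ^ p = h} : Finset H).Nonempty :=
      card_pos.1 (Nat.pos_of_ne_zero fun h0 => hh (by rw [h0, Nat.cast_zero]))
    exact ⟨y, (mem_filter.1 hy).2⟩
  rcases hprim _ (sinv_closure hι hYs) with h5 | h5
  · have h6 : x ^ p ∉ Y := fun hh => hxp (Subgroup.mem_bot.1 (h5 ▸ Subgroup.subset_closure hh))
    rw [hY, Set.mem_setOf_eq, not_not, ZMod.natCast_eq_zero_iff] at h6
    have h7 : ({y ∈ X | y ^ p = x ^ p} : Finset H) = image (· * x) {e : H | e ^ p = 1} := by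
      refine eq_of_subset_of_card_le (fun y hy => mem_image.2 ⟨y * x⁻¹, ?_, by simp⟩) ?_
      · simp [mul_pow, (mem_filter.1 hy).2]
      · rw [card_image_of_injective _ (mul_left_injective x), hE]
        exact Nat.le_of_dvd (card_pos.2 ⟨x, by simpa using hx⟩) h6
    have : e * x ∈ ({y ∈ X | y ^ p = x ^ p} : Finset H) :=
      h7 ▸ mem_image_of_mem _ (by simpa using he)
    exact (mem_filter.1 this).1
  · exfalso
    have h6 : Function.Injective (powMonoidHom p : H →* H) :=
      Finite.injective_iff_surjective.2 (MonoidHom.range_eq_top.1 (eq_top_iff.2 (h5 ▸ h4)))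
    have : ({e : H | e ^ p = 1} : Finset H) ⊆ {1} := fun e he =>
      mem_singleton.2 (h6 (by simpa using he))
    have := card_le_card this
    rw [hE, card_singleton] at this
    exact absurd hp.one_lt (not_lt.2 this)

theorem exists_mem_pow_eq_one (hp : p.Prime) (hι : ∀ h x : H, ι h • x = h * x)
    (hprim : ∀ K : Subgroup H, (∀ x ∈ K, ∀ s : G, s • (1 : H) = 1 → s • x ∈ K) → K = ⊥ ∨ K = ⊤)
    (hE : #{e : H | e ^ p = 1} = p) {X : Finset H} (hX : SInv G (· ∈ X)) (h1 : 1 ∉ X)
    (hne : X.Nonempty) : ∃ x ∈ X, x ^ p = 1 := by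
  by_contra hn
  push Not at hn
  let K : Subgroup H :=
    { carrier := {h | ∀ y, h * y ∈ X ↔ y ∈ X}
      one_mem' := fun y => by rw [one_mul]
      mul_mem' := fun {a b} ha hb y => by rw [mul_assoc, ha, hb]
      inv_mem' := fun {a} ha y => by rw [← ha, mul_inv_cancel_left] }
  have hK : ∀ e : H, e ^ p = 1 → e ∈ K := fun e he y =>
    ⟨fun h => by simpa using coset_subset hp hι hprim hE hX h (hn _ h) (e := e⁻¹) (by simp [he]),
      fun h => coset_subset hp hι hprim hE hX h (hn _ h) he⟩
  rcases hprim K (fun h hh s hs y => by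
    have h2 := hX (ι h⁻¹ * s⁻¹ * ι (s • h)) (by simp only [mul_smul, hι]; simp) y
    have h3 := hX s⁻¹ (inv_smul_eq_iff.2 hs.symm) (s • h * y)
    simp only [mul_smul, hι, eq_iff_iff] at h2 h3
    rw [← h2, ← h3, ← hh, ← hh (h⁻¹ * _), mul_inv_cancel_left, hh]) with h5 | h5
  · have : ({e : H | e ^ p = 1} : Finset H) ⊆ {1} := fun e he =>
      mem_singleton.2 (Subgroup.mem_bot.1 (h5 ▸ hK e (by simpa using he)))
    have := card_le_card this
    rw [hE, card_singleton] at this
    exact absurd hp.one_lt (not_lt.2 this)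
  · obtain ⟨x, hx⟩ := hne
    have : x⁻¹ ∈ K := h5 ▸ Subgroup.mem_top _
    exact h1 (by simpa using (this x).2 hx)

open scoped Classical in
omit [DecidableEq H] in
theorem sinv_orbit (a : H) :
    SInv G (· ∈ ({y | ∃ s : G, s • (1 : H) = 1 ∧ s • a = y} : Finset H)) := fun s hs y => by
  simp only [mem_filter, mem_univ, true_and, eq_iff_iff]
  refine ⟨fun ⟨t, h1, h2⟩ => ⟨s⁻¹ * t, ?_, ?_⟩, fun ⟨t, h1, h2⟩ => ⟨s * t, ?_, ?_⟩⟩
  · rw [mul_smul, h1, inv_smul_eq_iff, hs]
  · rw [mul_smul, h2, inv_smul_smul]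
  · rw [mul_smul, h1, hs]
  · rw [mul_smul, h2]

open scoped Classical in
omit [DecidableEq H] in
theorem one_notMem_orbit {a : H} (ha : a ≠ 1) :
    1 ∉ ({y | ∃ s : G, s • (1 : H) = 1 ∧ s • a = y} : Finset H) := by
  simp only [mem_filter, mem_univ, true_and]
  rintro ⟨t, h1, h2⟩
  exact ha (smul_left_cancel t (h2.trans h1.symm))

theorem count (hp : p.Prime) (hι : ∀ h x : H, ι h • x = h * x)
    (hprim : ∀ K : Subgroup H, (∀ x ∈ K, ∀ s : G, s • (1 : H) = 1 → s • x ∈ K) → K = ⊥ ∨ K = ⊤)
    (hE : #{e : H | e ^ p = 1} = p) (hn : p < Fintype.card H) {X : Finset H}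
    (hX : SInv G (· ∈ X)) (h1 : 1 ∉ X) (hne : X.Nonempty) :
    p ≤ #X ∧ #X + (Fintype.card H - 1) * #{x ∈ X | x ^ p ≠ 1} ≤ #X * #X := by
  classical
  constructor
  · by_cases h : ∃ x ∈ X, x ^ p ≠ 1
    · obtain ⟨x, hx, hxp⟩ := h
      rw [← hE, ← card_image_of_injective _ (mul_left_injective x)]
      refine card_le_card fun y hy => ?_
      obtain ⟨e, he, rfl⟩ := mem_image.1 hy
      exact coset_subset hp hι hprim hE hX hx hxp (by simpa using he)
    · exfalso
      push Not at h
      have h2 : Subgroup.closure (X : Set H) ≤ (powMonoidHom p : H →* H).ker :=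
        (Subgroup.closure_le _).2 h
      rcases hprim _ (sinv_closure hι (X := X) hX) with h5 | h5
      · obtain ⟨x, hx⟩ := hne
        exact h1 (Subgroup.mem_bot.1 (h5 ▸ Subgroup.subset_closure hx) ▸ hx)
      · rw [← hE, filter_true_of_mem (p := fun e : H => e ^ p = 1)
          fun e _ => h2 (h5 ▸ Subgroup.mem_top e), card_univ] at hn
        exact lt_irrefl _ hn
  · have hc : SInv G fun h : H => #{y ∈ X | h⁻¹ * y ∈ X} := by
      intro s hs h
      refine (card_bij (fun y _ => s • y) ?_ (fun a _ b _ hab => smul_left_cancel s hab) ?_).symm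
      · intro y hy
        rw [mem_filter] at hy ⊢
        exact ⟨(hX s hs y).to_iff.2 hy.1, (hX.two hι s h y).to_iff.2 hy.2⟩
      · intro y hy
        rw [mem_filter] at hy
        refine ⟨s⁻¹ • y, mem_filter.2 ⟨?_, ?_⟩, by simp⟩
        · exact (hX s⁻¹ (inv_smul_eq_iff.2 hs.symm) y).to_iff.2 hy.1
        · have := hX.two hι s h (s⁻¹ • y)
          rw [smul_inv_smul] at this
          exact this ▸ hy.2
    have hsum : ∑ h : H, #{y ∈ X | h⁻¹ * y ∈ X} = #X * #X := by
      simp only [card_filter]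
      rw [sum_comm, ← smul_eq_mul, ← sum_const]
      refine sum_congr rfl fun y _ => ?_
      rw [← card_filter]
      refine card_bij (fun h _ => h⁻¹ * y) (fun h hh => (mem_filter.1 hh).2)
        (fun a _ b _ hab => inv_injective (mul_right_cancel hab))
        fun z hz => ⟨y * z⁻¹, by simpa using hz, by simp⟩
    rw [← hsum, ← add_sum_erase _ _ (mem_univ (1 : H)), ← card_univ,
      ← card_erase_of_mem (mem_univ (1 : H)), ← smul_eq_mul, ← sum_const]
    refine add_le_add (le_of_eq ?_) (sum_le_sum fun h hh => ?_)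
    · rw [filter_true_of_mem fun y hy => by simpa using hy]
    · obtain ⟨e, he, hep⟩ := exists_mem_pow_eq_one hp hι hprim hE (sinv_orbit h)
        (one_notMem_orbit (mem_erase.1 hh).1) ⟨h, by simpa using ⟨1, by simp, by simp⟩⟩
      obtain ⟨s, hs, rfl⟩ := (mem_filter.1 he).2
      have := hc s hs h
      simp only at this
      rw [← this]
      refine card_le_card fun y hy => ?_
      rw [mem_filter] at hy ⊢
      exact ⟨hy.1, coset_subset hp hι hprim hE hX hy.1 hy.2 (by simp [hep])⟩

theorem stabilizer_trans (hp : p.Prime) (hι : ∀ h x : H, ι h • x = h * x)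
    (hprim : ∀ K : Subgroup H, (∀ x ∈ K, ∀ s : G, s • (1 : H) = 1 → s • x ∈ K) → K = ⊥ ∨ K = ⊤)
    (hE : #{e : H | e ^ p = 1} = p) (hn : p < Fintype.card H) {a b : H} (ha : a ≠ 1) (hb : b ≠ 1) :
    ∃ s : G, s • (1 : H) = 1 ∧ s • a = b := by
  classical
  by_contra hcon
  set X : Finset H := {y | ∃ s : G, s • (1 : H) = 1 ∧ s • a = y} with hXd
  have hX : SInv G (· ∈ X) := sinv_orbit a
  have hX1 : 1 ∉ X := one_notMem_orbit ha
  set Y : Finset H := (univ.erase 1) \ X with hYd
  have hY : SInv G (· ∈ Y) := fun s hs y => by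
    have := hX s hs y
    simp only [eq_iff_iff] at this
    simp only [hYd, mem_sdiff, mem_erase, mem_univ, and_true, eq_iff_iff, this]
    refine and_congr_left fun _ => not_congr ?_
    conv_lhs => rw [← hs]
    exact smul_left_cancel_iff s
  obtain ⟨h1, h2⟩ := count hp hι hprim hE hn hX hX1 ⟨a, by simpa [hXd] using ⟨1, by simp, by simp⟩⟩
  obtain ⟨h3, h4⟩ := count hp hι hprim hE hn hY (by simp [hYd])
    ⟨b, by simpa [hYd, hXd, hb] using hcon⟩
  have hsub : X ⊆ univ.erase 1 := fun x hx => mem_erase.2 ⟨fun h => hX1 (h ▸ hx), mem_univ x⟩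
  have h5 : #Y + #X = Fintype.card H - 1 := by
    rw [hYd, card_sdiff_add_card_eq_card hsub, card_erase_of_mem (mem_univ _), card_univ]
  have h6 : #{x ∈ Y | x ^ p ≠ 1} + #{x ∈ X | x ^ p ≠ 1} + p = Fintype.card H := by
    rw [← card_union_of_disjoint (disjoint_filter_filter sdiff_disjoint), ← filter_union,
      sdiff_union_of_subset hsub, ← card_univ,
      ← card_filter_add_card_filter_not (s := univ) (fun e : H => e ^ p = 1), hE, add_comm]
    congr 2
    ext x
    simp only [mem_filter, mem_erase, mem_univ, and_true, true_and, and_iff_right_iff_imp]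
    rintro h rfl
    exact h (one_pow p)
  rw [← h5] at h2 h4
  have h7 : #Y + #X + 1 = Fintype.card H := by omega
  rw [← h7] at h6
  have := hp.pos
  nlinarith [Nat.mul_le_mul_left #X h3, Nat.mul_le_mul_left #Y h1]

end core

variable {p : ℕ}

/-- General form: either doubly transitive, or a proper nontrivial subgroup of `H` gives a block. -/
theorem two_trans_or_block [Finite H] {Ω : Type*} [MulAction G Ω] (ι : H →* G) (α : Ω)
    (hreg : Function.Bijective fun h : H => ι h • α) (hp : p.Prime)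
    (hE : Nat.card {e : H // e ^ p = 1} = p) (hn : p < Nat.card H) :
    MulAction.IsMultiplyPretransitive G Ω 2 ∨ ∃ K : Subgroup H, K ≠ ⊥ ∧ K ≠ ⊤ ∧
      ∀ (g : G) (x y x' y' : H), g • ι x • α = ι x' • α → g • ι y • α = ι y' • α →
        x⁻¹ * y ∈ K → x'⁻¹ * y' ∈ K := by
  classical
  haveI := Fintype.ofFinite H
  let e : H ≃ Ω := Equiv.ofBijective _ hreg
  have he : ∀ h : H, e h = ι h • α := fun h => rfl
  letI : MulAction G H :=
    { smul := fun g x => e.symm (g • e x)
      one_smul := fun x => by change e.symm ((1 : G) • e x) = x; simp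
      mul_smul := fun g h x => by
        change e.symm ((g * h) • e x) = e.symm (g • e (e.symm (h • e x))); simp [mul_smul] }
  have hs : ∀ (g : G) (x : H), g • x = e.symm (g • e x) := fun _ _ => rfl
  have hι : ∀ h x : H, ι h • x = h * x := fun h x => by
    rw [hs, Equiv.symm_apply_eq, he, he, map_mul, mul_smul]
  by_cases hprim : ∀ K : Subgroup H,
      (∀ x ∈ K, ∀ s : G, s • (1 : H) = 1 → s • x ∈ K) → K = ⊥ ∨ K = ⊤
  · left
    rw [Nat.card_eq_fintype_card, Fintype.card_subtype] at hE
    rw [Nat.card_eq_fintype_card] at hn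
    refine MulAction.is_two_pretransitive_iff.2 fun {a b c d} hab hcd => ?_
    obtain ⟨a, rfl⟩ := e.surjective a
    obtain ⟨b, rfl⟩ := e.surjective b
    obtain ⟨c, rfl⟩ := e.surjective c
    obtain ⟨d, rfl⟩ := e.surjective d
    obtain ⟨s, h1, h2⟩ := stabilizer_trans hp hι hprim hE hn (a := a⁻¹ * b) (b := c⁻¹ * d)
      (fun h => hab (congrArg e (inv_mul_eq_one.1 h))) fun h => hcd (congrArg e (inv_mul_eq_one.1 h))
    refine ⟨ι c * s * ι a⁻¹, ?_, ?_⟩
    · rw [← Equiv.symm_apply_eq, ← hs]
      simp only [mul_smul, hι]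
      simp [h1]
    · rw [← Equiv.symm_apply_eq, ← hs]
      simp only [mul_smul, hι]
      simp [h2]
  · right
    push Not at hprim
    obtain ⟨K, h1, h2, h3⟩ := hprim
    refine ⟨K, h2, h3, fun g x y x' y' hx hy h => ?_⟩
    rw [← he, ← he, ← Equiv.symm_apply_eq, ← hs] at hx hy
    have := h1 _ h (ι x'⁻¹ * g * ι x) (by simp only [mul_smul, hι]; simp [hx])
    simp only [mul_smul, hι] at this
    simpa [hy] using this

/-- If the action is not doubly transitive, it is imprimitive, and the elements of `H` of order `p`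
lie in an intransitive normal subgroup. -/
theorem imprimitive_of_not_two_trans [Finite H] {Ω : Type*} [MulAction G Ω] (ι : H →* G) (α : Ω)
    (hreg : Function.Bijective fun h : H => ι h • α) (hp : p.Prime)
    (hE : Nat.card {e : H // e ^ p = 1} = p) (hn : p < Nat.card H)
    (h2 : ¬ MulAction.IsMultiplyPretransitive G Ω 2) :
    ¬ MulAction.IsPreprimitive G Ω ∧ ∃ (N : Subgroup G) (K : Subgroup H), N.Normal ∧ K ≠ ⊥ ∧
      K.map ι ≤ N ∧ ¬ MulAction.IsPretransitive N Ω := by
  obtain ⟨K, h1, h3, h4⟩ := (two_trans_or_block ι α hreg hp hE hn).resolve_left h2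
  choose c hc using hreg.2
  replace hc : ∀ b, ι (c b) • α = b := hc
  have hc' : ∀ x : H, c (ι x • α) = x := fun x => hreg.1 (hc _)
  have h5 : ∀ (g : G) (a b : Ω), (c a)⁻¹ * c b ∈ K → (c (g • a))⁻¹ * c (g • b) ∈ K :=
    fun g a b => h4 g _ _ _ _ (by rw [hc, hc]) (by rw [hc, hc])
  obtain ⟨y, hy⟩ : ∃ y, y ∉ K := by
    by_contra h
    push Not at h
    exact h3 (eq_top_iff.2 fun y _ => h y)
  constructor
  · intro hprim
    have hB : MulAction.IsBlock G {a : Ω | c a ∈ K} := by
      refine MulAction.isBlock_iff_smul_eq_of_mem.2 fun g a ha hga => ?_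
      ext b
      rw [Set.mem_smul_set_iff_inv_smul_mem]
      constructor
      · intro hb
        have := K.mul_mem hga (h5 g a _ (K.mul_mem (K.inv_mem ha) hb))
        simpa using this
      · intro hb
        have := h5 g⁻¹ _ _ (K.mul_mem (K.inv_mem hga) hb)
        rw [inv_smul_smul] at this
        simpa using K.mul_mem ha this
    rcases hprim.isTrivialBlock_of_isBlock hB with h | h
    · refine h1 (eq_bot_iff.2 fun x hx => Subgroup.mem_bot.2 (hreg.1 (h ?_ ?_)))
      · simpa [hc'] using hx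
      · change c (ι 1 • α) ∈ K
        rw [hc']; exact K.one_mem
    · have : ι y • α ∈ {a : Ω | c a ∈ K} := h ▸ Set.mem_univ _
      exact hy (by simpa [hc'] using this)
  · let N : Subgroup G :=
      { carrier := {g | ∀ a, (c a)⁻¹ * c (g • a) ∈ K}
        one_mem' := fun a => by simp
        mul_mem' := fun {g h} hg hh a => by
          simpa [mul_smul, mul_assoc] using K.mul_mem (hh a) (hg (h • a))
        inv_mem' := fun {g} hg a => by simpa using K.inv_mem (hg (g⁻¹ • a)) }
    refine ⟨N, K, ⟨fun n hn g a => ?_⟩, h1, ?_, fun htr => ?_⟩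
    · simpa [mul_smul] using h5 g _ _ (hn (g⁻¹ • a))
    · rintro _ ⟨k, hk, rfl⟩ a
      conv => enter [2, 2, 1, 2]; rw [← hc a]
      rw [← mul_smul, ← map_mul, hc']
      simpa using hk
    · obtain ⟨n, hn⟩ := htr.exists_smul_eq (ι 1 • α) (ι y • α)
      have := n.2 (ι 1 • α)
      rw [show (n : G) • ι 1 • α = ι y • α from hn, hc', hc'] at this
      exact hy (by simpa using this)

end Cfsg.Agent.Perm.BGroup
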