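import Mathlib

/-!
# Centralisers of transitive permutation groups
-/

set_option autoImplicit false

namespace Cfsg.Agent.Perm

open MulAction

variable {α : Type*}

/-- A permutation commuting with a transitive group and fixing a point is the identity. -/
theorem eq_one_of_mem_centralizer_of_apply_eq (G : Subgroup (Equiv.Perm α))
    [IsPretransitive G α] {c : Equiv.Perm α}
    (hc : c ∈ Subgroup.centralizer (G : Set (Equiv.Perm α))) {a : α} (ha : c a = a) : c = 1 := by
  ext x
  obtain ⟨g, rfl⟩ := exists_smul_eq G a x
  have h := Subgroup.mem_centralizer_iff.1 hc g g.2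
  have := DFunLike.congr_fun h a
  simp only [Equiv.Perm.coe_mul, Function.comp_apply, ha] at this
  exact this.symm

/-- Two permutations commuting with a transitive group and agreeing at a point are equal. -/
theorem eq_of_mem_centralizer_of_apply_eq (G : Subgroup (Equiv.Perm α))
    [IsPretransitive G α] {c d : Equiv.Perm α}
    (hc : c ∈ Subgroup.centralizer (G : Set (Equiv.Perm α)))
    (hd : d ∈ Subgroup.centralizer (G : Set (Equiv.Perm α))) {a : α} (ha : c a = d a) : c = d := by
  have := eq_one_of_mem_centralizer_of_apply_eq G (mul_mem (inv_mem hd) hc) (a := a)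
    (by simp [ha])
  rw [inv_mul_eq_one] at this
  exact this.symm

/-- If two points have the same stabiliser in a transitive group, some permutation centralising
the group maps the first to the second. -/
theorem exists_mem_centralizer_apply_eq (G : Subgroup (Equiv.Perm α))
    [IsPretransitive G α] {a b : α} (h : stabilizer G a = stabilizer G b) :
    ∃ c ∈ Subgroup.centralizer (G : Set (Equiv.Perm α)), c a = b := by
  have key : ∀ g g' : G, g • a = g' • a ↔ g • b = g' • b := by
    intro g g'
    have e : ∀ x : α, g • x = g' • x ↔ g'⁻¹ * g ∈ stabilizer G x := fun x => by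
      rw [mem_stabilizer_iff, mul_smul, inv_smul_eq_iff]
    rw [e, e, h]
  choose r hr using fun x => exists_smul_eq G a x
  choose t ht using fun x => exists_smul_eq G b x
  let c : Equiv.Perm α :=
    { toFun := fun x => r x • b
      invFun := fun x => t x • a
      left_inv := fun x => by
        have : t (r x • b) • a = r x • a := (key _ _).2 (ht _)
        simp only [this, hr]
      right_inv := fun x => by
        have : r (t x • a) • b = t x • b := (key _ _).1 (hr _)
        simp only [this, ht] }
  refine ⟨c, ?_, ?_⟩
  · rw [Subgroup.mem_centralizer_iff]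
    intro g hg
    ext x
    change (⟨g, hg⟩ : G) • (r x • b) = r ((⟨g, hg⟩ : G) • x) • b
    rw [smul_smul, ← key, mul_smul, hr, hr]
  · change r a • b = b
    conv_rhs => rw [← one_smul G b]
    rw [← key, hr, one_smul]

/-- A point and its image under a centralising permutation have the same stabiliser. -/
theorem stabilizer_apply_of_mem_centralizer (G : Subgroup (Equiv.Perm α)) {c : Equiv.Perm α}
    (hc : c ∈ Subgroup.centralizer (G : Set (Equiv.Perm α))) (a : α) :
    stabilizer G (c a) = stabilizer G a := by
  ext g
  have h := DFunLike.congr_fun (Subgroup.mem_centralizer_iff.1 hc g g.2) a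
  simp only [Equiv.Perm.coe_mul, Function.comp_apply] at h
  simp only [mem_stabilizer_iff]
  change (g : Equiv.Perm α) (c a) = c a ↔ (g : Equiv.Perm α) a = a
  rw [h, c.injective.eq_iff]

/-- A transitive subgroup of the centraliser of a transitive group is the whole centraliser. -/
theorem eq_centralizer_of_isPretransitive (G H : Subgroup (Equiv.Perm α))
    [IsPretransitive G α] [IsPretransitive H α]
    (hH : H ≤ Subgroup.centralizer (G : Set (Equiv.Perm α))) :
    Subgroup.centralizer (G : Set (Equiv.Perm α)) = H := by
  refine le_antisymm (fun c hc => ?_) hH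
  rcases isEmpty_or_nonempty α with hα | ⟨⟨a⟩⟩
  · rw [Subsingleton.elim c 1]; exact one_mem _
  · obtain ⟨h, hh⟩ := exists_smul_eq H a (c a)
    rw [eq_of_mem_centralizer_of_apply_eq G hc (hH h.2) (a := a) hh.symm]
    exact h.2

/-- Transitivity passes to the image of a subgroup of a subgroup. -/
theorem isPretransitive_map_subtype {Γ : Type*} [Group Γ] [MulAction Γ α] {G : Subgroup Γ}
    (M : Subgroup G) [IsPretransitive M α] : IsPretransitive (M.map G.subtype) α where
  exists_smul_eq x y := by
    obtain ⟨m, hm⟩ := exists_smul_eq M x y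
    exact ⟨⟨(m : G), Subgroup.mem_map_of_mem _ m.2⟩, hm⟩

/-- Two transitive permutation groups that centralise each other are isomorphic. -/
theorem nonempty_mulEquiv_of_centralize (M N : Subgroup (Equiv.Perm α))
    [IsPretransitive M α] [IsPretransitive N α]
    (h : N ≤ Subgroup.centralizer (M : Set (Equiv.Perm α))) : Nonempty (M ≃* N) := by
  have h' : M ≤ Subgroup.centralizer (N : Set (Equiv.Perm α)) := Subgroup.le_centralizer_iff.1 h
  rcases isEmpty_or_nonempty α with hα | ⟨⟨a⟩⟩
  · haveI : Unique M := ⟨⟨1⟩, fun _ => Subsingleton.elim _ _⟩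
    haveI : Unique N := ⟨⟨1⟩, fun _ => Subsingleton.elim _ _⟩
    exact ⟨MulEquiv.ofUnique⟩
  choose f hf using fun m : M => exists_smul_eq N a (m⁻¹ • a)
  have comm : ∀ (m : M) (n : N) (x : α), m • n • x = n • m • x := fun m n x =>
    DFunLike.congr_fun (Subgroup.mem_centralizer_iff.1 (h n.2) m m.2) x
  have injN : ∀ n n' : N, n • a = n' • a → n = n' := fun n n' e =>
    Subtype.ext (eq_of_mem_centralizer_of_apply_eq M (h n.2) (h n'.2) e)
  have injM : ∀ n n' : M, n • a = n' • a → n = n' := fun n n' e =>
    Subtype.ext (eq_of_mem_centralizer_of_apply_eq N (h' n.2) (h' n'.2) e)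
  let φ : M →* N := MonoidHom.mk' f fun m m' => injN _ _ (by
    rw [hf, mul_smul, hf, ← comm, hf, mul_inv_rev, mul_smul])
  refine ⟨MulEquiv.ofBijective φ ⟨fun m m' e => ?_, fun n => ?_⟩⟩
  · have : m⁻¹ • a = m'⁻¹ • a := by rw [← hf, ← hf]; exact congrArg (· • a) e
    exact inv_injective (injM _ _ this)
  · obtain ⟨m, hm⟩ := exists_smul_eq M a (n • a)
    exact ⟨m⁻¹, injN _ _ (by change f m⁻¹ • a = _; rw [hf, inv_inv, hm])⟩

end Cfsg.Agent.Perm
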