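import Mathlib
import Cfsg.Agent.Perm.SimplePower
import Cfsg.Agent.Perm.PrimUtil
import Cfsg.Agent.Perm.PrimRel
import Cfsg.Agent.FGS.ClassSize

/-!
# Simple factors of a non-abelian minimal normal subgroup of a transitive group

`Fac N S`: `S` is one of the simple direct factors of the non-abelian minimal normal subgroup `N`.
Internal (coordinate free) pieces of the O'Nan–Scott analysis.
-/

set_option autoImplicit false

namespace Cfsg.Agent.Perm.Onl

open MulAction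

variable {G : Type*} [Group G]

/-- conjugate subgroup `g S g⁻¹` -/
def cj (g : G) (S : Subgroup G) : Subgroup G := S.map (MulAut.conj g).toMonoidHom

theorem mem_cj {g x : G} {S : Subgroup G} : x ∈ cj g S ↔ g⁻¹ * x * g ∈ S := by
  simp only [cj, Subgroup.mem_map_equiv, MulAut.conj_symm_apply]

theorem conj_mem_cj {g x : G} {S : Subgroup G} (hx : x ∈ S) : g * x * g⁻¹ ∈ cj g S := by
  rw [mem_cj]; simpa [mul_assoc] using hx

theorem cj_one (S : Subgroup G) : cj 1 S = S := by ext x; simp [mem_cj]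

theorem cj_mul (g h : G) (S : Subgroup G) : cj (g * h) S = cj g (cj h S) := by
  ext x; simp [mem_cj, mul_assoc]

theorem card_cj (g : G) (S : Subgroup G) : Nat.card (cj g S) = Nat.card S :=
  Nat.card_congr ((MulAut.conj g).subgroupMap S).symm.toEquiv

/-- `c` centralises `S` -/
def Cm (S : Subgroup G) (c : G) : Prop := ∀ t ∈ S, Commute c t

theorem Cm.one (S : Subgroup G) : Cm S 1 := fun t _ => Commute.one_left t
theorem Cm.mul {S : Subgroup G} {c d : G} (hc : Cm S c) (hd : Cm S d) : Cm S (c * d) :=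
  fun t ht => (hc t ht).mul_left (hd t ht)
theorem Cm.inv {S : Subgroup G} {c : G} (hc : Cm S c) : Cm S c⁻¹ :=
  fun t ht => (hc t ht).inv_left
theorem cm_iff {S : Subgroup G} {c : G} : Cm S c ↔ c ∈ Subgroup.centralizer (S : Set G) := by
  rw [Subgroup.mem_centralizer_iff]
  exact ⟨fun h t ht => (h t ht).eq.symm, fun h t ht => (h t ht).symm⟩
theorem Cm.conj {S : Subgroup G} {c q : G} (hc : Cm S c) (hq : cj q S = S) :
    Cm S (q * c * q⁻¹) := by
  intro t ht
  rw [← hq, mem_cj] at ht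
  have := (hc _ ht).eq
  change q * c * q⁻¹ * t = t * (q * c * q⁻¹)
  calc q * c * q⁻¹ * t = q * (c * (q⁻¹ * t * q)) * q⁻¹ := by group
    _ = t * (q * c * q⁻¹) := by rw [this]; group

/-- projection of `D` to `S` along the centraliser of `S` -/
def proj (S D : Subgroup G) : Subgroup G where
  carrier := {s | s ∈ S ∧ ∃ c, Cm S c ∧ s * c ∈ D}
  one_mem' := ⟨one_mem _, 1, Cm.one S, by simp⟩
  mul_mem' := by
    rintro a b ⟨ha, c, hc, hac⟩ ⟨hb, d, hd, hbd⟩
    refine ⟨mul_mem ha hb, c * d, hc.mul hd, ?_⟩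
    have : a * b * (c * d) = a * c * (b * d) := by
      calc a * b * (c * d) = a * (b * c) * d := by group
        _ = a * c * (b * d) := by rw [← (hc b hb).eq]; group
    rw [this]; exact mul_mem hac hbd
  inv_mem' := by
    rintro a ⟨ha, c, hc, hac⟩
    refine ⟨inv_mem ha, c⁻¹, hc.inv, ?_⟩
    have : a⁻¹ * c⁻¹ = (a * c)⁻¹ := by rw [← (hc a ha).eq]; group
    rw [this]; exact inv_mem hac

theorem mem_proj {S D : Subgroup G} {s : G} :
    s ∈ proj S D ↔ s ∈ S ∧ ∃ c, Cm S c ∧ s * c ∈ D := Iff.rfl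

theorem proj_le (S D : Subgroup G) : proj S D ≤ S := fun _ h => h.1

theorem proj_mono (S : Subgroup G) {D E : Subgroup G} (h : D ≤ E) : proj S D ≤ proj S E :=
  fun _ ⟨h1, c, hc, h2⟩ => ⟨h1, c, hc, h h2⟩

/-- products `r c` with `r ∈ R ≤ S`, `c` centralising `S` -/
def ext (S R : Subgroup G) (h : R ≤ S) : Subgroup G where
  carrier := {x | ∃ r ∈ R, ∃ c, Cm S c ∧ x = r * c}
  one_mem' := ⟨1, one_mem _, 1, Cm.one S, by simp⟩
  mul_mem' := by
    rintro _ _ ⟨a, ha, c, hc, rfl⟩ ⟨b, hb, d, hd, rfl⟩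
    refine ⟨a * b, mul_mem ha hb, c * d, hc.mul hd, ?_⟩
    calc a * c * (b * d) = a * (c * b) * d := by group
      _ = a * b * (c * d) := by rw [(hc b (h hb)).eq]; group
  inv_mem' := by
    rintro _ ⟨a, ha, c, hc, rfl⟩
    refine ⟨a⁻¹, inv_mem ha, c⁻¹, hc.inv, ?_⟩
    rw [← (hc a (h ha)).eq]; group

theorem mem_ext {S R : Subgroup G} {h : R ≤ S} {x : G} :
    x ∈ ext S R h ↔ ∃ r ∈ R, ∃ c, Cm S c ∧ x = r * c := Iff.rfl

/-- `S` is a simple direct factor of the non-abelian minimal normal subgroup `N`. -/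
structure Fac (N S : Subgroup G) : Prop where
  normal : N.Normal
  min : ∀ M : Subgroup G, M.Normal → M ≤ N → M = ⊥ ∨ M = N
  le : S ≤ N
  nrm : ∀ n ∈ N, ∀ s ∈ S, n * s * n⁻¹ ∈ S
  simple : IsSimpleGroup S
  nab : ¬ IsMulCommutative S

theorem exists_fac [Finite G] (N : Subgroup G) [hn : N.Normal] (hN : N ≠ ⊥)
    (hmin : ∀ M : Subgroup G, M.Normal → M ≤ N → M = ⊥ ∨ M = N) (hna : ¬ IsMulCommutative N) :
    ∃ S, Fac N S := by
  obtain ⟨S, m, h1, h2, h3, -, ⟨e⟩⟩ := exists_simple_mulEquiv_pi N hN hmin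
  refine ⟨S, hn, hmin, h1, fun n hn s hs => (Subgroup.mem_normalizer_iff.1 (h2 hn) s).1 hs, h3,
    fun hc => hna ⟨⟨fun a b => e.injective ?_⟩⟩⟩
  rw [map_mul, map_mul]
  funext i
  exact hc.is_comm.comm _ _

namespace Fac

variable {N S : Subgroup G}

theorem normal_eq (h : Fac N S) {K : Subgroup G} (hK : K ≤ S)
    (hn : ∀ s ∈ S, ∀ k ∈ K, s * k * s⁻¹ ∈ K) : K = ⊥ ∨ K = S := by
  have := h.simple
  have hN : (K.subgroupOf S).Normal := ⟨fun k hk s => hn s s.2 k hk⟩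
  rcases hN.eq_bot_or_eq_top with h1 | h1
  · left
    rw [Subgroup.subgroupOf_eq_bot] at h1
    exact (disjoint_iff.1 h1).symm.trans (inf_eq_left.2 hK) |>.symm
  · right
    exact le_antisymm hK (Subgroup.subgroupOf_eq_top.1 h1)

theorem ne_bot (h : Fac N S) : S ≠ ⊥ := by
  have := h.simple
  exact (Subgroup.nontrivial_iff_ne_bot S).1 inferInstance

theorem exists_not_comm (h : Fac N S) : ∃ a ∈ S, ∃ b ∈ S, ¬ Commute a b := by
  by_contra hc
  push Not at hc
  exact h.nab ⟨⟨fun a b => Subtype.ext (hc a a.2 b b.2).eq⟩⟩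

theorem eq_one_of_cm (h : Fac N S) {s : G} (hs : s ∈ S) (hc : Cm S s) : s = 1 := by
  rcases h.normal_eq (K := S ⊓ Subgroup.centralizer (S : Set G)) inf_le_left (fun a ha k hk => by
    have : a * k * a⁻¹ = k := by rw [← (cm_iff.2 hk.2 a ha).eq]; group
    rw [this]; exact hk) with h1 | h1
  · have : s ∈ S ⊓ Subgroup.centralizer (S : Set G) := ⟨hs, cm_iff.1 hc⟩
    rwa [h1, Subgroup.mem_bot] at this
  · exfalso
    obtain ⟨a, ha, b, hb, hab⟩ := h.exists_not_comm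
    rw [← h1] at ha
    exact hab (cm_iff.2 ha.2 b hb)

/-- an element of `S` commuting with all its `S`-conjugates is trivial -/
theorem eq_one_of_conj_comm (h : Fac N S) {s : G} (hs : s ∈ S)
    (hc : ∀ a ∈ S, Commute (a * s * a⁻¹) s) : s = 1 := by
  let K : Subgroup G := Subgroup.closure {x | ∃ a ∈ S, x = a * s * a⁻¹}
  have hKS : K ≤ S := (Subgroup.closure_le _).2 (by
    rintro _ ⟨a, ha, rfl⟩; exact mul_mem (mul_mem ha hs) (inv_mem ha))
  have hKc : K ≤ Subgroup.centralizer {s} := (Subgroup.closure_le _).2 (by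
    rintro _ ⟨a, ha, rfl⟩
    exact Subgroup.mem_centralizer_singleton_iff.2 (hc a ha).eq)
  have hsK : s ∈ K := Subgroup.subset_closure ⟨1, one_mem _, by simp⟩
  rcases h.normal_eq hKS (fun b hb k hk => by
    induction hk using Subgroup.closure_induction with
    | mem x hx =>
      obtain ⟨a, ha, rfl⟩ := hx
      exact Subgroup.subset_closure ⟨b * a, mul_mem hb ha, by group⟩
    | one => simp
    | mul x y _ _ hx hy =>
      have := mul_mem hx hy
      simpa [mul_assoc] using this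
    | inv x _ hx =>
      have := inv_mem hx
      simpa [mul_assoc] using this) with h1 | h1
  · rwa [h1, Subgroup.mem_bot] at hsK
  · refine h.eq_one_of_cm hs fun t ht => ?_
    rw [← h1] at ht
    exact (Subgroup.mem_centralizer_singleton_iff.1 (hKc ht)).symm

theorem conj (h : Fac N S) (g : G) : Fac N (cj g S) where
  normal := h.normal
  min := h.min
  le x hx := by
    have := h.normal.conj_mem _ (h.le (mem_cj.1 hx)) g
    simpa [mul_assoc] using this
  nrm n hn s hs := by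
    rw [mem_cj] at hs ⊢
    have := h.nrm _ (h.normal.conj_mem' n hn g) _ hs
    simpa [mul_assoc] using this
  simple := by
    have := h.simple
    exact ((MulAut.conj g).subgroupMap S).symm.isSimpleGroup
  nab hc := h.nab ⟨⟨fun a b => ((MulAut.conj g).subgroupMap S).injective (by
    rw [map_mul, map_mul]; exact hc.is_comm.comm _ _)⟩⟩

theorem cj_eq (h : Fac N S) {n : G} (hn : n ∈ N) : cj n S = S := by
  ext x
  rw [mem_cj]
  constructor
  · intro hx
    have := h.nrm n hn _ hx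
    simpa [mul_assoc] using this
  · intro hx
    have := h.nrm n⁻¹ (inv_mem hn) _ hx
    simpa using this

theorem eq_of_mem {S' : Subgroup G} (h : Fac N S) (h' : Fac N S') {x : G} (hx : x ∈ S)
    (hx' : x ∈ S') (h1 : x ≠ 1) : S = S' := by
  have key : ∀ {A B : Subgroup G}, Fac N A → Fac N B → x ∈ A → x ∈ B → A ≤ B := by
    intro A B hA hB hxA hxB
    rcases hA.normal_eq (K := A ⊓ B) inf_le_left (fun s hs k hk =>
      ⟨A.mul_mem (A.mul_mem hs hk.1) (A.inv_mem hs), hB.nrm s (hA.le hs) k hk.2⟩) with h2 | h2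
    · have : x ∈ A ⊓ B := ⟨hxA, hxB⟩
      rw [h2, Subgroup.mem_bot] at this
      exact absurd this h1
    · exact inf_eq_left.1 h2
  exact le_antisymm (key h h' hx hx') (key h' h hx' hx)

theorem cm_of_ne {S' : Subgroup G} (h : Fac N S) (h' : Fac N S') (hne : S' ≠ S) {x : G}
    (hx : x ∈ S') : Cm S x := by
  intro t ht
  by_contra hc
  refine hne (h'.eq_of_mem h (x := x * t * x⁻¹ * t⁻¹) ?_ ?_ ?_)
  · have := mul_mem hx (h'.nrm t (h.le ht) _ (inv_mem hx))
    simpa [mul_assoc] using this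
  · exact mul_mem (h.nrm x (h'.le hx) t ht) (inv_mem ht)
  · exact fun h1 => hc (commutatorElement_eq_one_iff_commute.1 h1)

theorem le_of_conj_le (h : Fac N S) {W : Subgroup G} (hW : ∀ g, cj g S ≤ W) : N ≤ W := by
  have := h.normal
  have h1 : Subgroup.normalClosure (S : Set G) = N :=
    (h.min _ inferInstance (Subgroup.normalClosure_le_normal h.le)).resolve_left fun h0 =>
      h.ne_bot (eq_bot_iff.2 (h0 ▸ Subgroup.le_normalClosure))
  rw [← h1, Subgroup.normalClosure, Subgroup.closure_le]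
  intro x hx
  obtain ⟨s, hs, hsx⟩ := Group.mem_conjugatesOfSet_iff.1 hx
  obtain ⟨g, rfl⟩ := isConj_iff.1 hsx
  exact hW g (conj_mem_cj hs)

theorem decomp (h : Fac N S) {n : G} (hn : n ∈ N) : ∃ s ∈ S, ∃ c ∈ N, Cm S c ∧ n = s * c := by
  have : N ≤ ext S S le_rfl := h.le_of_conj_le fun g x hx => by
    by_cases hg : cj g S = S
    · exact ⟨x, hg ▸ hx, 1, Cm.one S, by simp⟩
    · exact ⟨1, one_mem _, x, h.cm_of_ne (h.conj g) hg hx, by simp⟩
  obtain ⟨s, hs, c, hc, rfl⟩ := this hn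
  exact ⟨s, hs, c, by simpa using mul_mem (inv_mem (h.le hs)) hn, hc, rfl⟩

/-- uniqueness of the `S`-component -/
theorem eq_of_mul_eq (h : Fac N S) {s s' c c' : G} (hs : s ∈ S) (hs' : s' ∈ S) (hc : Cm S c)
    (hc' : Cm S c') (e : s * c = s' * c') : s = s' := by
  have h1 : s'⁻¹ * s = c' * c⁻¹ := by
    calc s'⁻¹ * s = s'⁻¹ * (s * c) * c⁻¹ := by group
      _ = c' * c⁻¹ := by rw [e]; group
  have := h.eq_one_of_cm (mul_mem (inv_mem hs') hs) (h1 ▸ hc'.mul hc.inv)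
  exact (inv_mul_eq_one.1 this).symm

theorem exists_cj_ne (h : Fac N S) (hne : S ≠ N) : ∃ g, cj g S ≠ S := by
  by_contra hc
  push Not at hc
  exact hne (le_antisymm h.le (h.le_of_conj_le fun g => (hc g).le))

theorem not_isSolvable (h : Fac N S) : ¬ Group.IsSolvable S := fun hs => by
  have := h.simple
  exact h.nab ⟨⟨IsSimpleGroup.comm_iff_isSolvable.2 hs⟩⟩

theorem not_isPGroup [Finite G] (h : Fac N S) {p : ℕ} (hp : p.Prime) : ¬ IsPGroup p S := fun hs => by
  have := Fact.mk hp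
  have := hs.isNilpotent
  exact h.not_isSolvable inferInstance

end Fac

/-! ### actions -/

variable {Ω : Type*} [MulAction G Ω]

/-- an element centralising a transitive subgroup and fixing a point is trivial -/
theorem eq_one_of_cm_of_fix [FaithfulSMul G Ω] {N : Subgroup G} (hN : IsPretransitive N Ω)
    {c : G} (hc : Cm N c) {α : Ω} (hα : c • α = α) : c = 1 := by
  refine FaithfulSMul.eq_of_smul_eq_smul (α := Ω) fun ω => ?_
  obtain ⟨n, rfl⟩ := hN.exists_smul_eq α ω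
  change c • (n : G) • α = (1 : G) • (n : G) • α
  rw [one_smul, ← mul_smul, (hc n n.2).eq, mul_smul, hα]

theorem stabilizer_eq_bot_of_comm [FaithfulSMul G Ω] {N : Subgroup G} (hN : IsPretransitive N Ω)
    (hc : IsMulCommutative N) (ω : Ω) : stabilizer N ω = ⊥ := by
  rw [eq_bot_iff]
  intro n hn
  rw [Subgroup.mem_bot]
  exact Subtype.ext (eq_one_of_cm_of_fix hN
    (fun t ht => congrArg Subtype.val (hc.is_comm.comm n ⟨t, ht⟩)) hn)

theorem exists_mul_of_trans {N : Subgroup G} (hN : IsPretransitive N Ω) (α : Ω) (g : G) :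
    ∃ n ∈ N, ∃ h ∈ stabilizer G α, g = n * h := by
  obtain ⟨n, hn⟩ := hN.exists_smul_eq α (g • α)
  refine ⟨n, n.2, (n : G)⁻¹ * g, ?_, by group⟩
  rw [mem_stabilizer_iff, mul_smul, ← hn]
  exact inv_smul_smul (n : G) α

namespace Fac

variable {N S : Subgroup G}

theorem not_le_stab [FaithfulSMul G Ω] (h : Fac N S) (hN : IsPretransitive N Ω) (α : Ω) :
    ¬ S ≤ stabilizer G α := by
  intro hle
  refine h.ne_bot (eq_bot_iff.2 fun s hs => ?_)
  rw [Subgroup.mem_bot]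
  refine FaithfulSMul.eq_of_smul_eq_smul (α := Ω) fun ω => ?_
  obtain ⟨n, rfl⟩ := hN.exists_smul_eq α ω
  have : ((n : G)⁻¹ * s * (n : G)⁻¹⁻¹) • α = α := hle (h.nrm _ (inv_mem n.2) s hs)
  change s • (n : G) • α = (1 : G) • (n : G) • α
  rw [inv_inv, mul_smul, mul_smul, inv_smul_eq_iff] at this
  rw [this, one_smul]

theorem semireg_of_base (h : Fac N S) (hN : IsPretransitive N Ω) {α : Ω}
    (hα : ∀ s ∈ S, s • α = α → s = 1) {s : G} (hs : s ∈ S) {ω : Ω} (hω : s • ω = ω) : s = 1 := by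
  obtain ⟨n, rfl⟩ := hN.exists_smul_eq α ω
  change s • (n : G) • α = (n : G) • α at hω
  have := hα _ (h.nrm _ (inv_mem n.2) s hs) (by
    rw [inv_inv, mul_smul, mul_smul, hω, inv_smul_smul])
  calc s = n * ((n : G)⁻¹ * s * (n : G)⁻¹⁻¹) * (n : G)⁻¹ := by group
    _ = 1 := by rw [this]; group

/-- if a subgroup of `G_α` projects onto `S` then `S` is semiregular -/
theorem semireg_of_proj [FaithfulSMul G Ω] (h : Fac N S) (hN : IsPretransitive N Ω) {α : Ω}
    {D : Subgroup G} (hD : D ≤ stabilizer G α) (hp : proj S D = S) {s : G} (hs : s ∈ S) {ω : Ω}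
    (hω : s • ω = ω) : s = 1 := by
  refine h.semireg_of_base hN (α := α) (fun s hs hsα => ?_) hs hω
  rcases h.normal_eq (K := S ⊓ stabilizer G α) inf_le_left (fun a ha k hk => by
    refine ⟨S.mul_mem (S.mul_mem ha hk.1) (S.inv_mem ha), ?_⟩
    rw [← hp] at ha
    obtain ⟨-, c, hc, hac⟩ := ha
    have : a * k * a⁻¹ = (a * c) * k * (a * c)⁻¹ := by
      calc a * k * a⁻¹ = a * (k * c) * c⁻¹ * a⁻¹ := by group
        _ = _ := by rw [← (hc k hk.1).eq]; group
    rw [this]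
    exact (stabilizer G α).mul_mem ((stabilizer G α).mul_mem (hD hac) hk.2)
      ((stabilizer G α).inv_mem (hD hac))) with h1 | h1
  · have : s ∈ S ⊓ stabilizer G α := ⟨hs, hsα⟩
    rwa [h1, Subgroup.mem_bot] at this
  · exact absurd (inf_eq_left.1 h1) (h.not_le_stab hN α)

theorem der_of_proj (h : Fac N S) (hN : IsPretransitive N Ω) (α : Ω) {t : G} (ht : t ∈ S)
    (hc : ∀ s ∈ S, s * t * s⁻¹ ∉ proj S (N ⊓ stabilizer G α)) {m : G} (hm : m ∈ N) (hm' : Cm S m)
    (ω : Ω) : (t * m) • ω ≠ ω := by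
  intro hω
  obtain ⟨n, rfl⟩ := hN.exists_smul_eq α ω
  change (t * m) • (n : G) • α = (n : G) • α at hω
  obtain ⟨s, hs, c, hcN, hcS, e⟩ := h.decomp (inv_mem n.2)
  refine hc s hs ⟨mul_mem (mul_mem hs ht) (inv_mem hs), c * m * c⁻¹, (hcS.mul hm').mul hcS.inv, ?_⟩
  have e2 : s * t * s⁻¹ * (c * m * c⁻¹) = (n : G)⁻¹ * (t * m) * (n : G)⁻¹⁻¹ := by
    rw [e]
    have h1 := (((hcS.mul hm').mul hcS.inv) s⁻¹ (inv_mem hs)).eq
    calc s * t * s⁻¹ * (c * m * c⁻¹) = s * t * (s⁻¹ * (c * m * c⁻¹)) := by group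
      _ = s * (t * c) * m * c⁻¹ * s⁻¹ := by rw [← h1]; group
      _ = _ := by rw [← (hcS t ht).eq]; group
  rw [e2]
  refine ⟨h.normal.conj_mem _ (mul_mem (h.le ht) hm) _, ?_⟩
  change _ • α = α
  rw [inv_inv, mul_smul, mul_smul, hω, inv_smul_smul]

/-- either `S` is semiregular or a whole coset `t C_N(S)` consists of derangements -/
theorem dichotomy [Finite G] [FaithfulSMul G Ω] (h : Fac N S) (hN : IsPretransitive N Ω) (α : Ω) :
    (∀ s ∈ S, s ≠ 1 → ∀ ω : Ω, s • ω ≠ ω) ∨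
      ∃ t ∈ S, ∀ m ∈ N, Cm S m → ∀ ω : Ω, (t * m) • ω ≠ ω := by
  by_cases hp : proj S (N ⊓ stabilizer G α) = S
  · exact Or.inl fun s hs h1 ω hω => h1 (h.semireg_of_proj hN inf_le_right hp hs hω)
  · right
    by_contra hc
    push Not at hc
    refine hp (le_antisymm (proj_le _ _) (Subgroup.subgroupOf_eq_top.1
      (FGS.eq_top_of_forall_exists_conj_mem _ fun t => ?_)))
    obtain ⟨m, hm, hm', ω, hω⟩ := hc t t.2
    by_contra hne
    push Not at hne
    exact h.der_of_proj hN α t.2 (fun s hs => hne ⟨s, hs⟩) hm hm' ω hω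

/-- product action lemma -/
theorem le_stab (h : Fac N S) (hprim : IsPreprimitive G Ω) (α : Ω) {R : Subgroup G}
    (hRS : R ≤ S) (hne : R ≠ S) (hp : proj S (N ⊓ stabilizer G α) ≤ R)
    (hq : ∀ q ∈ stabilizer G α, cj q S = S → ∀ r ∈ R, q * r * q⁻¹ ∈ R) :
    R ≤ stabilizer G α := by
  let K : Subgroup G :=
    { carrier := {x | x ∈ N ∧ ∀ q ∈ stabilizer G α, q * x * q⁻¹ ∈ ext S R hRS}
      one_mem' := ⟨one_mem _, fun q _ => by simp⟩
      mul_mem' := by
        rintro a b ⟨ha, ha'⟩ ⟨hb, hb'⟩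
        refine ⟨mul_mem ha hb, fun q hq => ?_⟩
        have := mul_mem (ha' q hq) (hb' q hq)
        simpa [mul_assoc] using this
      inv_mem' := by
        rintro a ⟨ha, ha'⟩
        refine ⟨inv_mem ha, fun q hq => ?_⟩
        have := inv_mem (ha' q hq)
        simpa [mul_assoc] using this }
  have hK : ∀ q ∈ stabilizer G α, ∀ x ∈ K, q * x * q⁻¹ ∈ K := by
    rintro q hq x ⟨hx, hx'⟩
    refine ⟨h.normal.conj_mem x hx q, fun q' hq' => ?_⟩
    have := hx' (q' * q) (mul_mem hq' hq)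
    simpa [mul_assoc] using this
  have hRK : R ≤ K := fun r hr => ⟨h.le (hRS hr), fun q hq' => by
    by_cases hc : cj q S = S
    · exact ⟨_, hq q hq' hc r hr, 1, Cm.one S, by simp⟩
    · exact ⟨1, one_mem _, _, h.cm_of_ne (h.conj q) hc (conj_mem_cj (hRS hr)), by simp⟩⟩
  let Z : Subgroup G :=
    { carrier := {g | ∃ k ∈ K, ∃ q ∈ stabilizer G α, g = k * q}
      one_mem' := ⟨1, one_mem _, 1, one_mem _, by simp⟩
      mul_mem' := by
        rintro _ _ ⟨k, hk, q, hq, rfl⟩ ⟨k', hk', q', hq', rfl⟩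
        exact ⟨k * (q * k' * q⁻¹), mul_mem hk (hK q hq k' hk'), q * q', mul_mem hq hq', by group⟩
      inv_mem' := by
        rintro _ ⟨k, hk, q, hq, rfl⟩
        exact ⟨q⁻¹ * k⁻¹ * q⁻¹⁻¹, hK _ (inv_mem hq) _ (inv_mem hk), q⁻¹, inv_mem hq, by group⟩ }
  rcases PrimUtil.eq_or_eq_top_of_stabilizer_le hprim (α := α) (H := Z)
    (fun q hq => ⟨1, one_mem _, q, hq, by simp⟩) with h1 | h1
  · intro r hr
    rw [← h1]
    exact ⟨r, hRK hr, 1, one_mem _, by simp⟩
  · exfalso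
    refine hne (le_antisymm hRS fun s hs => ?_)
    obtain ⟨k, hk, q, hq', e⟩ : s ∈ Z := h1 ▸ Subgroup.mem_top s
    have hqN : q ∈ N := by
      have := mul_mem (inv_mem hk.1) (h.le hs)
      rw [e] at this
      simpa using this
    obtain ⟨a, ha, c, -, hc, e2⟩ := h.decomp hqN
    have h3 : q ∈ ext S R hRS := ⟨a, hp ⟨ha, c, hc, e2 ▸ ⟨hqN, hq'⟩⟩, c, hc, e2⟩
    have h4 : k ∈ ext S R hRS := by simpa using hk.2 1 (one_mem _)
    obtain ⟨r, hr, c', hc', e3⟩ : s ∈ ext S R hRS := e ▸ mul_mem h4 h3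
    rw [h.eq_of_mul_eq hs (hRS hr) (Cm.one S) hc' (by rw [mul_one, e3])]
    exact hr

theorem conj_mem_proj (h : Fac N S) (α : Ω) {q : G} (hq : q ∈ stabilizer G α) (hc : cj q S = S)
    {r : G} (hr : r ∈ proj S (N ⊓ stabilizer G α)) :
    q * r * q⁻¹ ∈ proj S (N ⊓ stabilizer G α) := by
  obtain ⟨hr, c, hc', hrc⟩ := hr
  refine ⟨hc ▸ conj_mem_cj hr, q * c * q⁻¹, hc'.conj hc, ?_⟩
  have : q * r * q⁻¹ * (q * c * q⁻¹) = q * (r * c) * q⁻¹ := by group
  rw [this]
  exact ⟨h.normal.conj_mem _ hrc.1 q, (stabilizer G α).mul_mem ((stabilizer G α).mul_mem hq hrc.2)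
    ((stabilizer G α).inv_mem hq)⟩

theorem proj_le_stab (h : Fac N S) (hprim : IsPreprimitive G Ω) (α : Ω)
    (hne : proj S (N ⊓ stabilizer G α) ≠ S) : proj S (N ⊓ stabilizer G α) ≤ stabilizer G α :=
  h.le_stab hprim α (proj_le _ _) hne le_rfl fun _ hq hc _ hr => h.conj_mem_proj α hq hc hr

theorem exists_stab_cj (h : Fac N S) (hN : IsPretransitive N Ω) (α : Ω) (g : G) :
    ∃ q ∈ stabilizer G α, cj q S = cj g S := by
  obtain ⟨n, hn, q, hq, rfl⟩ := exists_mul_of_trans hN α g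
  exact ⟨q, hq, by rw [cj_mul, (h.conj q).cj_eq hn]⟩

end Fac

/-- Set-up for a primitive group which is neither affine nor almost simple. -/
theorem exists_setup [Finite G] [FaithfulSMul G Ω] [Nontrivial Ω] (hprim : IsPreprimitive G Ω) :
    (∃ N : Subgroup G, N.Normal ∧ N ≠ ⊥ ∧ IsMulCommutative N ∧ IsPretransitive N Ω ∧
      (∀ M : Subgroup G, M.Normal → M ≤ N → M = ⊥ ∨ M = N) ∧ ∀ ω : Ω, stabilizer N ω = ⊥) ∨
    (∃ T : Subgroup G, T.Normal ∧ IsSimpleGroup T ∧ ¬ IsMulCommutative T ∧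
      Subgroup.centralizer (T : Set G) = ⊥) ∨
    ∃ N S : Subgroup G, Fac N S ∧ IsPretransitive N Ω ∧
      (S = N → IsPretransitive (Subgroup.centralizer (N : Set G)) Ω) := by
  have hG : Nontrivial G := by
    obtain ⟨a, b, hab⟩ := exists_pair_ne Ω
    obtain ⟨g, hg⟩ := hprim.toIsPretransitive.exists_smul_eq a b
    exact ⟨⟨g, 1, fun h1 => hab (by rw [← hg, h1, one_smul])⟩⟩
  obtain ⟨N, hn, hN, hmin⟩ := Grp.exists_minNormal G
  have htr := isPretransitive_of_normal_of_ne_bot hprim N hN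
  by_cases hc : IsMulCommutative N
  · exact Or.inl ⟨N, hn, hN, hc, htr, hmin, stabilizer_eq_bot_of_comm htr hc⟩
  obtain ⟨S, hS⟩ := exists_fac N hN hmin hc
  by_cases hC : S = N ∧ Subgroup.centralizer (N : Set G) = ⊥
  · obtain ⟨rfl, hC⟩ := hC
    exact Or.inr (Or.inl ⟨S, hn, hS.simple, hc, hC⟩)
  · exact Or.inr (Or.inr ⟨N, S, hS, htr, fun h1 =>
      isPretransitive_of_normal_of_ne_bot hprim _ fun h2 => hC ⟨h1, h2⟩⟩)

theorem Fac.dichotomy' [Finite G] [FaithfulSMul G Ω] {N S : Subgroup G} (h : Fac N S)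
    (hN : IsPretransitive N Ω) (α : Ω)
    (hC : S = N → IsPretransitive (Subgroup.centralizer (N : Set G)) Ω) :
    (∀ s ∈ S, s ≠ 1 → ∀ ω : Ω, s • ω ≠ ω) ∨
      ∃ t ∈ S, ∃ S', Fac N S' ∧ S' ≠ S ∧ ∀ m ∈ N, Cm S m → ∀ ω : Ω, (t * m) • ω ≠ ω := by
  by_cases hS : S = N
  · refine Or.inl fun s hs h1 ω hω => h1 (eq_one_of_cm_of_fix (hC hS) (fun t ht => ?_) hω)
    exact (cm_iff.2 ht s (h.le hs)).symm
  · obtain ⟨g, hg⟩ := h.exists_cj_ne hS
    exact (h.dichotomy hN α).imp_right fun ⟨t, ht, h'⟩ => ⟨t, ht, _, h.conj g, hg, h'⟩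

end Cfsg.Agent.Perm.Onl
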