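import Mathlib
import Cfsg.Agent.Perm.Onl
import Cfsg.Agent.Small.Tools

/-!
# Products of simple factors of a minimal normal subgroup and their orbits
-/

set_option autoImplicit false

namespace Cfsg.Agent.Perm.Onl

open MulAction

variable {G : Type*} [Group G] {Ω : Type*} [MulAction G Ω]

theorem mem_norm_of {E : Subgroup G} {x : G} (h1 : ∀ e ∈ E, x * e * x⁻¹ ∈ E)
    (h2 : ∀ e ∈ E, x⁻¹ * e * x⁻¹⁻¹ ∈ E) : x ∈ Subgroup.normalizer (E : Set G) := by
  rw [Subgroup.mem_normalizer_iff]
  refine fun e => ⟨h1 e, fun he => ?_⟩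
  have := h2 _ he
  simpa [mul_assoc] using this

theorem mem_sup_of_cm {A B : Subgroup G} (h : ∀ b ∈ B, Cm A b) {x : G} (hx : x ∈ A ⊔ B) :
    ∃ a ∈ A, ∃ b ∈ B, x = a * b := by
  have h1 := Subgroup.coe_mul_of_right_le_normalizer_left A B
    (fun b hb => Subgroup.centralizer_le_normalizer _ (cm_iff.1 (h b hb)))
  have : x ∈ ((A ⊔ B : Subgroup G) : Set G) := hx
  rw [h1] at this
  obtain ⟨a, ha, b, hb, rfl⟩ := this
  exact ⟨a, ha, b, hb, rfl⟩

namespace Fac

variable {N S : Subgroup G}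

theorem cm_sup {T : Subgroup G} (hT : Fac N T) {I : Finset (Subgroup G)} (hI : ∀ U ∈ I, Fac N U)
    (hTI : T ∉ I) {x : G} (hx : x ∈ I.sup id) : Cm T x := by
  have : I.sup id ≤ Subgroup.centralizer (T : Set G) := Finset.sup_le fun U hU y hy =>
    cm_iff.1 (hT.cm_of_ne (hI U hU) (fun h => hTI (h ▸ hU)) hy)
  exact cm_iff.2 (this hx)

theorem card_sup {c : ℕ} (I : Finset (Subgroup G)) (hI : ∀ U ∈ I, Fac N U ∧ Nat.card U = c) :
    Nat.card (I.sup id : Subgroup G) = c ^ I.card := by
  classical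
  induction I using Finset.induction_on with
  | empty => simp
  | insert T I hT ih =>
    have h1 := hI T (Finset.mem_insert_self _ _)
    have h2 : ∀ U ∈ I, Fac N U ∧ Nat.card U = c := fun U hU => hI U (Finset.mem_insert_of_mem hU)
    have h3 : ∀ x ∈ I.sup id, Cm T x := fun x hx => h1.1.cm_sup (fun U hU => (h2 U hU).1) hT hx
    obtain ⟨e⟩ := nonempty_sup_mulEquiv_prod T (I.sup id) (fun a ha b hb => (h3 b hb a ha).symm)
      (Subgroup.disjoint_def.2 fun hx hx' => h1.1.eq_one_of_cm hx (h3 _ hx'))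
    rw [Finset.sup_insert, Finset.card_insert_of_notMem hT, pow_succ', ← ih h2, ← h1.2,
      ← Nat.card_prod]
    exact Nat.card_congr e.toEquiv

theorem four_le_index [Finite G] (h : Fac N S) (P : Subgroup S) (hP : P ≠ ⊤) : 4 ≤ P.index := by
  have := h.simple
  have h1 := Small.two_mul_card_dvd_factorial h.nab P hP
  by_contra hlt
  have h2 : 2 * Nat.card S ∣ 2 * 3 :=
    h1.trans (Nat.factorial_dvd_factorial (m := P.index) (n := 3) (by omega))
  have h3 := Nat.dvd_of_mul_dvd_mul_left (by norm_num) h2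
  refine h.not_isPGroup Nat.prime_three ?_
  have := Fact.mk Nat.prime_three
  rcases (Nat.dvd_prime Nat.prime_three).1 h3 with h4 | h4
  · exact IsPGroup.of_card (n := 0) (by simpa using h4)
  · exact IsPGroup.of_card (n := 1) (by simpa using h4)

/-- adding a factor which moves the orbit multiplies the orbit length by at least four -/
theorem growth [Finite G] [Finite Ω] (h : Fac N S) {A : Subgroup G} (hA : ∀ a ∈ A, Cm S a) (α : Ω)
    (hne : ∃ t ∈ S, t • α ∉ orbit A α) :
    4 * Nat.card (orbit A α) ≤ Nat.card (orbit (S ⊔ A : Subgroup G) α) := by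
  let P : Subgroup S :=
    { carrier := {t | (t : G) • α ∈ orbit A α}
      one_mem' := by simp
      mul_mem' := by
        intro s t hs ht
        obtain ⟨a, ha, e⟩ := PrimUtil.mem_orbit_subgroup_iff.1 hs
        obtain ⟨b, hb, e'⟩ := PrimUtil.mem_orbit_subgroup_iff.1 ht
        refine PrimUtil.mem_orbit_subgroup_iff.2 ⟨b * a, A.mul_mem hb ha, ?_⟩
        rw [mul_smul, e, ← mul_smul, (hA b hb s s.2).eq, mul_smul, e', Subgroup.coe_mul, mul_smul]
      inv_mem' := by
        intro s hs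
        obtain ⟨a, ha, e⟩ := PrimUtil.mem_orbit_subgroup_iff.1 hs
        refine PrimUtil.mem_orbit_subgroup_iff.2 ⟨a⁻¹, A.inv_mem ha, ?_⟩
        rw [Subgroup.coe_inv, eq_inv_smul_iff, ← mul_smul, ← ((hA a ha).inv s s.2).eq, mul_smul,
          ← e, inv_smul_smul] }
  have hP : P ≠ ⊤ := fun hP => by
    obtain ⟨t, ht, ht'⟩ := hne
    have : (⟨t, ht⟩ : S) ∈ P := hP ▸ Subgroup.mem_top _
    exact ht' this
  have h4 := h.four_le_index P hP
  have h5 : Nat.card ((S ⧸ P) × orbit A α) ≤ Nat.card (orbit (S ⊔ A : Subgroup G) α) := by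
    refine Nat.card_le_card_of_injective (fun x => ⟨(x.1.out : G) • x.2.1, ?_⟩) ?_
    · obtain ⟨a, ha, e⟩ := PrimUtil.mem_orbit_subgroup_iff.1 x.2.2
      exact PrimUtil.mem_orbit_subgroup_iff.2 ⟨_, Subgroup.mul_mem_sup x.1.out.2 ha, by
        rw [mul_smul, e]⟩
    · rintro ⟨q, x⟩ ⟨q', x'⟩ hx
      have hx := congrArg Subtype.val hx
      dsimp only at hx
      obtain ⟨a, ha, e⟩ := PrimUtil.mem_orbit_subgroup_iff.1 x.2
      obtain ⟨a', ha', e'⟩ := PrimUtil.mem_orbit_subgroup_iff.1 x'.2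
      have hq : q = q' := by
        rw [← q.out_eq, ← q'.out_eq]
        refine QuotientGroup.eq.2 (PrimUtil.mem_orbit_subgroup_iff.2
          ⟨a'⁻¹ * a, A.mul_mem (A.inv_mem ha') ha, ?_⟩)
        rw [mul_smul, e, inv_smul_eq_iff, ← mul_smul, (hA a' ha' _ (q.out⁻¹ * q'.out).2).eq,
          mul_smul, e', Subgroup.coe_mul, mul_smul, ← hx, Subgroup.coe_inv, inv_smul_smul]
      subst hq
      exact Prod.ext rfl (Subtype.ext (MulAction.injective _ hx))
  rw [Nat.card_prod, ← Subgroup.index_eq_card] at h5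
  exact (Nat.mul_le_mul_right _ h4).trans h5

/-- an element fixing `α` and the orbits of `α` under all factors is trivial -/
theorem eq_one_of_fix [FaithfulSMul G Ω] (h : Fac N S) (hN : IsPretransitive N Ω) (α : Ω) {x : G}
    (hx : ∀ g, ∀ t ∈ cj g S, x • t • α = t • α) : x = 1 := by
  let K : Subgroup G :=
    { carrier := {x | ∀ g, ∀ t ∈ cj g S, x • t • α = t • α}
      one_mem' := fun _ _ _ => one_smul _ _
      mul_mem' := fun {a b} ha hb g t ht => by rw [mul_smul, hb g t ht, ha g t ht]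
      inv_mem' := fun {a} ha g t ht => by rw [inv_smul_eq_iff, ha g t ht] }
  have hKα : ∀ y ∈ K, y • α = α := fun y hy => by simpa using hy 1 1 (one_mem _)
  have hu : ∀ y ∈ K, ∀ g, ∀ t ∈ cj g S, (y * t * y⁻¹) • α = t • α := fun y hy g t ht => by
    rw [mul_smul, mul_smul, hKα _ (K.inv_mem hy), hy g t ht]
  have h1 : ∀ y ∈ K, ∀ g, cj y (cj g S) = cj g S := by
    intro y hy g
    by_contra hc
    have hT := h.conj g
    have h2 : ∀ a ∈ cj g S, ∀ b ∈ cj g S, (a * b) • α = (b * a) • α := by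
      intro a ha b hb
      rw [← hu y hy g _ ((cj g S).mul_mem ha hb),
        show y * (a * b) * y⁻¹ = (y * a * y⁻¹) * (y * b * y⁻¹) by group, mul_smul, hu y hy g b hb,
        ← mul_smul, (hT.cm_of_ne (hT.conj y) hc (conj_mem_cj ha) b hb).eq, mul_smul,
        hu y hy g a ha, mul_smul]
    rcases hT.normal_eq (K := cj g S ⊓ stabilizer G α) inf_le_left (fun a ha k hk =>
      ⟨(cj g S).mul_mem ((cj g S).mul_mem ha hk.1) ((cj g S).inv_mem ha), by
        change (a * k * a⁻¹) • α = α
        rw [mul_assoc, mul_smul, h2 k hk.1 _ ((cj g S).inv_mem ha), mul_smul, hk.2,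
          smul_inv_smul]⟩) with h3 | h3
    · obtain ⟨a, ha, b, hb, hab⟩ := hT.exists_not_comm
      have : (b * a)⁻¹ * (a * b) ∈ cj g S ⊓ stabilizer G α :=
        ⟨(cj g S).mul_mem ((cj g S).inv_mem ((cj g S).mul_mem hb ha)) ((cj g S).mul_mem ha hb), by
          change ((b * a)⁻¹ * (a * b)) • α = α
          rw [mul_smul, h2 a ha b hb, inv_smul_smul]⟩
      rw [h3, Subgroup.mem_bot, inv_mul_eq_one] at this
      exact hab this.symm
    · exact hT.not_le_stab hN α (inf_eq_left.1 h3)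
  have h2 : ∀ g, ∀ s ∈ cj g S, ∀ y ∈ K, s⁻¹ * y * s⁻¹⁻¹ ∈ K := by
    intro g s hs y hy g' s' hs'
    rw [inv_inv, mul_smul, mul_smul, inv_smul_eq_iff]
    by_cases hc : cj g' S = cj g S
    · rw [← mul_smul s s']
      exact hy g _ ((cj g S).mul_mem hs (hc ▸ hs'))
    · have hc1 := (h.conj g).cm_of_ne (h.conj g') hc hs'
      have hs2 : y * s * y⁻¹ ∈ cj g S := h1 y hy g ▸ conj_mem_cj hs
      calc y • s • s' • α = (y * s * y⁻¹) • y • s' • α := by simp [mul_smul]
        _ = s • s' • α := by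
          rw [hy g' s' hs', ← mul_smul, ← (hc1 _ hs2).eq, mul_smul, hu y hy g s hs, ← mul_smul,
            (hc1 _ hs).eq, mul_smul]
  have h3 : ∀ q ∈ stabilizer G α, ∀ y ∈ K, q * y * q⁻¹ ∈ K := by
    intro q hq y hy g t ht
    have := hu y hy (q⁻¹ * g) (q⁻¹ * t * q⁻¹⁻¹) (by rw [cj_mul]; exact conj_mem_cj ht)
    have h4 := hy (q⁻¹ * g) (q⁻¹ * t * q⁻¹⁻¹) (by rw [cj_mul]; exact conj_mem_cj ht)
    rw [inv_inv, mul_smul, mul_smul, show q • α = α from hq] at h4
    rw [mul_smul, mul_smul, h4, smul_inv_smul]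
  have hNK : N ≤ Subgroup.normalizer (K : Set G) := h.le_of_conj_le fun g s hs =>
    mem_norm_of (by simpa using h2 g _ ((cj g S).inv_mem hs)) (h2 g s hs)
  have hKn : K.Normal := ⟨fun y hy g => by
    obtain ⟨n, hn, q, hq, rfl⟩ := exists_mul_of_trans hN α g
    have := (Subgroup.mem_normalizer_iff.1 (hNK hn) _).1 (h3 q hq y hy)
    simpa [mul_assoc] using this⟩
  have : IsPretransitive G Ω := ⟨fun a b => by
    obtain ⟨n, hn⟩ := hN.exists_smul_eq a b; exact ⟨n, hn⟩⟩
  have h5 := PrimUtil.eq_bot_of_normal_of_le_stabilizer K hKn (α := α) hKα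
  have : x ∈ K := hx
  rwa [h5, Subgroup.mem_bot] at this

theorem card_orbit_cj (h : Fac N S) (hN : IsPretransitive N Ω) (α : Ω) (g : G) :
    Nat.card (orbit (cj g S) α) = Nat.card (orbit S α) := by
  obtain ⟨q, hq, e⟩ := h.exists_stab_cj hN α g
  have := PrimUtil.card_orbit_smul S q α
  rw [show q • α = α from hq] at this
  rw [← e]; exact this

theorem card_le_of_semireg [Finite Ω] {A : Subgroup G} (α : Ω) (hA : ∀ a ∈ A, a • α = α → a = 1) :
    Nat.card A ≤ Nat.card Ω :=
  Nat.card_le_card_of_injective (fun a => (a : G) • α) fun a b hab => by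
    dsimp only at hab
    have := hA _ (A.mul_mem (A.inv_mem b.2) a.2) (by rw [mul_smul, hab, inv_smul_smul])
    exact Subtype.ext (inv_mul_eq_one.1 this).symm

theorem card_le_of_trans [Finite G] {A : Subgroup G} (α : Ω) (hA : ∀ ω, ∃ a ∈ A, a • α = ω) :
    Nat.card Ω ≤ Nat.card A :=
  Nat.card_le_card_of_surjective (fun a : A => (a : G) • α) fun ω => by
    obtain ⟨a, ha, e⟩ := hA ω; exact ⟨⟨a, ha⟩, e⟩

/-- The number `k` of factors against the degree: either `k = 1`, or `k = 2` and `N` is not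
regular, or `k |S α| ≤ n`. -/
theorem count [Finite G] [Finite Ω] [Nontrivial Ω] [FaithfulSMul G Ω] (h : Fac N S)
    (hN : IsPretransitive N Ω) (α : Ω) (F : Finset (Subgroup G))
    (hF : ∀ T, T ∈ F ↔ ∃ g, cj g S = T) :
    F.card ≤ 1 ∨ (F.card = 2 ∧ N ⊓ stabilizer G α ≠ ⊥) ∨
      F.card * Nat.card (orbit S α) ≤ Nat.card Ω := by
  classical
  have hF1 : ∀ T ∈ F, Fac N T ∧ Nat.card T = Nat.card S := fun T hT => by
    obtain ⟨g, rfl⟩ := (hF T).1 hT
    exact ⟨h.conj g, card_cj g S⟩
  have hFN : F.sup id = N := le_antisymm (Finset.sup_le fun T hT => (hF1 T hT).1.le)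
    (h.le_of_conj_le fun g => Finset.le_sup (f := id) ((hF _).2 ⟨g, rfl⟩))
  obtain ⟨I, hI, hmin⟩ := Finset.exists_min_image
    (F.powerset.filter fun I => ∀ ω, ∃ a ∈ I.sup id, a • α = ω) Finset.card
    ⟨F, Finset.mem_filter.2 ⟨Finset.mem_powerset_self _, fun ω => by
      obtain ⟨n, hn⟩ := hN.exists_smul_eq α ω
      exact ⟨n, hFN ▸ n.2, hn⟩⟩⟩
  obtain ⟨hIF, hI⟩ := Finset.mem_filter.1 hI
  rw [Finset.mem_powerset] at hIF
  have hS2 : 1 < Nat.card S := by
    have := h.simple
    exact Finite.one_lt_card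
  have hnI : Nat.card Ω ≤ Nat.card S ^ I.card := by
    rw [← card_sup I fun U hU => hF1 U (hIF hU)]
    exact card_le_of_trans α hI
  have htrI : IsPretransitive (I.sup id : Subgroup G) Ω := ⟨fun a b => by
    obtain ⟨x, hx, rfl⟩ := hI a
    obtain ⟨y, hy, rfl⟩ := hI b
    exact ⟨⟨y * x⁻¹, Subgroup.mul_mem _ hy (Subgroup.inv_mem _ hx)⟩, by
      change (y * x⁻¹) • x • α = _
      rw [mul_smul, inv_smul_smul]⟩⟩
  have hJ : (F \ I).card ≤ I.card := by
    have h1 : Nat.card ((F \ I).sup id : Subgroup G) ≤ Nat.card Ω :=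
      card_le_of_semireg α fun a ha ha' => eq_one_of_cm_of_fix htrI (fun t ht => by
        have : I.sup id ≤ Subgroup.centralizer {a} := Finset.sup_le fun T hT y hy =>
          Subgroup.mem_centralizer_singleton_iff.2 ((hF1 T (hIF hT)).1.cm_sup
            (fun U hU => (hF1 U (Finset.sdiff_subset hU)).1) (by simp [hT]) ha y hy).symm.eq
        exact (Subgroup.mem_centralizer_singleton_iff.1 (this ht)).symm) ha'
    rw [card_sup (F \ I) fun U hU => hF1 U (Finset.sdiff_subset hU)] at h1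
    exact (Nat.pow_le_pow_iff_right hS2).1 (h1.trans hnI)
  have hk := Finset.card_sdiff_add_card_eq_card hIF
  have hI0 : I.card ≠ 0 := fun h0 => by
    rw [h0, pow_zero] at hnI
    have : 1 < Nat.card Ω := Finite.one_lt_card
    omega
  by_cases hI1 : I.card = 1
  · by_cases hk2 : F.card = 2
    · refine Or.inr (Or.inl ⟨hk2, fun h0 => ?_⟩)
      have h1 : Nat.card N ≤ Nat.card Ω := card_le_of_semireg α fun a ha ha' => by
        have : a ∈ N ⊓ stabilizer G α := ⟨ha, ha'⟩
        rwa [h0, Subgroup.mem_bot] at this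
      rw [← hFN, card_sup F hF1, hk2] at h1
      have := (Nat.pow_le_pow_iff_right hS2).1 (h1.trans hnI)
      omega
    · omega
  refine Or.inr (Or.inr ?_)
  have key : ∀ J ⊆ I, J.Nonempty →
      Nat.card (orbit S α) * 4 ^ J.card ≤ 4 * Nat.card (orbit (J.sup id : Subgroup G) α) := by
    intro J
    induction J using Finset.induction_on with
    | empty => intro _ h; exact absurd h (by simp)
    | insert T J hT ih =>
      intro hJI _
      have hTI : T ∈ I := hJI (Finset.mem_insert_self _ _)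
      have hJI' : J ⊆ I := (Finset.subset_insert _ _).trans hJI
      rw [Finset.sup_insert, Finset.card_insert_of_notMem hT]
      rcases J.eq_empty_or_nonempty with rfl | hJ0
      · obtain ⟨g, rfl⟩ := (hF T).1 (hIF hTI)
        rw [Finset.sup_empty, sup_bot_eq, id, h.card_orbit_cj hN α g, Finset.card_empty]
        omega
      have hT1 := (hF1 T (hIF hTI)).1
      have := hT1.growth (A := J.sup id) (fun a ha => hT1.cm_sup
        (fun U hU => (hF1 U (hIF (hJI' hU))).1) hT ha) α (by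
          by_contra hc
          push Not at hc
          have h1 := hmin (I.erase T) (Finset.mem_filter.2 ⟨Finset.mem_powerset.2
            ((Finset.erase_subset _ _).trans hIF), fun ω => by
              obtain ⟨x, hx, rfl⟩ := hI ω
              rw [← Finset.insert_erase hTI, Finset.sup_insert] at hx
              have hcm : ∀ b ∈ (I.erase T).sup id, Cm T b := fun b hb => hT1.cm_sup
                (fun U hU => (hF1 U (hIF (Finset.erase_subset _ _ hU))).1) (by simp) hb
              obtain ⟨t, ht, b, hb, rfl⟩ := mem_sup_of_cm hcm hx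
              obtain ⟨a, ha, e⟩ := PrimUtil.mem_orbit_subgroup_iff.1 (hc t ht)
              have : J.sup id ≤ (I.erase T).sup id := Finset.sup_mono fun U hU =>
                Finset.mem_erase.2 ⟨fun h => hT (h ▸ hU), hJI' hU⟩
              exact ⟨b * a, Subgroup.mul_mem _ hb (this ha), by
                rw [mul_smul, e, ← mul_smul, (hcm b hb t ht).eq]⟩⟩)
          rw [Finset.card_erase_of_mem hTI] at h1
          omega)
      have h2 := ih hJI' hJ0
      rw [pow_succ, ← mul_assoc]
      exact (Nat.mul_le_mul_right _ h2).trans (by simp only [id]; omega)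
  have h1 := key I subset_rfl (Finset.card_pos.1 (by omega))
  have h2 : Nat.card (orbit (I.sup id : Subgroup G) α) ≤ Nat.card Ω :=
    Nat.card_le_card_of_injective _ Subtype.val_injective
  have h3 : ∀ j, 2 ≤ j → 8 * j ≤ 4 ^ j := fun j hj => by
    induction j, hj using Nat.le_induction with
    | base => norm_num
    | succ j hj ih => rw [pow_succ]; omega
  have h4 := h3 I.card (by omega)
  have h5 : F.card ≤ 2 * I.card := by omega
  nlinarith

end Fac

end Cfsg.Agent.Perm.Onl
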