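import Mathlib
import Cfsg.Agent.Perm.OnlProd
import Cfsg.Agent.Grp.CompLen

/-!
# The composition length of a permutation group of degree `n` with `r` orbits is at most
`4 (n - r) / 3`
-/

set_option autoImplicit false

namespace Cfsg.Agent.Perm.CompDeg

open MulAction Cfsg.Agent.Grp.CL Cfsg.Agent.Perm.Onl ArithmeticFunction

universe v

/-- number of orbits -/
noncomputable abbrev nOrb (G : Type*) [Group G] (Ω : Type*) [MulAction G Ω] : ℕ :=
  Nat.card (orbitRel.Quotient G Ω)

section
variable {G : Type*} [Group G] {Ω : Type*} [MulAction G Ω]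

theorem nOrb_le_of_cover {Y : Type*} [Finite Y] (f : Y → Ω) (h : ∀ ω, ∃ y, ∃ g : G, g • ω = f y) :
    nOrb G Ω ≤ Nat.card Y :=
  Nat.card_le_card_of_surjective (fun y => Quotient.mk'' (f y)) fun q => by
    induction q using Quotient.inductionOn' with
    | h ω =>
      obtain ⟨y, g, e⟩ := h ω
      exact ⟨y, Quotient.sound' ⟨g, e⟩⟩

theorem le_nOrb_of_inv [Finite Ω] {B : Type*} (π : Ω → B) (hs : Function.Surjective π)
    (h : ∀ (g : G) ω, π (g • ω) = π ω) : Nat.card B ≤ nOrb G Ω :=
  Nat.card_le_card_of_surjective (fun q : orbitRel.Quotient G Ω => Quotient.liftOn' q π (by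
    rintro a b ⟨g, rfl⟩; exact h g b)) fun b => by
    obtain ⟨ω, rfl⟩ := hs b
    exact ⟨Quotient.mk'' ω, rfl⟩

theorem one_le_nOrb [Finite Ω] [Nonempty Ω] : 1 ≤ nOrb G Ω := by
  simpa using le_nOrb_of_inv (G := G) (fun _ : Ω => ()) (fun _ => ⟨Classical.arbitrary Ω, rfl⟩)
    fun _ _ => rfl

theorem nOrb_le_one (h : IsPretransitive G Ω) (α : Ω) : nOrb G Ω ≤ 1 := by
  simpa using nOrb_le_of_cover (G := G) (fun _ : Unit => α) fun ω => by
    obtain ⟨g, hg⟩ := h.exists_smul_eq ω α; exact ⟨(), g, hg⟩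

theorem exists_smul_out (ω : Ω) :
    ∃ g : G, g • ω = (Quotient.mk'' ω : orbitRel.Quotient G Ω).out := by
  have := Quotient.mk_out' (s₁ := orbitRel G Ω) ω
  exact this

theorem nOrb_le_range [Finite Ω] : nOrb G Ω ≤ nOrb (toPermHom G Ω).range Ω :=
  nOrb_le_of_cover Quotient.out fun ω => by
    obtain ⟨⟨_, g, rfl⟩, hg⟩ := exists_smul_out (G := (toPermHom G Ω).range) ω
    exact ⟨_, g, hg⟩

end

/-- the bound in degree `n` -/
def P (n : ℕ) : Prop := ∀ (Ω G : Type v) [Finite Ω] [Group G] [Finite G] [MulAction G Ω]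
  [FaithfulSMul G Ω], Nat.card Ω = n → 3 * len G + 4 * nOrb G Ω ≤ 4 * n

variable {n : ℕ} {Ω G : Type v} [Finite Ω] [Group G] [Finite G] [MulAction G Ω]

theorem nonfaith (h : P.{v} (Nat.card Ω)) :
    3 * len G + 4 * nOrb G Ω ≤ 3 * len (toPermHom G Ω).ker + 4 * Nat.card Ω := by
  have h1 := len_le_ker_add_range (toPermHom G Ω)
  have h2 := h Ω (toPermHom G Ω).range rfl
  have h3 := nOrb_le_range (G := G) (Ω := Ω)
  omega

theorem sub_bound (ih : ∀ m < n, P.{v} m) (Y : SubMulAction G Ω) (hY : Nat.card Y < n)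
    (hf : ∀ g : G, (∀ y ∈ Y, g • y = y) → g = 1) : 3 * len G + 4 * nOrb G Y ≤ 4 * Nat.card Y := by
  have : FaithfulSMul G Y := ⟨fun {a b} hab => by
    have := hf (b⁻¹ * a) fun y hy => by
      have := congrArg Subtype.val (hab ⟨y, hy⟩)
      change a • y = b • y at this
      rw [mul_smul, this, inv_smul_smul]
    exact (inv_mul_eq_one.1 this).symm⟩
  exact ih _ hY Y G rfl

theorem intrans [FaithfulSMul G Ω] (ih : ∀ m < n, P.{v} m) (hn : Nat.card Ω = n)
    (h : ¬ IsPretransitive G Ω) : 3 * len G + 4 * nOrb G Ω ≤ 4 * n := by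
  classical
  obtain ⟨α, β, hαβ⟩ : ∃ α β : Ω, ∀ g : G, g • α ≠ β := by
    by_contra hc
    push Not at hc
    exact h ⟨hc⟩
  let A : SubMulAction G Ω := ⟨orbit G α, fun g _ hx => mem_orbit_of_mem_orbit g hx⟩
  let K := (toPermHom G A).ker
  let B : SubMulAction K Ω := ⟨(orbit G α)ᶜ, fun g x hx h => hx (by
    have := mem_orbit_of_mem_orbit (g : G)⁻¹ h
    change (g : G)⁻¹ • (g : G) • x ∈ _ at this
    rwa [inv_smul_smul] at this)⟩
  have hAB : Nat.card A + Nat.card B = n := by
    rw [← hn, ← Nat.card_sum]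
    exact Nat.card_congr (Equiv.Set.sumCompl (orbit G α))
  have hA : 0 < Nat.card A := by
    have : Nonempty A := ⟨⟨α, mem_orbit_self α⟩⟩
    exact Nat.card_pos
  have hB : 0 < Nat.card B := by
    have : Nonempty B := ⟨⟨β, fun ⟨g, hg⟩ => hαβ g hg⟩⟩
    exact Nat.card_pos
  have h1 := nonfaith (G := G) (ih (Nat.card A) (by omega))
  have h2 := sub_bound ih B (by omega) fun k hk => Subtype.ext
    (FaithfulSMul.eq_of_smul_eq_smul (α := Ω) fun ω => by
      change (k : G) • ω = (1 : G) • ω
      rw [one_smul]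
      by_cases hω : ω ∈ orbit G α
      · have := congrArg (fun f : Equiv.Perm A => (f ⟨ω, hω⟩).1) k.2
        exact this
      · exact hk ω hω)
  have h3 : nOrb G Ω ≤ nOrb G A + nOrb K B := by
    rw [← Nat.card_sum]
    refine nOrb_le_of_cover (Sum.elim (fun q => q.out.1) (fun q => q.out.1)) fun ω => ?_
    by_cases hω : ω ∈ orbit G α
    · obtain ⟨g, hg⟩ := exists_smul_out (G := G) (⟨ω, hω⟩ : A)
      exact ⟨Sum.inl _, g, congrArg Subtype.val hg⟩
    · obtain ⟨g, hg⟩ := exists_smul_out (G := K) (⟨ω, hω⟩ : B)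
      exact ⟨Sum.inr _, g, congrArg Subtype.val hg⟩
  change 3 * len G + 4 * nOrb G A ≤ 3 * len K + 4 * Nat.card A at h1
  omega

theorem imprim [FaithfulSMul G Ω] (ih : ∀ m < n, P.{v} m) (hn : Nat.card Ω = n)
    (h : IsPretransitive G Ω) (α : Ω) {M : Subgroup G} (h1 : stabilizer G α < M) (h2 : M ≠ ⊤) :
    3 * len G + 4 ≤ 4 * n := by
  have hb2 : 2 ≤ Nat.card (G ⧸ M) := by
    have : M.index ≠ 0 := Subgroup.index_ne_zero_of_finite
    have : M.index ≠ 1 := fun h => h2 (Subgroup.index_eq_one.1 h)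
    rw [← Subgroup.index_eq_card]; omega
  have hb : Nat.card (G ⧸ M) < n := by
    have h3 := Subgroup.relIndex_mul_index h1.le
    have h4 : (stabilizer G α).relIndex M ≠ 0 := Subgroup.index_ne_zero_of_finite
    have h5 : (stabilizer G α).relIndex M ≠ 1 := fun h => h1.not_ge (Subgroup.relIndex_eq_one.1 h)
    rw [index_stabilizer_of_transitive, hn, Subgroup.index_eq_card] at h3
    have h6 : 2 ≤ (stabilizer G α).relIndex M := by omega
    nlinarith
  have h3 := nonfaith (G := G) (ih _ hb)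
  have h4 := one_le_nOrb (G := G) (Ω := G ⧸ M)
  set K := (toPermHom G (G ⧸ M)).ker
  choose σ hσ using h.exists_smul_eq α
  have hπ : ∀ g : G, ((σ (g • α) : G) : G ⧸ M) = g := fun g =>
    QuotientGroup.eq.2 (h1.le (by
      rw [mem_stabilizer_iff, mul_smul, inv_smul_eq_iff, hσ]))
  have h5 : Nat.card (G ⧸ M) ≤ nOrb K Ω := le_nOrb_of_inv (fun ω => ((σ ω : G) : G ⧸ M))
    (fun q => ⟨q.out • α, by simp only [hπ, QuotientGroup.out_eq']⟩) fun k ω => by
      change ((σ ((k : G) • ω) : G) : G ⧸ M) = _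
      conv_lhs => rw [← hσ ω, ← mul_smul, hπ]
      exact congrArg (fun f : Equiv.Perm (G ⧸ M) => f (σ ω : G)) k.2
  have h6 := intrans (G := K) ih hn fun h => by have := nOrb_le_one h α; omega
  omega

theorem stab_bound [FaithfulSMul G Ω] [Nontrivial Ω] (ih : ∀ m < n, P.{v} m) (hn : Nat.card Ω = n)
    (α : Ω) : 3 * len (stabilizer G α) + 8 ≤ 4 * n := by
  let Y : SubMulAction (stabilizer G α) Ω := ⟨{α}ᶜ, fun g x hx h => hx (by
    have h' : (g : G) • x = α := h
    have : (g : G) • x = (g : G) • α := h'.trans (show (g : G) • α = α from g.2).symm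
    exact MulAction.injective _ this)⟩
  have hY : Nat.card Y + 1 = n := by
    classical
    rw [← hn, ← Nat.card_congr (Equiv.Set.sumCompl {α}), Nat.card_sum,
      Nat.card_unique (α := ({α} : Set Ω)), add_comm]
    rfl
  have : Nonempty Y := by
    obtain ⟨β, hβ⟩ := exists_ne α
    exact ⟨⟨β, hβ⟩⟩
  have h1 := one_le_nOrb (G := stabilizer G α) (Ω := Y)
  have h2 := sub_bound ih Y (by omega) fun k hk => Subtype.ext
    (FaithfulSMul.eq_of_smul_eq_smul (α := Ω) fun ω => by
      change (k : G) • ω = (1 : G) • ω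
      rw [one_smul]
      by_cases hω : ω = α
      · rw [hω]; exact k.2
      · exact hk ω hω)
  omega

omit [Finite Ω] [Finite G] in
theorem sup_stab {N : Subgroup G} (hN : IsPretransitive N Ω) (α : Ω) :
    N ⊔ stabilizer G α = ⊤ := eq_top_iff.2 fun g _ => by
  obtain ⟨n, hn, q, hq, rfl⟩ := exists_mul_of_trans hN α g
  exact Subgroup.mul_mem_sup hn hq

theorem nonaffine [FaithfulSMul G Ω] [Nontrivial Ω] (ih : ∀ m < n, P.{v} m) (hn : Nat.card Ω = n)
    {N S : Subgroup G} (h : Fac N S) (hN : IsPretransitive N Ω) : 3 * len G + 4 ≤ 4 * n := by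
  classical
  obtain ⟨α⟩ : Nonempty Ω := inferInstance
  have := Fintype.ofFinite G
  have := Fintype.ofFinite Ω
  have := h.normal
  set F := Finset.univ.image fun g => cj g S with hFdef
  have hF : ∀ T, T ∈ F ↔ ∃ g, cj g S = T := fun T => by simp [hFdef]
  have hF1 : ∀ T ∈ F, Fac N T := fun T hT => by
    obtain ⟨g, rfl⟩ := (hF T).1 hT
    exact h.conj g
  have hFN : F.sup id = N := le_antisymm (Finset.sup_le fun T hT => (hF1 T hT).le)
    (h.le_of_conj_le fun g => Finset.le_sup (f := id) ((hF _).2 ⟨g, rfl⟩))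
  have hlen : ∀ I ⊆ F, len (I.sup id : Subgroup G) ≤ I.card := by
    intro I
    induction I using Finset.induction_on with
    | empty =>
      intro _
      have := len_le_cardFactors (G := ((∅ : Finset (Subgroup G)).sup id : Subgroup G))
      simpa using this
    | insert T I hT ih =>
      intro hI
      have hT1 := hF1 T (hI (Finset.mem_insert_self _ _))
      have hI' : I ⊆ F := (Finset.subset_insert _ _).trans hI
      have h1 := len_sup_le T (I.sup id) fun b hb a ha => by
        rw [(hT1.cm_sup (fun U hU => hF1 U (hI' hU)) hT hb a ha).eq, mul_inv_cancel_right]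
        exact ha
      have := hT1.simple
      have h2 := len_simple (G := T)
      have h3 := ih hI'
      rw [Finset.sup_insert, Finset.card_insert_of_notMem hT]
      simp only [id] at *
      omega
  have hlenN : len N ≤ F.card := hFN ▸ hlen F subset_rfl
  have h1 := len_le_of_sup N _ (sup_stab hN α)
  have h2 := stab_bound (G := G) ih hn α
  rcases h.count hN α F hF with h3 | ⟨h3, h4⟩ | h3
  · omega
  · have := len_le_of_sup' N _ (sup_stab hN α) h4
    omega
  let X : SubMulAction (stabilizer G α) Ω :=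
    ⟨{ω | ω ≠ α ∧ ∃ g, ∃ t ∈ cj g S, t • α = ω}, by
      rintro q x ⟨hx, g, t, ht, rfl⟩
      have hq : (q : G) • α = α := q.2
      refine ⟨fun h' => hx ?_, q * g, q * t * (q : G)⁻¹, by rw [cj_mul]; exact conj_mem_cj ht, ?_⟩
      · have h'' : (q : G) • t • α = α := h'
        exact MulAction.injective (q : G) (h''.trans hq.symm)
      · change _ = (q : G) • t • α
        rw [mul_smul, mul_smul, inv_smul_eq_iff.2 hq.symm]⟩
  have hm : 1 ≤ Nat.card (orbit S α) := by
    have : Nonempty (orbit S α) := ⟨⟨α, mem_orbit_self α⟩⟩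
    exact Nat.card_pos
  have hX : Nat.card X ≤ F.card * (Nat.card (orbit S α) - 1) := by
    have e : Nat.card X = (F.biUnion fun T => (orbit T α).toFinset.erase α).card := by
      rw [← Nat.card_eq_finsetCard]
      refine Nat.card_congr (Equiv.subtypeEquivRight fun ω => ?_)
      simp only [Finset.mem_biUnion, Finset.mem_erase, Set.mem_toFinset,
        PrimUtil.mem_orbit_subgroup_iff, hF]
      constructor
      · rintro ⟨h1, g, h2⟩; exact ⟨_, ⟨g, rfl⟩, h1, h2⟩
      · rintro ⟨_, ⟨g, rfl⟩, h1, h2⟩; exact ⟨h1, g, h2⟩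
    rw [e]
    refine Finset.card_biUnion_le_card_mul _ _ _ fun T hT => ?_
    obtain ⟨g, rfl⟩ := (hF T).1 hT
    rw [Finset.card_erase_of_mem (by simp), Set.toFinset_card, ← Nat.card_eq_fintype_card,
      h.card_orbit_cj hN α g]
  have hF0 : 0 < F.card := Finset.card_pos.2 ⟨S, (hF S).2 ⟨1, cj_one S⟩⟩
  have hmul : F.card * (Nat.card (orbit S α) - 1) + F.card = F.card * Nat.card (orbit S α) := by
    rw [← Nat.mul_succ]; congr 1; omega
  have : Nonempty X := by
    by_contra hc
    refine h.not_le_stab hN α fun s hs => ?_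
    by_contra hs'
    exact hc ⟨⟨s • α, hs', 1, s, by rwa [cj_one], rfl⟩⟩
  have h4 := one_le_nOrb (G := stabilizer G α) (Ω := X)
  have h5 := sub_bound ih X (by omega) fun k hk => Subtype.ext
    (h.eq_one_of_fix hN α fun g t ht => by
      by_cases h' : t • α = α
      · rw [h']; exact k.2
      · exact hk _ ⟨h', g, t, ht, rfl⟩)
  omega

theorem numeric {n d e H : ℕ} (hd : d = cardFactors n) (hd2 : 2 ≤ d) (he : e = cardFactors H)
    (hH0 : H ≠ 0) (hH : H ≤ n ^ d) (hH' : H ∣ (n - 1).factorial) : 3 * (d + e) + 4 ≤ 4 * n := by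
  have hn0 : n ≠ 0 := by rintro rfl; simp at hd; omega
  have h1 : 2 ^ d ≤ n := hd ▸ two_pow_cardFactors_le hn0
  have h2 : 2 ^ e ≤ n ^ d := (he ▸ two_pow_cardFactors_le hH0).trans hH
  have hb : ∀ a b, n ≤ a → d ≤ b → ∀ c, a ^ b < 2 ^ (c + 1) → e ≤ c := by
    intro a b ha hb c hc
    have h3 : n ^ d ≤ a ^ b := (Nat.pow_le_pow_left ha d).trans
      (Nat.pow_le_pow_right (by omega) hb)
    have := (Nat.pow_lt_pow_iff_right (a := 2) (by norm_num)).1 ((h2.trans h3).trans_lt hc)
    omega
  have hdl : ∀ c, n < 2 ^ (c + 1) → d ≤ c := fun c hc => by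
    have := (Nat.pow_lt_pow_iff_right (a := 2) (by norm_num)).1 (h1.trans_lt hc)
    omega
  by_cases h32 : 32 ≤ n
  · obtain ⟨L, hL1, hL2⟩ : ∃ L, 2 ^ L ≤ n ∧ n < 2 ^ (L + 1) :=
      ⟨Nat.log 2 n, Nat.pow_log_le_self 2 hn0, Nat.lt_pow_succ_log_self (by norm_num) n⟩
    have hL5 : 5 ≤ L := by
      have := (Nat.pow_lt_pow_iff_right (a := 2) (n := 5) (by norm_num)).1 (lt_of_le_of_lt h32 hL2)
      omega
    have h3 := hdl L hL2
    have h4 := hb (2 ^ (L + 1)) L hL2.le h3 ((L + 1) * L) (by
      rw [← pow_mul]; exact Nat.pow_lt_pow_right (by norm_num) (by omega))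
    have h5 : ∀ L, 5 ≤ L → 3 * (L + (L + 1) * L) + 4 ≤ 4 * 2 ^ L := fun L hL => by
      induction L, hL using Nat.le_induction with
      | base => norm_num
      | succ L hL ih => rw [pow_succ]; nlinarith
    have := h5 L hL5
    omega
  by_cases h17 : 20 ≤ n
  · have h3 := hdl 4 (by omega)
    have := hb 32 4 (by omega) h3 20 (by norm_num)
    omega
  have h4 : 4 ≤ n := le_trans (Nat.pow_le_pow_right (by norm_num) hd2 : 2 ^ 2 ≤ 2 ^ d) h1
  have hc : ∀ a b : ℕ, a.Prime → b.Prime → cardFactors (a * b) = 2 := fun a b ha hb => by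
    rw [cardFactors_mul ha.ne_zero hb.ne_zero, cardFactors_apply_prime ha,
      cardFactors_apply_prime hb]
  have hp : ¬ n.Prime := fun hp => by rw [cardFactors_apply_prime hp] at hd; omega
  have hsmall : ∀ k, n - 1 = k → H ∈ k.factorial.divisors := fun k hk =>
    Nat.mem_divisors.2 ⟨hk ▸ hH', Nat.factorial_ne_zero k⟩
  have hn20 : n < 20 := by omega
  interval_cases n
  · have := cardFactors_le_of_dvd (by norm_num) hH'
    have h5 : cardFactors (4 - 1).factorial = 2 := hc 2 3 Nat.prime_two Nat.prime_three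
    have := hdl 2 (by norm_num)
    omega
  · exact absurd (by norm_num) hp
  · have h5 := hdl 2 (by norm_num)
    have h6 := hb 6 2 le_rfl h5 5 (by norm_num)
    by_contra hc'
    have h7 : e = 5 := by omega
    have h8 : 2 ^ 5 ≤ H := h7 ▸ he ▸ two_pow_cardFactors_le hH0
    have h9 : H ≤ 6 ^ 2 := hH.trans (Nat.pow_le_pow_right (by norm_num) h5)
    interval_cases H <;> revert hH' <;> decide
  · exact absurd (by norm_num) hp
  · have h5 := hdl 3 (by norm_num)
    by_contra hc'
    have h7 : 7 ≤ e := by omega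
    have h9 : H ≤ 8 ^ 3 := hH.trans (Nat.pow_le_pow_right (by norm_num) h5)
    obtain ⟨k, hk⟩ := hH'
    have h10 : cardFactors (8 - 1).factorial = 8 := by
      rw [show (8 - 1 : ℕ).factorial = 2 * 2 * (2 * 2) * (3 * 3) * (5 * 7) by decide,
        cardFactors_mul (by norm_num) (by norm_num), cardFactors_mul (by norm_num) (by norm_num),
        cardFactors_mul (by norm_num) (by norm_num), hc 2 2 Nat.prime_two Nat.prime_two,
        hc 3 3 Nat.prime_three Nat.prime_three, hc 5 7 Nat.prime_five (by norm_num)]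
    have hk0 : k ≠ 0 := by rintro rfl; simp [Nat.factorial] at hk
    rw [hk, cardFactors_mul hH0 hk0] at h10
    have hkd : k ∣ 5040 := ⟨H, by rw [mul_comm, ← hk]; rfl⟩
    have hk1 : 5040 ≤ 512 * k := by
      have : 5040 = H * k := hk
      nlinarith
    rcases (show cardFactors k = 0 ∨ cardFactors k = 1 by omega) with h | h
    · rw [cardFactors_eq_zero_iff_eq_zero_or_one] at h
      omega
    · have hkp := cardFactors_eq_one_iff_prime.1 h
      have : k ∣ (7 : ℕ).factorial := hkd
      have := (hkp.dvd_factorial).1 this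
      omega
  · have h5 : d = 2 := hd.trans (hc 3 3 Nat.prime_three Nat.prime_three)
    have := hb 9 2 le_rfl h5.le 6 (by norm_num); omega
  · have h5 : d = 2 := hd.trans (hc 2 5 Nat.prime_two Nat.prime_five)
    have := hb 10 2 le_rfl h5.le 6 (by norm_num); omega
  · exact absurd (by norm_num) hp
  · have h5 := hdl 3 (by norm_num)
    have := hb 12 3 le_rfl h5 10 (by norm_num); omega
  · exact absurd (by norm_num) hp
  · have h5 := hdl 3 (by norm_num)
    have := hb 14 3 le_rfl h5 11 (by norm_num); omega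
  · have h5 := hdl 3 (by norm_num)
    have := hb 15 3 le_rfl h5 11 (by norm_num); omega
  · have h5 := hdl 4 (by norm_num)
    have := hb 16 4 le_rfl h5 16 (by norm_num); omega
  · exact absurd (by norm_num) hp
  · have h5 := hdl 4 (by norm_num)
    have := hb 18 4 le_rfl h5 16 (by norm_num); omega
  · exact absurd (by norm_num) hp

theorem affine [FaithfulSMul G Ω] [Nontrivial Ω] (ih : ∀ m < n, P.{v} m) (hn : Nat.card Ω = n)
    {V : Subgroup G} [hV : V.Normal] (htr : IsPretransitive V Ω)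
    (hst : ∀ ω : Ω, stabilizer V ω = ⊥) : 3 * len G + 4 ≤ 4 * n := by
  classical
  obtain ⟨α⟩ : Nonempty Ω := inferInstance
  have hcard : Nat.card V = n := by
    have h5 := index_stabilizer_of_transitive V α
    rwa [hst, Subgroup.index_bot, hn] at h5
  have h1 := len_le_of_sup V _ (sup_stab htr α)
  have h2 := stab_bound (G := G) ih hn α
  have h3 := len_le_cardFactors (G := V)
  have h4 := len_le_cardFactors (G := stabilizer G α)
  rw [hcard] at h3
  by_cases hd : cardFactors n ≤ 1
  · omega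
  obtain ⟨s, hs1, hs2⟩ := exists_gens (⊥ : Subgroup V)
  rw [bot_sup_eq] at hs1
  rw [hcard] at hs2
  have h5 : Nat.card (stabilizer G α) ≤ n ^ cardFactors n := by
    have : Nat.card (stabilizer G α) ≤ Nat.card (s → V) := by
      refine Nat.card_le_card_of_injective
        (fun q x => ⟨q * x.1.1 * (q : G)⁻¹, hV.conj_mem _ x.1.2 _⟩) fun q q' h => ?_
      have : ((q' : G)⁻¹ * q) = 1 := eq_one_of_cm_of_fix htr (α := α) (fun t ht => by
        have h6 : (⊤ : Subgroup V) ≤
            (Subgroup.centralizer {(q' : G)⁻¹ * q}).subgroupOf V := by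
          rw [← hs1, Subgroup.closure_le]
          intro x hx
          have := congrArg Subtype.val (congrFun h ⟨x, hx⟩)
          dsimp only at this
          refine Subgroup.mem_centralizer_singleton_iff.2 ?_
          change (x : G) * ((q' : G)⁻¹ * q) = (q' : G)⁻¹ * q * x
          calc (x : G) * ((q' : G)⁻¹ * q) = (q' : G)⁻¹ * (q' * x * (q' : G)⁻¹) * q := by group
            _ = _ := by rw [← this]; group
        exact (Subgroup.mem_centralizer_singleton_iff.1
          (h6 (Subgroup.mem_top (⟨t, ht⟩ : V)))).symm)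
        ((stabilizer G α).mul_mem ((stabilizer G α).inv_mem q'.2) q.2)
      exact Subtype.ext (inv_mul_eq_one.1 this).symm
    rw [Nat.card_fun, hcard, Nat.card_eq_finsetCard] at this
    refine this.trans (Nat.pow_le_pow_right ?_ (by omega))
    rw [← hn]; exact Nat.card_pos
  have h6 : Nat.card (stabilizer G α) ∣ (n - 1).factorial := by
    have h7 := Subgroup.card_dvd_of_injective (toPermHom G Ω) toPerm_injective
    have h8 := (stabilizer G α).card_mul_index
    have : IsPretransitive G Ω := ⟨fun a b => by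
      obtain ⟨n, hn⟩ := htr.exists_smul_eq a b; exact ⟨n, hn⟩⟩
    rw [index_stabilizer_of_transitive, hn] at h8
    rw [Nat.card_perm, hn, ← h8] at h7
    have hn0 : 0 < n := by rw [← hn]; exact Nat.card_pos
    rw [← Nat.mul_factorial_pred hn0.ne', mul_comm n] at h7
    exact Nat.dvd_of_mul_dvd_mul_right hn0 h7
  have := numeric rfl (by omega) rfl Nat.card_pos.ne' h5 h6
  omega

theorem main (n : ℕ) : P.{v} n := by
  induction n using Nat.strong_induction_on with
  | _ n ih =>
  intro Ω G _ _ _ _ _ hn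
  by_cases htr : IsPretransitive G Ω
  swap
  · exact intrans ih hn htr
  rcases subsingleton_or_nontrivial Ω with hΩ | hΩ
  · have h1 := len_le_cardFactors (G := G)
    have : Subsingleton G := ⟨fun a b => FaithfulSMul.eq_of_smul_eq_smul (α := Ω) fun _ =>
      Subsingleton.elim _ _⟩
    rw [Nat.card_unique, cardFactors_one] at h1
    have h2 := nOrb_le_of_cover (G := G) (id : Ω → Ω) fun ω => ⟨ω, 1, one_smul _ _⟩
    omega
  obtain ⟨α⟩ : Nonempty Ω := inferInstance
  have h1 := nOrb_le_one htr α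
  suffices 3 * len G + 4 ≤ 4 * n by omega
  by_cases hp : IsPreprimitive G Ω
  · rcases exists_setup hp with ⟨V, hV, -, -, h2, -, h3⟩ | ⟨T, hT, h2, h3, -⟩ | ⟨N, S, h2, h3, -⟩
    · exact affine ih hn h2 h3
    · have hT0 : T ≠ ⊥ := (Subgroup.nontrivial_iff_ne_bot T).1 inferInstance
      have h4 := len_le_of_sup T _ (sup_stab (isPretransitive_of_normal_of_ne_bot hp T hT0) α)
      have h5 := stab_bound (G := G) ih hn α
      have h6 := len_simple (G := T)
      omega
    · exact nonaffine ih hn h2 h3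
  · rw [← isCoatom_stabilizer_iff_preprimitive G α, IsCoatom, not_and] at hp
    have h2 : stabilizer G α ≠ ⊤ := fun h => by
      obtain ⟨β, hβ⟩ := exists_ne α
      obtain ⟨g, rfl⟩ := htr.exists_smul_eq α β
      exact hβ (show g ∈ stabilizer G α from h ▸ Subgroup.mem_top g)
    have h3 := hp h2
    push Not at h3
    obtain ⟨M, h4, h5⟩ := h3
    exact imprim ih hn htr α h4 h5

theorem len_le {G Ω : Type*} [Group G] [Finite G] [Finite Ω] [MulAction G Ω] [FaithfulSMul G Ω] :
    3 * len G + 4 * nOrb G Ω ≤ 4 * Nat.card Ω := by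
  have h1 := main _ Ω (toPermHom G Ω).range rfl
  have h2 := nOrb_le_range (G := G) (Ω := Ω)
  have h3 := len_le_of_equiv (MonoidHom.ofInjective (f := toPermHom G Ω) toPerm_injective).symm
  omega

end Cfsg.Agent.Perm.CompDeg
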