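import Mathlib
import Cfsg.Agent.Perm.OnlProd
import Cfsg.Agent.S0205
import Cfsg.Agent.S0215

/-!
# Linear groups in characteristic two which are primitive on every orbit of non-zero vectors

A non-abelian minimal normal subgroup of such a group is simple.
-/

set_option autoImplicit false

namespace Cfsg.Agent.Perm.EPA

open MulAction Cfsg.Agent.Perm.Onl

theorem dihedral {G : Type*} [Group G] [Finite G] {s t : G} (hs : s * s = 1) (ht : t * t = 1) :
    (∃ m : ℕ, (s * t) ^ (2 * m + 1) = 1) ∨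
      ∃ m : ℕ, (s * t) ^ m ≠ 1 ∧ (s * t) ^ m * (s * t) ^ m = 1 ∧ Commute ((s * t) ^ m) s ∧
        Commute ((s * t) ^ m) t := by
  have hs' : s⁻¹ = s := inv_eq_of_mul_eq_one_right hs
  have ht' : t⁻¹ = t := inv_eq_of_mul_eq_one_right ht
  rcases Nat.even_or_odd' (orderOf (s * t)) with ⟨m, hm | hm⟩
  · right
    have hpos := orderOf_pos (s * t)
    have h1 : (s * t) ^ m * (s * t) ^ m = 1 := by
      rw [← pow_add, ← two_mul, ← hm, pow_orderOf_eq_one]
    have h2 : ((s * t) ^ m)⁻¹ = (s * t) ^ m := inv_eq_of_mul_eq_one_right h1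
    have h3 : s * (s * t) ^ m * s⁻¹ = (s * t) ^ m := by
      rw [← conj_pow, ← h2, ← inv_pow, mul_inv_rev, hs', ht', ← mul_assoc, hs, one_mul]
    have h4 : Commute ((s * t) ^ m) s := by
      have : s * (s * t) ^ m = (s * t) ^ m * s := by
        calc s * (s * t) ^ m = s * (s * t) ^ m * s⁻¹ * s := by group
          _ = _ := by rw [h3]
      exact this.symm
    refine ⟨m, pow_ne_one_of_lt_orderOf (by omega) (by omega), h1, h4, ?_⟩
    have h5 : Commute ((s * t) ^ m) (s * (s * t)) := h4.mul_right ((Commute.refl _).pow_left m)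
    rwa [← mul_assoc, hs, one_mul] at h5
  · exact Or.inl ⟨m, by rw [← hm, pow_orderOf_eq_one]⟩

theorem conj_of_odd {G : Type*} [Group G] {s t : G} (hs : s * s = 1) (ht : t * t = 1) {m : ℕ}
    (h : (s * t) ^ (2 * m + 1) = 1) :
    ((s * t) ^ m * s) * ((s * t) ^ m * s) = 1 ∧ ((s * t) ^ m * s) * t * ((s * t) ^ m * s) = s := by
  have hs' : s⁻¹ = s := inv_eq_of_mul_eq_one_right hs
  have ht' : t⁻¹ = t := inv_eq_of_mul_eq_one_right ht
  have h3 : s * (s * t) ^ m * s⁻¹ = ((s * t) ^ m)⁻¹ := by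
    rw [← conj_pow, ← inv_pow, mul_inv_rev, hs', ht', ← mul_assoc, hs, one_mul]
  constructor
  · calc (s * t) ^ m * s * ((s * t) ^ m * s) = (s * t) ^ m * (s * (s * t) ^ m * s⁻¹) := by
          rw [hs']; simp only [mul_assoc]
      _ = 1 := by rw [h3, mul_inv_cancel]
  · calc (s * t) ^ m * s * t * ((s * t) ^ m * s) = (s * t) ^ (2 * m + 1) * s := by
          rw [show 2 * m + 1 = m + 1 + m by ring, pow_add, pow_succ]; simp only [mul_assoc]
      _ = s := by rw [h, one_mul]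

variable {H V : Type*} [Group H] [AddCommGroup V] [DistribMulAction H V]

/-- `H` is primitive and faithful on every orbit of non-zero vectors -/
structure Hyp (H V : Type*) [Group H] [AddCommGroup V] [DistribMulAction H V] : Prop where
  prim : ∀ v : V, IsPreprimitive H (orbit H v)
  faith : ∀ v : V, v ≠ 0 → ∀ h : H, (∀ a : H, h • a • v = a • v) → h = 1

namespace Hyp

theorem faithful (hy : Hyp H V) {v : V} (hv : v ≠ 0) : FaithfulSMul H (orbit H v) :=
  ⟨fun {a b} hab => by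
    have := hy.faith v hv (b⁻¹ * a) fun g => by
      have h1 : a • g • v = b • g • v := congrArg Subtype.val (hab ⟨g • v, mem_orbit v g⟩)
      rw [mul_smul, h1, inv_smul_smul]
    exact (inv_mul_eq_one.1 this).symm⟩

theorem trans (hy : Hyp H V) {v : V} (hv : v ≠ 0) (K : Subgroup H) [K.Normal] (hK : K ≠ ⊥) :
    IsPretransitive K (orbit H v) := by
  have := hy.faithful hv
  exact isPretransitive_of_normal_of_ne_bot (hy.prim v) K hK

theorem mem_stab {v : V} {g : H} :
    g ∈ stabilizer H (⟨v, mem_orbit_self v⟩ : orbit H v) ↔ g • v = v := by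
  rw [mem_stabilizer_iff, Subtype.ext_iff]; rfl

variable {N S S' : Subgroup H}

theorem transN (hy : Hyp H V) (h : Fac N S) {v : V} (hv : v ≠ 0) :
    IsPretransitive N (orbit H v) := by
  have := h.normal
  exact hy.trans hv N fun h0 => h.ne_bot (eq_bot_iff.2 (h0 ▸ h.le))

theorem exists_move (hy : Hyp H V) (h : Fac N S) {v : V} (hv : v ≠ 0) : ∃ s ∈ S, s • v ≠ v := by
  have := hy.faithful hv
  by_contra hc
  push Not at hc
  exact h.not_le_stab (hy.transN h hv) ⟨v, mem_orbit_self v⟩ fun s hs => mem_stab.2 (hc s hs)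

theorem _root_.Cfsg.Agent.Perm.EPA.exists_cj (h : Fac N S) (h' : Fac N S') : ∃ g, cj g S = S' := by
  by_contra hc
  push Not at hc
  have : N ≤ Subgroup.centralizer (S' : Set H) := h.le_of_conj_le fun g x hx =>
    cm_iff.1 (h'.cm_of_ne (h.conj g) (hc g) hx)
  obtain ⟨a, ha, b, hb, hab⟩ := h'.exists_not_comm
  exact hab (cm_iff.2 (this (h'.le ha)) b hb)

theorem exists_q (hy : Hyp H V) (h : Fac N S) (h' : Fac N S') {v : V} (hv : v ≠ 0) :
    ∃ q : H, q • v = v ∧ cj q S = S' := by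
  obtain ⟨g, rfl⟩ := exists_cj h h'
  obtain ⟨q, hq, e⟩ := h.exists_stab_cj (hy.transN h hv) ⟨v, mem_orbit_self v⟩ g
  exact ⟨q, mem_stab.1 hq, e⟩

theorem exists_fix (hy : Hyp H V) (h : Fac N S) (h' : Fac N S') {v : V} (hv : v ≠ 0) {r : H}
    (hr : r ∈ S') (hrv : r • v = v) : ∃ q : H, q⁻¹ * r * q ∈ S ∧ (q⁻¹ * r * q) • v = v := by
  obtain ⟨q, hq, rfl⟩ := hy.exists_q h h' hv
  exact ⟨q, mem_cj.1 hr, by rw [mul_smul, mul_smul, hq, hrv, inv_smul_eq_iff, hq]⟩

theorem proj_ne (hy : Hyp H V) (h : Fac N S) (h' : Fac N S') {v : V} (hv : v ≠ 0) {r : H}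
    (hr : r ∈ S') (hr1 : r ≠ 1) (hrv : r • v = v) :
    proj S (N ⊓ stabilizer H (⟨v, mem_orbit_self v⟩ : orbit H v)) ≠ S := by
  intro hp
  have := hy.faithful hv
  obtain ⟨q, h1, h2⟩ := hy.exists_fix h h' hv hr hrv
  have := h.semireg_of_proj (hy.transN h hv) inf_le_right hp h1 (ω := ⟨v, mem_orbit_self v⟩)
    (Subtype.ext h2)
  exact hr1 (by
    calc r = q * (q⁻¹ * r * q) * q⁻¹ := by group
      _ = 1 := by rw [this]; group)

/-- product-action vectors -/
theorem pa (hy : Hyp H V) (h : Fac N S) (h' : Fac N S') {v : V} (hv : v ≠ 0) {r : H}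
    (hr : r ∈ S') (hr1 : r ≠ 1) (hrv : r • v = v) {s c : H} (hs : s ∈ S) (hcN : c ∈ N)
    (hc : Cm S c) (hsc : (s * c) • v = v) : s • v = v :=
  mem_stab.1 (h.proj_le_stab (hy.prim v) _ (hy.proj_ne h h' hv hr hr1 hrv)
    ⟨hs, c, hc, mul_mem (h.le hs) hcN, mem_stab.2 hsc⟩)

/-- stabilisers in a factor are self-normalising -/
theorem selfnorm (hy : Hyp H V) (h : Fac N S) {v : V} (hv : v ≠ 0) {r : H}
    (hr : r ∈ S) (hr1 : r ≠ 1) (hrv : r • v = v) {g : H} (hg : g ∈ S)
    (hn : ∀ r ∈ S, r • v = v ↔ r • g • v = g • v) : g • v = v := by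
  have cj_iff : ∀ (x y : H) (w : V), (x⁻¹ * y * x) • w = w ↔ y • x • w = x • w := by
    intro x y w
    rw [mul_smul, mul_smul, inv_smul_eq_iff]
  let R : Subgroup H :=
    { carrier := {g | g ∈ S ∧ ∀ r ∈ S, r • v = v ↔ r • g • v = g • v}
      one_mem' := ⟨one_mem _, fun r _ => by rw [one_smul]⟩
      mul_mem' := by
        rintro a b ⟨ha, ha'⟩ ⟨hb, hb'⟩
        refine ⟨mul_mem ha hb, fun r hr => ?_⟩
        rw [ha' r hr, ← cj_iff, hb' _ (mul_mem (mul_mem (inv_mem ha) hr) ha), cj_iff, mul_smul]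
      inv_mem' := by
        rintro a ⟨ha, ha'⟩
        refine ⟨inv_mem ha, fun r hr => ?_⟩
        rw [← cj_iff a⁻¹, ha' _ (mul_mem (mul_mem (inv_mem (inv_mem ha)) hr) (inv_mem ha)),
          cj_iff a⁻¹, inv_smul_smul] }
  have hle : R ≤ stabilizer H (⟨v, mem_orbit_self v⟩ : orbit H v) := by
    refine h.le_stab (hy.prim v) _ (fun x hx => hx.1) (fun hR => ?_) (fun x hx => ?_)
      (fun q hq hqS x hx => ?_)
    · rcases h.normal_eq (K := S ⊓ stabilizer H v) inf_le_left (fun s hs k hk => by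
        refine ⟨S.mul_mem (S.mul_mem hs hk.1) (S.inv_mem hs), ?_⟩
        have h1 : s⁻¹ ∈ R := hR ▸ S.inv_mem hs
        have := (cj_iff s⁻¹ k v).2 ((h1.2 k hk.1).1 hk.2)
        rwa [inv_inv] at this) with h1 | h1
      · have : r ∈ S ⊓ stabilizer H v := ⟨hr, hrv⟩
        rw [h1] at this
        exact hr1 this
      · obtain ⟨s, hs, hsv⟩ := hy.exists_move h hv
        have : s ∈ S ⊓ stabilizer H v := h1.symm ▸ hs
        exact hsv this.2
    · have := mem_stab.1 (h.proj_le_stab (hy.prim v) _ (hy.proj_ne h h hv hr hr1 hrv) hx)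
      exact ⟨hx.1, fun r _ => by rw [this]⟩
    · have hq' := mem_stab.1 hq
      have hq'' : q⁻¹ • v = v := by rw [inv_smul_eq_iff, hq']
      refine ⟨hqS ▸ conj_mem_cj hx.1, fun r hr => ?_⟩
      have hr' : q⁻¹ * r * q ∈ S := mem_cj.1 (hqS.symm ▸ hr)
      have := hx.2 _ hr'
      rw [cj_iff, cj_iff, hq'] at this
      rw [this, mul_smul, mul_smul, hq'']
  exact mem_stab.1 (hle ⟨hg, hn⟩)

theorem card_smul (S : Subgroup H) (g : H) (v : V) :
    Nat.card (cj g S ⊓ stabilizer H (g • v) : Subgroup H) =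
      Nat.card (S ⊓ stabilizer H v : Subgroup H) := by
  rw [← card_cj g (S ⊓ stabilizer H v)]
  congr 2
  ext x
  simp only [Subgroup.mem_inf, mem_cj, mem_stabilizer_iff, mul_smul, inv_smul_eq_iff]

theorem card_eq (hy : Hyp H V) (h : Fac N S) (h' : Fac N S') {v : V} (hv : v ≠ 0) :
    Nat.card (S' ⊓ stabilizer H v : Subgroup H) = Nat.card (S ⊓ stabilizer H v : Subgroup H) := by
  obtain ⟨q, hq, rfl⟩ := hy.exists_q h h' hv
  rw [← card_smul S q v, hq]

end Hyp

/-- vectors with stabilisers of maximal order in the factors -/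
def Mx (N : Subgroup H) (u : V) : Prop :=
  u ≠ 0 ∧ ∀ S, Fac N S → ∀ w : V, w ≠ 0 →
    Nat.card (S ⊓ stabilizer H w : Subgroup H) ≤ Nat.card (S ⊓ stabilizer H u : Subgroup H)

namespace Hyp

variable {N S S' : Subgroup H}

theorem mx_of (hy : Hyp H V) (h : Fac N S) {u : V} (hu : u ≠ 0) (hm : ∀ w : V, w ≠ 0 →
    Nat.card (S ⊓ stabilizer H w : Subgroup H) ≤ Nat.card (S ⊓ stabilizer H u : Subgroup H)) :
    Mx N u :=
  ⟨hu, fun _ h' w hw => by rw [hy.card_eq h h' hw, hy.card_eq h h' hu]; exact hm w hw⟩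

theorem exists_mx [Finite V] [Nontrivial V] (hy : Hyp H V) (h : Fac N S) : ∃ u : V, Mx N u := by
  obtain ⟨u, hu, hm⟩ := Set.exists_max_image {v : V | v ≠ 0}
    (fun w => Nat.card (S ⊓ stabilizer H w : Subgroup H)) (Set.toFinite _) (exists_ne 0)
  exact ⟨u, hy.mx_of h hu hm⟩

theorem mx_smul {u : V} (hu : Mx N u) (g : H) : Mx N (g • u) := by
  refine ⟨fun h0 => hu.1 ((smul_eq_zero_iff_eq g).1 h0), fun S hS w hw => ?_⟩
  have e : cj g (cj g⁻¹ S) = S := by rw [← cj_mul, mul_inv_cancel, cj_one]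
  have h1 := card_smul (cj g⁻¹ S) g u
  have h2 := card_smul (cj g⁻¹ S) g (g⁻¹ • w)
  rw [e] at h1 h2
  rw [smul_inv_smul] at h2
  rw [h1, h2]
  exact hu.2 _ (hS.conj _) _ fun h0 => hw ((smul_eq_zero_iff_eq _).1 h0)

theorem mx_le [Finite H] (hy : Hyp H V) (h : Fac N S) {u w : V} (hu : Mx N u) (hw : w ≠ 0)
    (hle : ∀ r ∈ S, r • u = u → r • w = w) : Mx N w ∧ ∀ r ∈ S, r • w = w → r • u = u := by
  have h1 : S ⊓ stabilizer H u ≤ S ⊓ stabilizer H w := fun r hr => ⟨hr.1, hle r hr.1 hr.2⟩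
  have h2 := Subgroup.eq_of_le_of_card_ge h1 (hu.2 S h w hw)
  refine ⟨hy.mx_of h hw fun x hx => h2 ▸ hu.2 S h x hx, fun r hr hrw => ?_⟩
  have : r ∈ S ⊓ stabilizer H u := h2 ▸ ⟨hr, hrw⟩
  exact this.2

theorem exists_invol [Finite H] (h : Fac N S) : ∃ t ∈ S, t ≠ 1 ∧ t * t = 1 := by
  have h2 : 2 ∣ Nat.card S := by
    by_contra hc
    exact h.not_isSolvable (S0205.result (Nat.odd_iff.2 (Nat.two_dvd_ne_zero.1 hc)))
  have := Fact.mk Nat.prime_two
  obtain ⟨t, ht⟩ := exists_prime_orderOf_dvd_card' 2 h2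
  refine ⟨t, t.2, fun h1 => ?_, ?_⟩
  · rw [show t = 1 from Subtype.ext h1, orderOf_one] at ht
    omega
  · have := pow_orderOf_eq_one t
    rw [ht, pow_two] at this
    exact congrArg Subtype.val this

theorem exists_invol_move (hy : Hyp H V) (h : Fac N S) {v : V} (hv : v ≠ 0) {t : H} (ht : t ∈ S)
    (ht1 : t ≠ 1) (ht2 : t * t = 1) : ∃ a ∈ S, a * a = 1 ∧ a • v ≠ v := by
  by_contra hc
  push Not at hc
  let K : Subgroup H :=
    { carrier := {x | x ∈ S ∧ ∀ s ∈ S, (s * x * s⁻¹) • v = v}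
      one_mem' := ⟨one_mem _, fun s _ => by simp⟩
      mul_mem' := by
        rintro a b ⟨ha, ha'⟩ ⟨hb, hb'⟩
        refine ⟨mul_mem ha hb, fun s hs => ?_⟩
        rw [show s * (a * b) * s⁻¹ = (s * a * s⁻¹) * (s * b * s⁻¹) by group, mul_smul, hb' s hs,
          ha' s hs]
      inv_mem' := by
        rintro a ⟨ha, ha'⟩
        refine ⟨inv_mem ha, fun s hs => ?_⟩
        rw [show s * a⁻¹ * s⁻¹ = (s * a * s⁻¹)⁻¹ by group, inv_smul_eq_iff, ha' s hs] }
  rcases h.normal_eq (K := K) (fun x hx => hx.1) (fun s hs k hk =>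
    ⟨S.mul_mem (S.mul_mem hs hk.1) (S.inv_mem hs), fun s' hs' => by
      rw [show s' * (s * k * s⁻¹) * s'⁻¹ = (s' * s) * k * (s' * s)⁻¹ by group]
      exact hk.2 _ (mul_mem hs' hs)⟩) with h1 | h1
  · have : t ∈ K := ⟨ht, fun s hs => hc _ (S.mul_mem (S.mul_mem hs ht) (S.inv_mem hs)) (by
      rw [show s * t * s⁻¹ * (s * t * s⁻¹) = s * (t * t) * s⁻¹ by group, ht2]; group)⟩
    rw [h1] at this
    exact ht1 this
  · obtain ⟨s, hs, hsv⟩ := hy.exists_move h hv
    have : s ∈ K := h1.symm ▸ hs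
    exact hsv (by simpa using this.2 1 (one_mem _))

theorem add_eq_zero' (h2 : ∀ v : V, v + v = 0) {x y : V} : x + y = 0 ↔ x = y := by
  rw [add_eq_zero_iff_eq_neg, neg_eq_of_add_eq_zero_right (h2 y)]

/-- a maximal vector fixed by an involution of a factor -/
theorem exists_mx_invol [Finite H] [Finite V] [Nontrivial V] (hy : Hyp H V)
    (h2 : ∀ v : V, v + v = 0) (h : Fac N S) (h' : Fac N S') (hne : S' ≠ S) :
    ∃ u : V, Mx N u ∧ ∃ t ∈ S', t ≠ 1 ∧ t * t = 1 ∧ t • u = u := by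
  obtain ⟨u, hu⟩ := hy.exists_mx h
  obtain ⟨t, ht, ht1, ht2⟩ := exists_invol h'
  by_cases htu : t • u = u
  · exact ⟨u, hu, t, ht, ht1, ht2, htu⟩
  · refine ⟨t • u + u, (hy.mx_le h hu (fun h0 => htu ((add_eq_zero' h2).1 h0))
      fun r hr hru => ?_).1, t, ht, ht1, ht2, ?_⟩
    · rw [smul_add, ← mul_smul, ← (h.cm_of_ne h' hne ht r hr).eq, mul_smul, hru]
    · rw [smul_add, ← mul_smul, ht2, one_smul, add_comm]

section key

variable [Finite H] (hy : Hyp H V) (h2 : ∀ v : V, v + v = 0) (h : Fac N S) (h' : Fac N S')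
  (hne : S' ≠ S) {u : V} (hu : Mx N u) {a b : H} (ha : a ∈ S) (ha2 : a * a = 1) (hau : a • u ≠ u)
  (hb : b ∈ S') (hb2 : b * b = 1) (hbu : b • u ≠ u)
include hy h2 h h' hne hu ha ha2 hau hb hbu

theorem key_move : a • (u + (a * b) • u) ≠ u + (a * b) • u := by
  intro e
  have hab := (h.cm_of_ne h' hne hb a ha).eq
  refine hau ((hy.mx_le h hu (w := b • u + u) (fun h0 => hbu ((add_eq_zero' h2).1 h0))
    fun r hr hru => ?_).2 a ha ?_)
  · rw [smul_add, ← mul_smul, ← (h.cm_of_ne h' hne hb r hr).eq, mul_smul, hru]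
  · rw [smul_add, ← mul_smul, ← mul_assoc, ha2, one_mul] at e
    rw [smul_add, ← mul_smul, ← (add_eq_zero' h2)]
    rw [← add_eq_zero' h2] at e
    rw [← e]; abel

include hb2 in
theorem key_free {T : Subgroup H} (hT : Fac N T) {r : H} (hr : r ∈ T)
    (hrx : r • (u + (a * b) • u) = u + (a * b) • u) : r = 1 := by
  by_contra hr1
  have hm := hy.key_move h2 h h' hne hu ha ha2 hau hb hbu
  have hab := (h.cm_of_ne h' hne hb a ha).eq
  refine hm (hy.pa h hT (fun h0 => hm (by rw [h0, smul_zero])) hr hr1 hrx ha (h'.le hb)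
    (h.cm_of_ne h' hne hb) ?_)
  rw [smul_add, ← mul_smul, add_comm]
  congr 1
  rw [show a * b * (a * b) = a * (b * a) * b by group, hab,
    show a * (a * b) * b = (a * a) * (b * b) by group, ha2, hb2, one_mul, one_smul]

include hb2 in
theorem key_ti {r : H} (hr : r ∈ S) (hru : r • u = u) (hra : r • a • u = a • u) : r = 1 := by
  refine hy.key_free h2 h h' hne hu ha ha2 hau hb hb2 hbu h hr ?_
  have hab := (h.cm_of_ne h' hne hb a ha).eq
  rw [smul_add, hru, ← hab, ← mul_smul, ← mul_assoc, ← (h.cm_of_ne h' hne hb r hr).eq, mul_assoc,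
    mul_smul, mul_smul, hra, mul_smul]

include hb2 in
theorem key_two {t : H} (ht : t ∈ S) (ht1 : t ≠ 1) (htu : t • u = u) {c : H} (hcN : c ∈ N)
    (hc : Cm S c) : c ∈ S' := by
  have : N ≤ S ⊔ S' := h.le_of_conj_le fun g => by
    by_cases h1 : cj g S = S
    · rw [h1]; exact le_sup_left
    by_cases h3 : cj g S = S'
    · rw [h3]; exact le_sup_right
    exfalso
    obtain ⟨q, hq, hqu⟩ := hy.exists_fix (h.conj g) h hu.1 ht htu
    have := hy.key_free h2 h h' hne hu ha ha2 hau hb hb2 hbu (h.conj g) hq (by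
      have e1 := (h.cm_of_ne (h.conj g) h1 hq a ha).eq
      have e2 := (h'.cm_of_ne (h.conj g) h3 hq b hb).eq
      rw [smul_add, hqu, ← mul_smul, ← mul_assoc, e1, mul_assoc, e2, ← mul_assoc, mul_smul, hqu])
    exact ht1 (by
      calc t = q * (q⁻¹ * t * q) * q⁻¹ := by group
        _ = 1 := by rw [this]; group)
  obtain ⟨x, hx, y, hy', rfl⟩ := mem_sup_of_cm (fun b hb => h.cm_of_ne h' hne hb) (this hcN)
  have : x = 1 := h.eq_one_of_cm hx (by
    have := hc.mul (h.cm_of_ne h' hne hy').inv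
    rwa [mul_inv_cancel_right] at this)
  rwa [this, one_mul]

include hb2 in
theorem key_fix {t : H} (ht : t ∈ S) (ht1 : t ≠ 1) (ht2 : t * t = 1) (htu : t • u = u) {r : H}
    (hr : r ∈ S) (hru : r • u = u) : r • (t • a • u + a • u) = t • a • u + a • u := by
  have hm := hy.key_move h2 h h' hne hu ha ha2 hau hb hbu
  have hfree := fun (T : Subgroup H) (hT : Fac N T) (r : H) (hr : r ∈ T) =>
    hy.key_free h2 h h' hne hu ha ha2 hau hb hb2 hbu hT hr
  have hab := (h.cm_of_ne h' hne hb a ha).eq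
  set x := u + (a * b) • u with hx
  have hx0 : x ≠ 0 := fun h0 => hm (by rw [h0, smul_zero])
  have habx : (a * b) • x = x := by
    rw [hx, smul_add, ← mul_smul, add_comm]
    congr 1
    rw [show a * b * (a * b) = a * (b * a) * b by group, hab,
      show a * (a * b) * b = (a * a) * (b * b) by group, ha2, hb2, one_mul, one_smul]
  have hp : proj S (N ⊓ stabilizer H (⟨x, mem_orbit_self x⟩ : orbit H x)) = S := by
    by_contra hp
    exact hm (mem_stab.1 (h.proj_le_stab (hy.prim x) _ hp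
      ⟨ha, b, h.cm_of_ne h' hne hb, mul_mem (h.le ha) (h'.le hb), mem_stab.2 habx⟩))
  obtain ⟨-, c, hc, hcN, hcx⟩ : t ∈ proj S (N ⊓ stabilizer H (⟨x, mem_orbit_self x⟩ : orbit H x)) :=
    hp.symm ▸ ht
  replace hcx : (t * c) • x = x := mem_stab.1 hcx
  replace hcN : t * c ∈ N := hcN
  have hcS : c ∈ S' := hy.key_two h2 h h' hne hu ha ha2 hau hb hb2 hbu ht ht1 htu
    (by simpa using mul_mem (inv_mem (h.le ht)) hcN) hc
  have htc := (hc t ht).eq
  have hc2 : c * c = 1 := hfree _ h' _ (mul_mem hcS hcS) (by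
    have : c * c = (t * c) * (t * c) := by
      rw [show t * c * (t * c) = t * (c * t) * c by group, htc,
        show t * (t * c) * c = (t * t) * (c * c) by group, ht2, one_mul]
    rw [this, mul_smul, hcx, hcx])
  have htx : t • x = c • x := by
    conv_lhs => rw [← hcx, ← mul_smul, ← mul_assoc, ht2, one_mul]
  -- `w = t x + x`
  have hw : t • x + x = b • (t • a • u + a • u) := by
    have e : t * (a * b) = b * t * a := by
      rw [← hab, ← mul_assoc, ← (h.cm_of_ne h' hne hb t ht).eq]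
    rw [hx, smul_add, htu, smul_add, ← mul_smul, ← mul_smul, ← mul_smul, ← mul_smul, hab, e,
      add_add_add_comm, h2, zero_add]
  have hw0 : t • x + x ≠ 0 := fun h0 => ht1 (hfree _ h _ ht ((add_eq_zero' h2).1 h0))
  have hcw : c • (t • x + x) = t • x + x := by
    rw [htx, smul_add, ← mul_smul, hc2, one_smul, add_comm]
  have hcb : c • b • u = b • u := by
    have h3 := (hy.mx_le h' hu (w := t • a • u + a • u)
      (fun h0 => hw0 (by rw [hw, h0, smul_zero])) fun r hr hru => by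
        have e1 := (h.cm_of_ne h' hne hr a ha).eq
        have e2 := (h.cm_of_ne h' hne hr t ht).eq
        rw [smul_add, ← mul_smul r t, e2, mul_smul, ← mul_smul r a, e1, mul_smul, hru]).2
      (b⁻¹ * c * b) (mul_mem (mul_mem (inv_mem hb) hcS) hb) (by
        rw [mul_smul, mul_smul, ← hw, hcw, hw, inv_smul_smul])
    rwa [mul_smul, mul_smul, inv_smul_eq_iff] at h3
  have hz : t • x + x = c • u + u := by
    rw [htx, hx, smul_add, ← mul_smul c, ← mul_assoc, (hc a ha).eq, mul_assoc, mul_smul, mul_smul,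
      hcb, ← mul_smul, add_add_add_comm, h2, add_zero]
  have h4 : r • (t • x + x) = t • x + x := by
    rw [hz, smul_add, ← mul_smul, ← (hc r hr).eq, mul_smul, hru]
  rw [hw, ← mul_smul, ← (h.cm_of_ne h' hne hb r hr).eq, mul_smul] at h4
  exact (smul_left_cancel_iff b).1 h4

end key

/-- a non-abelian minimal normal subgroup is simple -/
theorem eq_of_fac [Finite H] [Finite V] [Nontrivial V] (hy : Hyp H V) (h2 : ∀ v : V, v + v = 0)
    (h : Fac N S) : S = N := by
  by_contra hSN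
  obtain ⟨g, hg⟩ := h.exists_cj_ne hSN
  have h' := h.conj g
  obtain ⟨u, hu, t, ht, ht1, ht2, htu⟩ := hy.exists_mx_invol h2 h' h hg.symm
  obtain ⟨t', ht', ht1', ht2'⟩ := exists_invol h'
  have hB := fun (v : V) (hv : Mx N v) => hy.exists_invol_move h' hv.1 ht' ht1' ht2'
  have ti : ∀ v : V, Mx N v → ∀ a ∈ S, a * a = 1 → a • v ≠ v → ∀ r ∈ S, r • v = v →
      r • a • v = a • v → r = 1 := fun v hv a ha ha2 hav r hr h3 h4 => by
    obtain ⟨b, hb, hb2, hbv⟩ := hB v hv
    exact hy.key_ti h2 h h' hg hv ha ha2 hav hb hb2 hbv hr h3 h4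
  have fx : ∀ a ∈ S, a * a = 1 → a • u ≠ u → ∀ s ∈ S, s * s = 1 → s • u ≠ u → s • a • u = a • u →
      ∀ r ∈ S, (r • a • u = a • u ↔ r • (s • u + u) = s • u + u) := by
    intro a ha ha2 hau s hs hs2 hsu hsa r hr
    have hv := mx_smul hu a
    have haa : a • a • u = u := by rw [← mul_smul, ha2, one_smul]
    obtain ⟨b, hb, hb2, hbv⟩ := hB _ hv
    have k := fun r hr hra => hy.key_fix h2 h h' hg hv ha ha2 (by rw [haa]; exact hau.symm) hb hb2
      hbv hs (fun h1 => hsu (by rw [h1, one_smul])) hs2 hsa (r := r) hr hra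
    rw [haa] at k
    exact ⟨k r hr, (hy.mx_le h hv (fun h0 => hsu ((add_eq_zero' h2).1 h0)) k).2 r hr⟩
  -- an involution commuting with a non-trivial element of the stabiliser lies in it
  have cm : ∀ z ∈ S, z * z = 1 → ∀ r ∈ S, r ≠ 1 → r • u = u → Commute z r → z • u = u := by
    intro z hz hz2 r hr hr1 hru hc
    by_contra hzu
    exact hr1 (ti u hu z hz hz2 hzu r hr hru (by rw [← mul_smul, ← hc.eq, mul_smul, hru]))
  have odd : ∀ s ∈ S, s * s = 1 → s • u ≠ u → ∀ r ∈ S, r ≠ 1 → r * r = 1 → r • u = u →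
      ∃ m : ℕ, (s * r) ^ (2 * m + 1) = 1 := by
    intro s hs hs2 hsu r hr hr1 hr2 hru
    refine (dihedral hs2 hr2).resolve_right ?_
    rintro ⟨m, h1, h3, h4, h5⟩
    have hz : (s * r) ^ m ∈ S := pow_mem (mul_mem hs hr) m
    exact hsu (cm s hs hs2 _ hz h1 (cm _ hz h3 r hr hr1 hru h5) h4.symm)
  -- the stabiliser has a unique involution
  have uniq : ∀ r ∈ S, r ≠ 1 → r * r = 1 → r • u = u → r = t := by
    intro r hr hr1 hr2 hru
    obtain ⟨a, ha, ha2, hau⟩ := hy.exists_invol_move h hu.1 ht ht1 ht2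
    have haa : ∀ v : V, a • a • v = v := fun v => by rw [← mul_smul, ha2, one_smul]
    have hs : a * t * a ∈ S := mul_mem (mul_mem ha ht) ha
    have hs2 : a * t * a * (a * t * a) = 1 := by
      rw [show a * t * a * (a * t * a) = a * (t * (a * a) * t) * a by group, ha2, mul_one, ht2,
        mul_one, ha2]
    have hsa : (a * t * a) • a • u = a • u := by rw [mul_smul, mul_smul, haa, htu]
    have hsu : (a * t * a) • u ≠ u := fun e => ht1 (by
      have := ti u hu a ha ha2 hau _ hs e hsa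
      calc t = a⁻¹ * (a * t * a) * a⁻¹ := by group
        _ = (a * a)⁻¹ := by rw [this]; group
        _ = 1 := by rw [ha2, inv_one])
    obtain ⟨m, hm⟩ := odd _ hs hs2 hsu r hr hr1 hr2 hru
    obtain ⟨e1, e2⟩ := conj_of_odd hs2 hr2 hm
    set s := a * t * a with hsdef
    set a' := (s * r) ^ m * s
    have ha' : a' ∈ S := mul_mem (pow_mem (mul_mem hs hr) m) hs
    have haa' : ∀ v : V, a' • a' • v = v := fun v => by rw [← mul_smul, e1, one_smul]
    have hau' : a' • u ≠ u := fun e => hsu (by rw [← e2, mul_smul, mul_smul, e, hru, e])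
    have hsa' : s • a' • u = a' • u := by rw [← e2, mul_smul, mul_smul, haa', hru]
    have e3 : (a' * a) • a • u = a • u :=
      hy.selfnorm h (mx_smul hu a).1 hs (fun h1 => hsu (by rw [h1, one_smul])) hsa
        (mul_mem ha' ha) fun x hx => by
          rw [mul_smul, haa, fx a ha ha2 hau s hs hs2 hsu hsa x hx,
            fx a' ha' e1 hau' s hs hs2 hsu hsa' x hx]
    rw [mul_smul, haa] at e3
    have e4 : a * a' = 1 := ti u hu a ha ha2 hau _ (mul_mem ha ha') (by rw [mul_smul, e3, haa])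
      (by rw [mul_smul, ← e3, haa', e3])
    have e5 : a' = a := by
      calc a' = a * (a * a') := by rw [← mul_assoc, ha2, one_mul]
        _ = a := by rw [e4, mul_one]
    rw [e5, hsdef] at e2
    exact mul_left_cancel (mul_right_cancel e2)
  -- `t` is isolated
  have := Fact.mk Nat.prime_two
  have hto : orderOf (⟨t, ht⟩ : S) = 2 := orderOf_eq_prime (Subtype.ext (by
    simpa [pow_two] using ht2)) fun h1 => ht1 (congrArg Subtype.val h1)
  obtain ⟨P, hP⟩ := (IsPGroup.of_card (p := 2) (G := Subgroup.zpowers (⟨t, ht⟩ : S)) (n := 1)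
    (by rw [Nat.card_zpowers, hto, pow_one])).exists_le_sylow
  have htP : (⟨t, ht⟩ : S) ∈ P := hP (Subgroup.mem_zpowers _)
  obtain ⟨K, hK, hKo, hKc⟩ := S0215.result P ⟨t, ht⟩ hto htP fun y hy' => by
    have hs : (y : H) * t * (y : H)⁻¹ ∈ S := (y * ⟨t, ht⟩ * y⁻¹).2
    have hs2 : (y : H) * t * (y : H)⁻¹ * ((y : H) * t * (y : H)⁻¹) = 1 := by
      rw [show (y : H) * t * (y : H)⁻¹ * ((y : H) * t * (y : H)⁻¹) = y * (t * t) * (y : H)⁻¹ by
        group, ht2]; group
    by_cases hsu : ((y : H) * t * (y : H)⁻¹) • u = u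
    · exact Subtype.ext (uniq ((y : H) * t * (y : H)⁻¹) hs (fun h1 => ht1 (by
        calc t = (y : H)⁻¹ * ((y : H) * t * (y : H)⁻¹) * y := by group
          _ = 1 := by rw [h1]; group)) hs2 hsu)
    · exfalso
      obtain ⟨m, hm⟩ := odd _ hs hs2 hsu t ht ht1 ht2 htu
      obtain ⟨k, hk⟩ := P.2 ⟨_, P.1.mul_mem hy' htP⟩
      have hk' : ((y : H) * t * (y : H)⁻¹ * t) ^ 2 ^ k = 1 :=
        congrArg Subtype.val (congrArg Subtype.val hk)
      have h3 : (y : H) * t * (y : H)⁻¹ * t = 1 := by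
        have := pow_gcd_eq_one.2 ⟨hm, hk'⟩
        rwa [(Nat.Coprime.pow_right k (Nat.coprime_two_right.2 (odd_two_mul_add_one m))).gcd_eq_one,
          pow_one] at this
      have h4 : (y : H) * t * (y : H)⁻¹ = t := by
        calc (y : H) * t * (y : H)⁻¹ = (y : H) * t * (y : H)⁻¹ * (t * t) := by rw [ht2, mul_one]
          _ = t := by rw [← mul_assoc, h3, one_mul]
      exact hsu (by rw [h4, htu])
  have := h.simple
  rcases hK.eq_bot_or_eq_top with rfl | rfl
  · refine ht1 (h.eq_one_of_cm ht fun y hy' => ?_)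
    have h3 : t * y * t⁻¹ * y⁻¹ = 1 := congrArg Subtype.val (Subgroup.mem_bot.1 (hKc ⟨y, hy'⟩))
    calc t * y = t * y * t⁻¹ * y⁻¹ * (y * t) := by group
      _ = y * t := by rw [h3, one_mul]
  · have := orderOf_dvd_natCard (⟨t, ht⟩ : S)
    rw [hto] at this
    rw [Subgroup.card_top] at hKo
    exact (Nat.not_even_iff_odd.2 hKo) (even_iff_two_dvd.2 this)

end Hyp

end Cfsg.Agent.Perm.EPA
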