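import Mathlib
import Cfsg.Agent.Perm.PrimUtil

/-!
Manning's theorem for extremely primitive groups.
-/

set_option autoImplicit false

namespace Cfsg.Agent.Perm.ExtPrim

open MulAction PrimUtil

variable {G : Type*} [Group G] [Finite G] {Ω : Type*} [Finite Ω] [MulAction G Ω] [FaithfulSMul G Ω]

/-- Manning: in an extremely primitive group a nontrivial normal subgroup of `G_α` fixes only
`α`. -/
theorem manning (hprim : IsPreprimitive G Ω)
    (hep : ∀ α ω : Ω, IsPreprimitive (stabilizer G α) (orbit (stabilizer G α) ω))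
    {α : Ω} {K : Subgroup G} (hK : K ≠ ⊥) (hKle : K ≤ stabilizer G α)
    (hKn : stabilizer G α ≤ Subgroup.normalizer (K : Set G)) {ω : Ω} (hω : ω ≠ α) :
    ∃ k ∈ K, k • ω ≠ ω := by
  have htr := hprim.toIsPretransitive
  have hne : stabilizer G α ≠ ⊥ := fun h => hK (eq_bot_iff.2 (h ▸ hKle))
  by_contra hcon
  push Not at hcon
  -- `F x` is the fixed point set of the conjugate of `K` attached to the point `x`
  let F : Ω → Set Ω := fun x => {y | ∀ g : G, g • α = x → ∀ k ∈ K, k • g⁻¹ • y = g⁻¹ • y}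
  have hF1 : ∀ (g : G) (y : Ω), (∀ k ∈ K, k • g⁻¹ • y = g⁻¹ • y) → y ∈ F (g • α) := by
    intro g y h g' hg' k hk
    have h1 : g⁻¹ * g' ∈ stabilizer G α := by
      rw [mem_stabilizer_iff, mul_smul, hg', inv_smul_smul]
    have h2 : (g⁻¹ * g') * k * (g⁻¹ * g')⁻¹ ∈ K := (Subgroup.mem_normalizer_iff.1 (hKn h1) k).1 hk
    have h3 := h _ h2
    have h4 := congrArg (fun z => (g'⁻¹ * g) • z) h3
    simpa [mul_smul] using h4
  have hFα : ∀ y, y ∈ F α ↔ ∀ k ∈ K, k • y = y := by
    intro y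
    constructor
    · intro h k hk
      simpa using h 1 (one_smul _ _) k hk
    · intro h
      simpa using hF1 1 y (by simpa using h)
  have hFsm : ∀ (g : G) (x y : Ω), y ∈ F x → g • y ∈ F (g • x) := by
    intro g x y h g' hg' k hk
    have := h (g⁻¹ * g') (by rw [mul_smul, hg', inv_smul_smul]) k hk
    simpa [mul_smul] using this
  have hFsm' : ∀ (g : G) (x y : Ω), g • y ∈ F (g • x) ↔ y ∈ F x := fun g x y =>
    ⟨fun h => by simpa using hFsm g⁻¹ _ _ h, hFsm g x y⟩
  have hαF : α ∈ F α := (hFα α).2 fun k hk => hKle hk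
  have hxF : ∀ x, x ∈ F x := by
    intro x
    obtain ⟨g, rfl⟩ := exists_smul_eq G α x
    exact hFsm g _ _ hαF
  have hωF : ω ∈ F α := (hFα ω).2 hcon
  -- some point is moved by `K`
  have hex : ∃ y, y ∉ F α := by
    by_contra h
    push Not at h
    apply hK
    rw [eq_bot_iff]
    intro k hk
    rw [Subgroup.mem_bot]
    exact eq_of_smul_eq_smul (α := Ω) fun y => by rw [(hFα y).1 (h y) k hk, one_smul]
  obtain ⟨γ, hγ, hmax⟩ := Set.exists_max_image {y | y ∉ F α}
    (fun y => Nat.card (orbit (stabilizer G α) y)) (Set.toFinite _) hex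
  have hγα : γ ≠ α := fun h => hγ (h ▸ hαF)
  -- the maximality property holds for the whole orbit of `γ`
  have step2 : ∀ β ∈ F α, ∀ y, y ∉ F α →
      orbit (stabilizer G α) y ⊆ orbit (stabilizer G β) y := by
    intro β hβ y hy z hz
    obtain ⟨h, hh, rfl⟩ := mem_orbit_subgroup_iff.1 hz
    rw [hFα] at hy
    push Not at hy
    obtain ⟨m, hm, hmy⟩ := hy
    obtain ⟨k, hk, e⟩ := exists_smul_eq_of_primitive_orbit (hep α y) hKle hKn hm hmy hh
    exact mem_orbit_subgroup_iff.2 ⟨k, (hFα β).1 hβ k hk, e⟩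
  have step3 : ∀ β ∈ F α, β ≠ α → ∀ h ∈ stabilizer G α, h • γ ∈ F β := by
    have base : ∀ β ∈ F α, β ≠ α → γ ∈ F β := by
      intro β hβ hβα
      by_contra hγβ
      obtain ⟨g, rfl⟩ := exists_smul_eq G α β
      have h1 : g⁻¹ • γ ∉ F α := fun h => hγβ (by simpa using hFsm g _ _ h)
      have h2 := hmax _ h1
      rw [← card_orbit_stabilizer_smul g, smul_inv_smul] at h2
      have h3 : orbit (stabilizer G α) γ = orbit (stabilizer G (g • α)) γ :=
        Set.eq_of_subset_of_ncard_le (step2 _ hβ γ hγ) h2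
      have h4 : α ∈ orbit (stabilizer G α) γ := by
        refine mem_of_invariant_two hprim hne hβα.symm (orbit (stabilizer G α) γ) ?_ ?_
          (mem_orbit_self γ) α
        · intro a ha x hx
          exact mem_orbit_of_mem_orbit (⟨a, ha⟩ : stabilizer G α) hx
        · intro a ha x hx
          rw [h3] at hx ⊢
          exact mem_orbit_of_mem_orbit (⟨a, ha⟩ : stabilizer G (g • α)) hx
      obtain ⟨h, hh, e⟩ := mem_orbit_subgroup_iff.1 h4
      apply hγα
      rw [← inv_smul_smul h γ, e]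
      exact inv_mem hh
    intro β hβ hβα h hh
    have hh' : h⁻¹ • α = α := inv_mem hh
    have h1 : h⁻¹ • β ∈ F α := hh' ▸ hFsm h⁻¹ _ _ hβ
    have h2 : h⁻¹ • β ≠ α := fun e => hβα (by rw [← smul_inv_smul h β, e]; exact hh)
    simpa using hFsm h _ _ (base _ h1 h2)
  have step4 : ∀ β ∈ F α, α ∈ F β := by
    intro β hβ
    by_cases hβα : β = α
    · rw [hβα]; exact hαF
    let M : Subgroup G := fixingSubgroup G (orbit (stabilizer G α) γ)
    have hM : M ≤ stabilizer G α := by
      refine le_stabilizer_of_normalized_of_fix hprim (γ := γ) ?_ ?_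
      · intro h hh
        have key : ∀ a ∈ stabilizer G α, ∀ m ∈ M, a * m * a⁻¹ ∈ M := by
          intro a ha m hm
          rw [mem_fixingSubgroup_iff] at hm ⊢
          intro y hy
          have := hm (a⁻¹ • y) (mem_orbit_of_mem_orbit (⟨a⁻¹, inv_mem ha⟩ : stabilizer G α) hy)
          rw [mul_smul, mul_smul, this, smul_inv_smul]
        rw [Subgroup.mem_normalizer_iff]
        intro m
        exact ⟨key h hh m, fun hm => by simpa [mul_assoc] using key h⁻¹ (inv_mem hh) _ hm⟩
      · intro m hm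
        exact (mem_fixingSubgroup_iff _).1 hm γ (mem_orbit_self γ)
    intro g hg k hk
    have h1 : g * k * g⁻¹ ∈ M := by
      rw [mem_fixingSubgroup_iff]
      intro y hy
      obtain ⟨h, hh, rfl⟩ := mem_orbit_subgroup_iff.1 hy
      have := step3 β hβ hβα h hh g hg k hk
      rw [mul_smul, mul_smul, this, smul_inv_smul]
    have h2 : (g * k * g⁻¹) • α = α := hM h1
    have h3 := congrArg (fun z => g⁻¹ • z) h2
    simpa [mul_smul] using h3
  have step5 : ∀ x y, y ∈ F x → x ∈ F y := by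
    intro x y h
    obtain ⟨g, rfl⟩ := exists_smul_eq G α x
    have h1 : g⁻¹ • y ∈ F α := by simpa using hFsm g⁻¹ _ _ h
    simpa using hFsm g _ _ (step4 _ h1)
  have hsub : F α \ {α} ⊆ F γ \ {γ} := by
    rintro β ⟨hβ, hβα⟩
    refine ⟨step5 _ _ (by simpa using step3 β hβ hβα 1 (one_mem _)), ?_⟩
    rintro rfl
    exact hγ hβ
  have hcard : (F γ \ {γ}).ncard = (F α \ {α}).ncard := by
    obtain ⟨g, rfl⟩ := exists_smul_eq G α γ
    symm
    refine Set.ncard_congr (fun y _ => g • y) ?_ ?_ ?_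
    · rintro y ⟨h1, h2⟩
      exact ⟨hFsm g _ _ h1, fun e => h2 (MulAction.injective g e)⟩
    · intro a b _ _ e
      exact MulAction.injective g e
    · rintro y ⟨h1, h2⟩
      refine ⟨g⁻¹ • y, ⟨by simpa using hFsm g⁻¹ _ _ h1, fun e => h2 ?_⟩, smul_inv_smul _ _⟩
      rw [Set.mem_singleton_iff] at e ⊢
      rw [← e, smul_inv_smul]
  have heq : F α \ {α} = F γ \ {γ} := Set.eq_of_subset_of_ncard_le hsub hcard.le
  have hinv : ∀ x : Ω, ∀ g ∈ stabilizer G x, ∀ y ∈ F x \ {x}, g • y ∈ F x \ {x} := by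
    rintro x g hg y ⟨h1, h2⟩
    have hg' : g • x = x := hg
    exact ⟨hg' ▸ hFsm g _ _ h1, fun e => h2 (MulAction.injective g (e.trans hg'.symm))⟩
  have := mem_of_invariant_two hprim hne hγα.symm (F α \ {α}) (hinv α) (heq ▸ hinv γ)
    (⟨hωF, hω⟩ : ω ∈ F α \ {α}) α
  exact this.2 rfl

/-- In an extremely primitive group a nontrivial normal subgroup of `G_α` is transitive on each
`G_α`-orbit. -/
theorem exists_smul_eq (hprim : IsPreprimitive G Ω)
    (hep : ∀ α ω : Ω, IsPreprimitive (stabilizer G α) (orbit (stabilizer G α) ω))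
    {α : Ω} {K : Subgroup G} (hK : K ≠ ⊥) (hKle : K ≤ stabilizer G α)
    (hKn : stabilizer G α ≤ Subgroup.normalizer (K : Set G)) (ω : Ω) {h : G}
    (hh : h ∈ stabilizer G α) : ∃ k ∈ K, k • ω = h • ω := by
  by_cases hω : ω = α
  · subst hω
    exact ⟨1, one_mem _, by rw [one_smul]; exact hh.symm⟩
  · obtain ⟨m, hm, hmω⟩ := manning hprim hep hK hKle hKn hω
    exact exists_smul_eq_of_primitive_orbit (hep α ω) hKle hKn hm hmω hh

/-- In an extremely primitive group `G_α` is faithful on each orbit other than `{α}`. -/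
theorem eq_one_of_fix_orbit (hprim : IsPreprimitive G Ω)
    (hep : ∀ α ω : Ω, IsPreprimitive (stabilizer G α) (orbit (stabilizer G α) ω))
    {α ω : Ω} (hω : ω ≠ α) {h : G} (hh : h ∈ stabilizer G α)
    (hfix : ∀ a ∈ stabilizer G α, h • a • ω = a • ω) : h = 1 := by
  let K : Subgroup G := stabilizer G α ⊓ fixingSubgroup G (orbit (stabilizer G α) ω)
  by_contra h1
  have hhK : h ∈ K := by
    refine ⟨hh, (mem_fixingSubgroup_iff _).2 fun y hy => ?_⟩
    obtain ⟨a, ha, rfl⟩ := mem_orbit_subgroup_iff.1 hy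
    exact hfix a ha
  have hK : K ≠ ⊥ := fun e => h1 (by rw [e] at hhK; exact hhK)
  have key : ∀ a ∈ stabilizer G α, ∀ m ∈ K, a * m * a⁻¹ ∈ K := by
    rintro a ha m ⟨hm1, hm⟩
    refine ⟨Subgroup.mul_mem _ (Subgroup.mul_mem _ ha hm1) (Subgroup.inv_mem _ ha), ?_⟩
    have hm' := (mem_fixingSubgroup_iff _).1 hm
    refine (mem_fixingSubgroup_iff _).2 fun y hy => ?_
    have := hm' (a⁻¹ • y) (mem_orbit_of_mem_orbit (⟨a⁻¹, inv_mem ha⟩ : stabilizer G α) hy)
    rw [mul_smul, mul_smul, this, smul_inv_smul]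
  obtain ⟨k, hk, hkω⟩ := manning hprim hep hK inf_le_left (fun a ha => by
    rw [Subgroup.mem_normalizer_iff]
    intro m
    exact ⟨key a ha m, fun hm => by simpa [mul_assoc] using key a⁻¹ (inv_mem ha) _ hm⟩) hω
  exact hkω ((mem_fixingSubgroup_iff _).1 hk.2 ω (mem_orbit_self ω))

end Cfsg.Agent.Perm.ExtPrim
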