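import Mathlib
import Cfsg.Agent.Perm.ExtPrim
import Cfsg.Agent.Perm.Derangement
import Cfsg.Agent.Grp.Fitting
import Cfsg.Agent.Grp.MinNormal

/-! Abelian normal subgroups of the point stabilizer of an extremely primitive group. -/

set_option autoImplicit false
open Cfsg MulAction

namespace Cfsg.Agent.Perm.ExtPrim

variable {G : Type*} [Group G] [Finite G] {Ω : Type*} [Finite Ω] [MulAction G Ω] [FaithfulSMul G Ω]

theorem exists_smul_eq' (hprim : IsPreprimitive G Ω)
    (hep : ∀ α ω : Ω, IsPreprimitive (stabilizer G α) (orbit (stabilizer G α) ω)) {α : Ω}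
    (V : Subgroup (stabilizer G α)) [hVn : V.Normal] (hV : V ≠ ⊥) (ω : Ω) (h : stabilizer G α) :
    ∃ k ∈ V, (k : G) • ω = (h : G) • ω := by
  have h1 : V.map (stabilizer G α).subtype ≠ ⊥ := by
    rwa [Ne, Subgroup.map_eq_bot_iff_of_injective _ (stabilizer G α).subtype_injective]
  have h2 : stabilizer G α ≤ Subgroup.normalizer (V.map (stabilizer G α).subtype : Set G) := by
    intro a ha
    rw [Subgroup.mem_normalizer_iff]
    intro x
    constructor
    · rintro ⟨v, hv, rfl⟩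
      exact ⟨_, hVn.conj_mem v hv ⟨a, ha⟩, rfl⟩
    · rintro ⟨v, hv, e⟩
      refine ⟨_, hVn.conj_mem v hv ⟨a, ha⟩⁻¹, ?_⟩
      simp only [Subgroup.coe_subtype] at e
      simp [e, mul_assoc]
  obtain ⟨k, ⟨v, hv, rfl⟩, e⟩ := exists_smul_eq hprim hep h1 (Subgroup.map_subtype_le V) h2 ω h.2
  exact ⟨v, hv, e⟩

/-- An element of the stabilizer centralizing a non-trivial normal subgroup and fixing a second
point is trivial. -/
theorem eq_one_of_centralizes (hprim : IsPreprimitive G Ω)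
    (hep : ∀ α ω : Ω, IsPreprimitive (stabilizer G α) (orbit (stabilizer G α) ω)) {α : Ω}
    (V : Subgroup (stabilizer G α)) [hVn : V.Normal] (hV : V ≠ ⊥) {ω : Ω} (hω : ω ≠ α)
    {c : stabilizer G α} (hc : ∀ v ∈ V, c * v = v * c) (hfix : (c : G) • ω = ω) : c = 1 := by
  have : (c : G) = 1 := by
    refine eq_one_of_fix_orbit hprim hep hω c.2 fun a ha => ?_
    obtain ⟨k, hk, e⟩ := exists_smul_eq' hprim hep V hV ω ⟨a, ha⟩
    have e2 : (c : G) * k = k * c := congrArg Subtype.val (hc k hk)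
    change (k : G) • ω = a • ω at e
    rw [← e, ← mul_smul, e2, mul_smul, hfix]
  exact Subtype.ext this

theorem centralizer_le_of_comm (hprim : IsPreprimitive G Ω)
    (hep : ∀ α ω : Ω, IsPreprimitive (stabilizer G α) (orbit (stabilizer G α) ω)) {α : Ω}
    (V : Subgroup (stabilizer G α)) [hVn : V.Normal] (hV : V ≠ ⊥)
    (hc : ∀ v ∈ V, ∀ w ∈ V, v * w = w * v) {c : stabilizer G α} (hcV : ∀ v ∈ V, c * v = v * c) :
    c ∈ V := by
  have hH : stabilizer G α ≠ ⊥ := by
    intro h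
    apply hV
    rw [eq_bot_iff]
    intro v _
    have : (v : G) ∈ (⊥ : Subgroup G) := h ▸ v.2
    exact Subgroup.mem_bot.2 (Subtype.ext (Subgroup.mem_bot.1 this))
  obtain ⟨ω, hω⟩ := PrimUtil.nontrivial_of_stabilizer_ne_bot hH
  obtain ⟨k, hk, e⟩ := exists_smul_eq' hprim hep V hV ω c
  have : k⁻¹ * c = 1 := by
    refine eq_one_of_centralizes hprim hep V hV hω (fun v hv => ?_) ?_
    · rw [mul_assoc, hcV v hv, ← mul_assoc, hc _ (V.inv_mem hk) v hv, mul_assoc]
    · rw [Subgroup.coe_mul, mul_smul, ← e, Subgroup.coe_inv, inv_smul_smul]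
  rw [inv_mul_eq_one] at this
  exact this ▸ hk

theorem card_orbit_of_comm (hprim : IsPreprimitive G Ω)
    (hep : ∀ α ω : Ω, IsPreprimitive (stabilizer G α) (orbit (stabilizer G α) ω)) {α : Ω}
    (V : Subgroup (stabilizer G α)) [hVn : V.Normal] (hV : V ≠ ⊥)
    (hc : ∀ v ∈ V, ∀ w ∈ V, v * w = w * v) {ω : Ω} (hω : ω ≠ α) :
    Nat.card (orbit (stabilizer G α) ω) = Nat.card V := by
  symm
  refine Nat.card_congr (Equiv.ofBijective (fun v : V => ⟨((v : stabilizer G α) : G) • ω, ⟨v, rfl⟩⟩) ⟨?_, ?_⟩)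
  · intro v w e
    have e' : ((v : stabilizer G α) : G) • ω = ((w : stabilizer G α) : G) • ω := congrArg Subtype.val e
    have : ((w : stabilizer G α)⁻¹ * v) = 1 := by
      refine eq_one_of_centralizes hprim hep V hV hω
        (fun u hu => hc _ (V.mul_mem (V.inv_mem w.2) v.2) u hu) ?_
      rw [Subgroup.coe_mul, mul_smul, e', Subgroup.coe_inv, inv_smul_smul]
    exact Subtype.ext (inv_mul_eq_one.1 this).symm
  · rintro ⟨x, h, rfl⟩
    obtain ⟨k, hk, e⟩ := exists_smul_eq' hprim hep V hV ω h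
    exact ⟨⟨k, hk⟩, Subtype.ext e⟩

theorem card_dvd_of_comm (hprim : IsPreprimitive G Ω)
    (hep : ∀ α ω : Ω, IsPreprimitive (stabilizer G α) (orbit (stabilizer G α) ω)) {α : Ω}
    (V : Subgroup (stabilizer G α)) [hVn : V.Normal] (hV : V ≠ ⊥)
    (hc : ∀ v ∈ V, ∀ w ∈ V, v * w = w * v) : Nat.card V ∣ Nat.card Ω - 1 := by
  have h := Der.dvd_ncard_of_invariant (stabilizer G α) {α}ᶜ (by
    intro h hh x hx e
    apply hx
    have hh' : h • α = α := hh
    rw [Set.mem_singleton_iff] at e ⊢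
    exact smul_left_cancel h (e.trans hh'.symm)) (Nat.card V) (by
    intro x hx
    rw [← Der.ncard_orbit_subgroup, ← Nat.card_coe_set_eq, card_orbit_of_comm hprim hep V hV hc hx])
  rwa [Set.ncard_compl _ (Set.toFinite _) , Set.ncard_singleton] at h

/-- If the Fitting subgroup of the stabilizer is non-trivial it is elementary abelian, minimal
normal and self-centralizing. -/
theorem fitting_elemAb (hprim : IsPreprimitive G Ω)
    (hep : ∀ α ω : Ω, IsPreprimitive (stabilizer G α) (orbit (stabilizer G α) ω)) {α : Ω}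
    (hF : fittingSubgroup (stabilizer G α) ≠ ⊥) :
    ∃ p : ℕ, p.Prime ∧ (∀ v ∈ fittingSubgroup (stabilizer G α), ∀ w ∈ fittingSubgroup (stabilizer G α),
      v * w = w * v) ∧ ∀ x ∈ fittingSubgroup (stabilizer G α), x ^ p = 1 := by
  set F := fittingSubgroup (stabilizer G α) with hFdef
  haveI : Nontrivial F := (Subgroup.nontrivial_iff_ne_bot F).2 hF
  have hZ : (Subgroup.center F).map F.subtype ≠ ⊥ := by
    rw [Ne, Subgroup.map_eq_bot_iff_of_injective _ F.subtype_injective]
    exact Group.IsNilpotent.center_ne_bot F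
  haveI := Grp.normal_map_subtype_of_characteristic F (Subgroup.center F)
  haveI : Group.IsSolvable ((Subgroup.center F).map F.subtype) := Grp.isSolvable_map _ _
  obtain ⟨p, M, hp, hMn, hM, hMle, hMc, hMp, -, -⟩ :=
    Grp.exists_minNormal_elementaryAbelian_le ((Subgroup.center F).map F.subtype) hZ
  have hMc' : ∀ v ∈ M, ∀ w ∈ M, v * w = w * v := fun v hv w hw =>
    congrArg Subtype.val (hMc.is_comm.comm (⟨v, hv⟩ : M) ⟨w, hw⟩)
  have hFM : F ≤ M := by
    intro c hc
    refine centralizer_le_of_comm hprim hep M hM hMc' fun v hv => ?_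
    obtain ⟨z, hz, rfl⟩ := hMle hv
    exact congrArg Subtype.val (Subgroup.mem_center_iff.1 hz ⟨c, hc⟩)
  exact ⟨p, hp, fun v hv w hw => hMc' v (hFM hv) w (hFM hw), fun x hx => hMp x (hFM hx)⟩

end Cfsg.Agent.Perm.ExtPrim
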