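import Mathlib

/-!
# Products of `p`-elements in alternating groups: enumeration and transfer lemmas
-/

set_option autoImplicit false
set_option linter.unusedSectionVars false
set_option linter.unusedVariables false

namespace Cfsg.Agent.PEltAlt

open Equiv Equiv.Perm Finset MulAction
open scoped commutatorElement

section Good
variable {X Ω : Type*}

/-- `c * W` is not a `p`-element and `⟨c, W⟩` is not solvable. -/
def Good (p : ℕ) {G : Type*} [Group G] (c W : G) : Prop :=
  (∀ k : ℕ, (c * W) ^ p ^ k ≠ 1) ∧ ¬ Group.IsSolvable (Subgroup.closure ({c, W} : Set G))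

theorem Good.of_map {p : ℕ} {G H : Type*} [Group G] [Group H] (f : G →* H) {c W : G}
    (h : Good p (f c) (f W)) : Good p c W := by
  refine ⟨fun k e => h.1 k (by rw [← map_mul, ← map_pow, e, map_one]), fun hs => h.2 ?_⟩
  have e : (Subgroup.closure ({c, W} : Set G)).map f = Subgroup.closure {f c, f W} := by
    rw [MonoidHom.map_closure, Set.image_pair]
  rw [← e]
  exact Group.isSolvable_of_surjective (f.subgroupMap_surjective _)

theorem Good.map {p : ℕ} {G H : Type*} [Group G] [Group H] (f : G →* H)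
    (hf : Function.Injective f) {c W : G} (h : Good p c W) : Good p (f c) (f W) := by
  refine ⟨fun k e => h.1 k (hf (by rw [map_pow, map_mul, e, map_one])), fun hs => h.2 ?_⟩
  have e : (Subgroup.closure ({c, W} : Set G)).map f = Subgroup.closure {f c, f W} := by
    rw [MonoidHom.map_closure, Set.image_pair]
  rw [← e] at hs
  exact Group.isSolvable_of_isSolvable_injective
    (f := (Subgroup.equivMapOfInjective (Subgroup.closure ({c, W} : Set G)) f hf).toMonoidHom)
    (Subgroup.equivMapOfInjective (Subgroup.closure ({c, W} : Set G)) f hf).injective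

theorem Good.symm {p : ℕ} {G : Type*} [Group G] {c W : G} (h : Good p c W) : Good p W c := by
  refine ⟨fun k e => h.1 k ?_, by rw [Set.pair_comm]; exact h.2⟩
  have : c * W = c * (W * c) * c⁻¹ := by group
  rw [this, conj_pow, e]; simp

theorem Good.conj {p : ℕ} {G : Type*} [Group G] {c W : G} (h : Good p c W) (g : G) :
    Good p (g * c * g⁻¹) (g * W * g⁻¹) :=
  h.map (MulAut.conj g).toMonoidHom (MulAut.conj g).injective

/-- Pairs of permutations intertwined by `g`. -/
def Rel (g : X → Ω) : Subgroup (Perm Ω × Perm X) where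
  carrier := {s | ∀ i, s.1 (g i) = g (s.2 i)}
  one_mem' := fun _ => rfl
  mul_mem' := fun {a b} ha hb i => by
    show a.1 (b.1 (g i)) = g (a.2 (b.2 i))
    rw [hb, ha]
  inv_mem' := fun {a} ha i => by
    show a.1⁻¹ (g i) = g (a.2⁻¹ i)
    rw [Perm.inv_eq_iff_eq, ha]; simp

theorem Good.transfer {p : ℕ} {g : X → Ω} (hg : Function.Injective g) {u w : Perm Ω}
    {c W : Perm X} (hu : ∀ i, u (g i) = g (c i)) (hw : ∀ i, w (g i) = g (W i))
    (h : Good p c W) : Good p u w := by
  have h1 : Good p (⟨(u, c), hu⟩ : Rel g) ⟨(w, W), hw⟩ :=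
    Good.of_map ((MonoidHom.snd _ _).comp (Rel g).subtype) h
  refine h1.map ((MonoidHom.fst _ _).comp (Rel g).subtype) fun a b e => ?_
  have e' : a.1.1 = b.1.1 := e
  refine Subtype.ext (Prod.ext e' (Equiv.ext fun i => hg ?_))
  rw [← a.2 i, ← b.2 i, e']

theorem good_of_words {G : Type*} [Group G] {a b : G} (h1 : a * b ≠ 1) (h5 : (a * b) ^ 5 = 1)
    {x y z t : G} (hx : x ∈ Subgroup.closure ({a, b} : Set G))
    (hy : y ∈ Subgroup.closure ({a, b} : Set G)) (hz : z ∈ Subgroup.closure ({a, b} : Set G))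
    (ht : t ∈ Subgroup.closure ({a, b} : Set G)) (ea : a * y * x = x * y) (eb : b * t * z = z * t) :
    Good 3 a b := by
  constructor
  · intro k e
    have := pow_gcd_eq_one.2 ⟨h5, e⟩
    rw [Nat.Coprime.gcd_eq_one (Nat.Coprime.pow_right k (by norm_num)), pow_one] at this
    exact h1 this
  · intro hs
    set H := Subgroup.closure ({a, b} : Set G)
    have hne : H ≠ ⊥ := fun h => by
      have ha : a ∈ H := Subgroup.subset_closure (by simp)
      have hb : b ∈ H := Subgroup.subset_closure (by simp)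
      rw [h, Subgroup.mem_bot] at ha hb
      exact h1 (by rw [ha, hb, one_mul])
    have : Nontrivial H := (Subgroup.nontrivial_iff_ne_bot H).2 hne
    have lt := Group.IsSolvable.commutator_lt_top_of_nontrivial H
    have le : H ≤ ⁅H, H⁆ := by
      refine (Subgroup.closure_le _).2 ?_
      rintro _ (rfl | rfl)
      · have := Subgroup.commutator_mem_commutator hx hy
        rwa [commutatorElement_def, ← ea, mul_inv_cancel_right, mul_inv_cancel_right] at this
      · have := Subgroup.commutator_mem_commutator hz ht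
        rwa [commutatorElement_def, ← eb, mul_inv_cancel_right, mul_inv_cancel_right] at this
    refine lt.ne (Subgroup.map_injective H.subtype_injective ?_)
    rw [Subgroup.map_subtype_commutator, ← MonoidHom.range_eq_map, Subgroup.range_subtype]
    exact le_antisymm (Subgroup.commutator_le.2 fun g hg k hk =>
      mul_mem (mul_mem (mul_mem hg hk) (inv_mem hg)) (inv_mem hk)) le

end Good

section Enum
variable {Ω : Type*} [Fintype Ω] [DecidableEq Ω] {p : ℕ}

theorem per_pos (w : Perm Ω) (x : Ω) : 0 < period w x :=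
  period_pos_of_orderOf_pos (orderOf_pos w) x

theorem per_inj (w : Perm Ω) (x : Ω) {i j : ℕ} (hi : i < period w x) (hj : j < period w x)
    (h : (w ^ i) x = (w ^ j) x) : i = j := by
  wlog hij : i ≤ j generalizing i j
  · exact (this hj hi h.symm (by omega)).symm
  obtain ⟨d, rfl⟩ := Nat.exists_eq_add_of_le hij
  rw [pow_add, mul_apply] at h
  by_contra hd
  exact pow_smul_ne_of_lt_period (m := w) (a := x) (n := d) (by omega) (by omega)
    ((w ^ i).injective h).symm

theorem per_pow (hp : p.Prime) {w : Perm Ω} {k : ℕ} (hw : w ^ p ^ k = 1) (x : Ω) :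
    ∃ i, period w x = p ^ i := by
  obtain ⟨i, -, hi⟩ := (Nat.dvd_prime_pow hp).1
    ((period_dvd_orderOf w x).trans (orderOf_dvd_of_pow_eq_one hw))
  exact ⟨i, hi⟩

theorem per_dvd (hp : p.Prime) {w v : Perm Ω} {k l : ℕ} (hw : w ^ p ^ k = 1) (hv : v ^ p ^ l = 1)
    {x y : Ω} (h : period w x ≤ period v y) : period w x ∣ period v y := by
  obtain ⟨i, hi⟩ := per_pow hp hw x
  obtain ⟨j, hj⟩ := per_pow hp hv y
  rw [hi, hj] at h ⊢
  exact pow_dvd_pow _ ((Nat.pow_le_pow_iff_right hp.one_lt).1 h)

theorem enum_aux (hp : p.Prime) {w : Perm Ω} {k : ℕ} (hw : w ^ p ^ k = 1) (N : ℕ) :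
    ∀ S : Finset Ω, (∀ x, w x ∈ S ↔ x ∈ S) → N ≤ #S → ((∀ x ∈ S, period w x ∣ N) ∨ N = #S) →
    ∀ s ∈ S, (∀ x ∈ S, period w x ≤ period w s) → 0 < N →
    ∃ f : ℕ → Ω, period w s ≤ N ∧ (∀ i < N, f i ∈ S) ∧ (∀ i < N, ∀ j < N, f i = f j → i = j) ∧
      (∀ i < period w s, f i = (w ^ i) s) ∧
      ∀ i < N, ∃ j < N, w (f i) = f j ∧ (j = i + 1 ∨ j = i ∨ (j < i ∧ p ∣ i + 1 - j)) := by
  induction N using Nat.strong_induction_on with | _ N ih => ?_
  intro S hS hN hd s hs hmax h0
  set r := period w s with hr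
  have r0 : 0 < r := per_pos w s
  have pr : (w ^ r) s = s := pow_period_smul w s
  set O := (range r).image fun i => (w ^ i) s with hO
  have memO : ∀ i : ℕ, (w ^ i) s ∈ O := fun i =>
    mem_image.2 ⟨i % r, mem_range.2 (Nat.mod_lt _ r0), pow_mod_period_smul (m := w) (a := s) i⟩
  have cO : #O = r := by
    rw [hO, card_image_of_injOn, card_range]
    intro i hi j hj h
    exact per_inj w s (mem_range.1 hi) (mem_range.1 hj) h
  have inS : ∀ i : ℕ, (w ^ i) s ∈ S := fun i => by
    induction i with
    | zero => exact hs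
    | succ i ih => rw [pow_succ', mul_apply, hS]; exact ih
  have OS : O ⊆ S := fun x hx => by
    obtain ⟨i, -, rfl⟩ := mem_image.1 hx
    exact inS i
  have hO' : ∀ x, w x ∈ O ↔ x ∈ O := fun x => by
    constructor
    · intro h
      obtain ⟨i, -, e⟩ := mem_image.1 h
      have : x = (w ^ (i + (r - 1))) s := w.injective (by
        rw [← mul_apply, ← pow_succ', show i + (r - 1) + 1 = i + r by omega, pow_add, mul_apply,
          pr, e])
      rw [this]; exact memO _
    · intro h
      obtain ⟨i, -, rfl⟩ := mem_image.1 h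
      rw [← mul_apply, ← pow_succ']; exact memO _
  have cS : #(S \ O) = #S - r := by rw [card_sdiff_of_subset OS, cO]
  have rS : r ≤ #S := cO ▸ card_le_card OS
  have rN : r ≤ N := by
    rcases hd with h | h
    · exact Nat.le_of_dvd h0 (h s hs)
    · omega
  obtain ⟨f', f1, f2, f3⟩ : ∃ f : ℕ → Ω, (∀ i < N - r, f i ∈ S \ O) ∧
      (∀ i < N - r, ∀ j < N - r, f i = f j → i = j) ∧
      ∀ i < N - r, ∃ j < N - r, w (f i) = f j ∧ (j = i + 1 ∨ j = i ∨ (j < i ∧ p ∣ i + 1 - j)) := by
    by_cases h : N - r = 0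
    · exact ⟨fun _ => s, by omega, by omega, by omega⟩
    obtain ⟨s', h1, h2⟩ := exists_max_image (S \ O) (period w) (card_pos.1 (by omega))
    obtain ⟨f, -, a, b, -, c⟩ := ih (N - r) (by omega) (S \ O)
      (fun x => by rw [mem_sdiff, mem_sdiff, hS, hO']) (by omega)
      (hd.imp (fun h x hx => Nat.dvd_sub (h x (mem_sdiff.1 hx).1)
        (per_dvd hp hw hw (hmax x (mem_sdiff.1 hx).1))) fun h => by omega) s' h1 h2 (by omega)
    exact ⟨f, a, b, c⟩
  refine ⟨fun i => if i < r then (w ^ i) s else f' (i - r), rN, fun i hi => ?_,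
    fun i hi j hj h => ?_, fun i hi => if_pos hi, fun i hi => ?_⟩
  · by_cases h : i < r
    · simp only [if_pos h]; exact inS i
    · simp only [if_neg h]; exact (mem_sdiff.1 (f1 _ (by omega))).1
  · by_cases h1 : i < r <;> by_cases h2 : j < r <;> simp only [h1, h2, if_true, if_false] at h
    · exact per_inj w s h1 h2 h
    · exact absurd (h ▸ memO i) (mem_sdiff.1 (f1 (j - r) (by omega))).2
    · exact absurd (h ▸ memO j) (mem_sdiff.1 (f1 (i - r) (by omega))).2
    · have := f2 _ (by omega) _ (by omega) h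
      omega
  · by_cases h : i < r
    · by_cases h' : i + 1 < r
      · exact ⟨i + 1, by omega, by simp only [if_pos h, if_pos h']; rw [pow_succ', mul_apply],
          Or.inl rfl⟩
      · have e : i + 1 = r := by omega
        refine ⟨0, h0, by
          simp only [if_pos h, if_pos r0]; rw [← mul_apply, ← pow_succ', e, pr]; rfl, Or.inr ?_⟩
        obtain ⟨m, hm⟩ := per_pow hp hw s
        rcases m with _ | m
        · left; rw [pow_zero] at hm; omega
        · right
          have : 1 < r := by rw [hr, hm]; exact Nat.one_lt_pow (by omega) hp.one_lt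
          refine ⟨by omega, ?_⟩
          rw [Nat.sub_zero, e, hr, hm]; exact dvd_pow_self _ (by omega)
    · obtain ⟨j, j1, j2, j3⟩ := f3 (i - r) (by omega)
      refine ⟨j + r, by omega, by
        simp only [if_neg h, if_neg (show ¬ j + r < r by omega), Nat.add_sub_cancel]; exact j2, ?_⟩
      rcases j3 with h | h | ⟨h1, h2⟩
      · left; omega
      · right; left; omega
      · right; right
        exact ⟨by omega, by rwa [show i + 1 - (j + r) = i - r + 1 - j by omega]⟩

/-- The shape of the index permutation. -/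
def Spec (p : ℕ) {N : ℕ} (W : Perm (ZMod N)) : Prop :=
  ∀ i, (W i).val = i.val + 1 ∨ W i = i ∨ ((W i).val < i.val ∧ p ∣ i.val + 1 - (W i).val)

theorem enum (hp : p.Prime) {w : Perm Ω} {k : ℕ} (hw : w ^ p ^ k = 1) (N : ℕ) [NeZero N]
    (hN : N ≤ Fintype.card Ω) (hd : (∀ x : Ω, period w x ∣ N) ∨ N = Fintype.card Ω) (s : Ω)
    (hs : ∀ x : Ω, period w x ≤ period w s) :
    ∃ (g : ZMod N → Ω) (W : Perm (ZMod N)), Function.Injective g ∧ (∀ i, w (g i) = g (W i)) ∧
      Spec p W ∧ (∀ i : ZMod N, i.val + 1 < period w s → (W i).val = i.val + 1) ∧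
      ∀ i : ZMod N, i.val + 1 = period w s → (W i).val = 0 := by
  obtain ⟨f, f0, -, f2, f3, f4⟩ := enum_aux hp hw N univ (by simp) hN
    (hd.imp (fun h x _ => h x) id) s (mem_univ _) (fun x _ => hs x) (NeZero.pos N)
  choose! J J1 J2 J3 using f4
  have gi : Function.Injective fun i : ZMod N => f i.val := fun i j h =>
    ZMod.val_injective N (f2 _ (ZMod.val_lt i) _ (ZMod.val_lt j) h)
  have v : ∀ i : ZMod N, ((J i.val : ℕ) : ZMod N).val = J i.val := fun i =>
    ZMod.val_cast_of_lt (J1 _ (ZMod.val_lt i))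
  have Wi : Function.Injective fun i : ZMod N => ((J i.val : ℕ) : ZMod N) := fun i j h => by
    have h' : J i.val = J j.val := by rw [← v i, ← v j]; exact congrArg ZMod.val h
    apply gi
    apply w.injective
    rw [J2 _ (ZMod.val_lt i), J2 _ (ZMod.val_lt j), h']
  refine ⟨fun i => f i.val, Equiv.ofBijective _ (Finite.injective_iff_bijective.1 Wi), gi,
    fun i => ?_, fun i => ?_, fun i hi => ?_, fun i hi => ?_⟩
  · simp only [Equiv.ofBijective_apply, v]; exact J2 _ (ZMod.val_lt i)
  · simp only [Equiv.ofBijective_apply, v]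
    rcases J3 _ (ZMod.val_lt i) with h | h | h
    · exact Or.inl h
    · right; left; rw [h, ZMod.natCast_zmod_val]
    · exact Or.inr (Or.inr h)
  · simp only [Equiv.ofBijective_apply, v]
    refine f2 _ (J1 _ (ZMod.val_lt i)) _ (by omega) ?_
    rw [← J2 _ (ZMod.val_lt i), f3 _ (by omega), f3 _ hi, pow_succ', mul_apply]
  · simp only [Equiv.ofBijective_apply, v]
    refine f2 _ (J1 _ (ZMod.val_lt i)) _ (NeZero.pos N) ?_
    rw [← J2 _ (ZMod.val_lt i), f3 _ (by omega), f3 _ (by omega), ← mul_apply, ← pow_succ', hi]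
    exact pow_period_smul w s

end Enum

end Cfsg.Agent.PEltAlt
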