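import Cfsg.Agent.Perm.PEltAlt1

/-!
# Products of `p`-elements in alternating groups: the full cycle case
-/

set_option autoImplicit false
set_option linter.unusedSectionVars false
set_option linter.unusedVariables false

namespace Cfsg.Agent.PEltAlt

open Equiv Equiv.Perm Finset MulAction
open scoped commutatorElement

theorem exists_ab {G : Type*} [Group G] [Group.IsSolvable G] [Nontrivial G] :
    ∃ N : Subgroup G, N.Normal ∧ N ≠ ⊥ ∧ ∀ a ∈ N, ∀ b ∈ N, a * b = b * a := by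
  classical
  have h := (Group.isSolvable_def G).1 inferInstance
  have h0 : Nat.find h ≠ 0 := fun e => by
    have := Nat.find_spec h
    rw [e, derivedSeries_zero] at this
    exact top_ne_bot this
  obtain ⟨m, hm⟩ := Nat.exists_eq_succ_of_ne_zero h0
  refine ⟨derivedSeries G m, inferInstance, Nat.find_min h (by omega), fun a ha b hb => ?_⟩
  have := Nat.find_spec h
  rw [hm, derivedSeries_succ] at this
  have h2 := Subgroup.commutator_mem_commutator ha hb
  rw [this, Subgroup.mem_bot] at h2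
  exact commutatorElement_eq_one_iff_mul_comm.1 h2

variable {p a : ℕ}

theorem good_of_two (hp : p.Prime) (h3 : 3 ≤ p) (ha : 0 < a) [NeZero (p ^ a)]
    {c W : Perm (ZMod (p ^ a))} (hc : ∀ i, c i = i + 1) {x y : ZMod (p ^ a)} (hxy : x ≠ y)
    (hfix : ∀ i, W i + 1 = i ↔ i = x ∨ i = y)
    (hprim : 1 < a → ∃ s : ZMod (p ^ a),
      ¬ (W (s + (p ^ (a - 1) : ℕ))).val ≡ (W s).val [MOD p]) : Good p c W := by
  have : Fact p.Prime := ⟨hp⟩
  have hfix' : ∀ i, (c * W) i = i ↔ i = x ∨ i = y := fun i => by rw [mul_apply, hc, hfix]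
  have hq : p ∣ p ^ a := dvd_pow_self _ ha.ne'
  constructor
  · intro k e
    have h1 := card_compl_support_modEq e
    have h2 : (c * W).supportᶜ = {x, y} := by
      ext i; simp only [mem_compl, notMem_support, hfix', mem_insert, mem_singleton]
    rw [h2, card_pair hxy, ZMod.card] at h1
    have := Nat.le_of_dvd two_pos ((h1.dvd_iff dvd_rfl).2 hq)
    omega
  intro hs
  set H := Subgroup.closure ({c, W} : Set (Perm (ZMod (p ^ a))))
  have cH : c ∈ H := Subgroup.subset_closure (by simp)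
  have WH : W ∈ H := Subgroup.subset_closure (by simp)
  have q1 : 1 < p ^ a := Nat.one_lt_pow ha.ne' hp.one_lt
  have : Fact (1 < p ^ a) := ⟨q1⟩
  have : Nontrivial H := (Subgroup.nontrivial_iff_ne_bot H).2 fun h => by
    rw [h, Subgroup.mem_bot] at cH
    have := hc 0
    rw [cH] at this
    simp at this
  obtain ⟨N, hN, N1, Nab⟩ := exists_ab (G := H)
  have cz : ∀ (d : ℤ) i, (c ^ d) i = i + d := fun d => by
    induction d using Int.induction_on with
    | zero => simp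
    | succ n ih => intro i; rw [zpow_add_one, mul_apply, ih, hc]; push_cast; ring
    | pred n ih =>
      intro i
      have : c⁻¹ i = i - 1 := by rw [Perm.inv_eq_iff_eq, hc]; ring
      rw [zpow_sub_one, mul_apply, ih, this]; push_cast; ring
  -- translation invariance of the orbit relation
  have tr : ∀ (n : H), n ∈ N → ∀ (s t : ZMod (p ^ a)) (d : ℤ), n.1 s = t →
      ∃ m : H, m ∈ N ∧ m.1 (s + d) = t + d := fun n hn s t d e =>
    ⟨_, hN.conj_mem n hn ((⟨c, cH⟩ : H) ^ d), by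
      simp only [Subgroup.coe_mul, Subgroup.coe_inv, SubgroupClass.coe_zpow, mul_apply]
      rw [← zpow_neg, cz, cz]; push_cast
      rw [add_neg_cancel_right, e]⟩
  let D : AddSubgroup ℤ :=
    { carrier := {d | ∃ n : H, n ∈ N ∧ n.1 0 = (d : ZMod (p ^ a))}
      zero_mem' := ⟨1, one_mem _, by simp⟩
      add_mem' := by
        rintro d e ⟨n, hn, h1⟩ ⟨m, hm, h2⟩
        obtain ⟨k, hk, h4⟩ := tr n hn _ _ e h1
        refine ⟨k * m, mul_mem hk hm, ?_⟩
        rw [zero_add] at h4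
        rw [Subgroup.coe_mul, mul_apply, h2, h4]; push_cast; rfl
      neg_mem' := by
        rintro d ⟨n, hn, h1⟩
        obtain ⟨k, hk, h4⟩ := tr n⁻¹ (inv_mem hn) (d : ZMod (p ^ a)) 0 (-d)
          (by rw [Subgroup.coe_inv, Perm.inv_eq_iff_eq, h1])
        refine ⟨k, hk, ?_⟩
        simpa using h4 }
  have rel : ∀ (n : H), n ∈ N → ∀ s t : ZMod (p ^ a), n.1 s = t →
      ((t.val : ℤ) - s.val) ∈ D := fun n hn s t e => by
    obtain ⟨k, hk, h4⟩ := tr n hn _ _ (-(s.val : ℤ)) e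
    refine ⟨k, hk, ?_⟩
    push_cast at h4 ⊢
    rw [ZMod.natCast_zmod_val] at h4 ⊢
    rw [add_neg_cancel] at h4
    rw [h4, ZMod.natCast_zmod_val, sub_eq_add_neg]
  obtain ⟨m, hm⟩ := Int.subgroup_cyclic D
  have memD : ∀ d, d ∈ D ↔ m ∣ d := fun d => by
    rw [hm, AddSubgroup.mem_closure_singleton]
    exact ⟨fun ⟨k, hk⟩ => ⟨k, by rw [← hk, smul_eq_mul, mul_comm]⟩,
      fun ⟨k, hk⟩ => ⟨k, by rw [hk, smul_eq_mul, mul_comm]⟩⟩
  have qD : ((p ^ a : ℕ) : ℤ) ∈ D := ⟨1, one_mem _, by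
    rw [Int.cast_natCast, ZMod.natCast_self]; rfl⟩
  obtain ⟨i, hi, hmi⟩ := (Nat.dvd_prime_pow hp).1 (Int.natAbs_dvd_natAbs.2 ((memD _).1 qD))
  have memD' : ∀ d, d ∈ D ↔ ((p ^ i : ℕ) : ℤ) ∣ d := fun d => by
    rw [memD, ← hmi, Int.natAbs_dvd]
  have ia : i ≠ a := fun e => N1 (by
    rw [eq_bot_iff]
    intro n hn
    rw [Subgroup.mem_bot]
    refine Subtype.ext (Equiv.ext fun s => ?_)
    have := (memD' _).1 (rel n hn s _ rfl)
    rw [e, ← ZMod.intCast_zmod_eq_zero_iff_dvd] at this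
    push_cast at this
    rw [ZMod.natCast_zmod_val, ZMod.natCast_zmod_val, sub_eq_zero] at this
    exact this)
  have i0 : i = 0 := by
    by_contra i0
    obtain ⟨s, hs⟩ := hprim (by omega)
    obtain ⟨n, hn, e⟩ := (memD' ((p ^ (a - 1) : ℕ) : ℤ)).2
      (Int.natCast_dvd_natCast.2 (pow_dvd_pow _ (by omega)))
    obtain ⟨k, hk, e'⟩ := tr n hn _ _ (s.val : ℤ) e
    rw [Int.cast_natCast, Int.cast_natCast, ZMod.natCast_zmod_val, zero_add, add_comm] at e'
    have := (memD' _).1 (rel _ (hN.conj_mem k hk ⟨W, WH⟩) (W s) (W (s + (p ^ (a - 1) : ℕ)))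
      (by simp [e']))
    exact hs ((Nat.modEq_iff_dvd.2
      ((Int.natCast_dvd_natCast.2 (dvd_pow_self p i0)).trans this)).symm)
  have trans : ∀ s t : ZMod (p ^ a), ∃ n : H, n ∈ N ∧ n.1 s = t := fun s t => by
    obtain ⟨n, hn, e⟩ := (memD' ((t.val : ℤ) - s.val)).2 (by simp [i0])
    obtain ⟨k, hk, e'⟩ := tr n hn _ _ (s.val : ℤ) e
    refine ⟨k, hk, ?_⟩
    push_cast at e'
    simpa using e'
  have reg : ∀ n : H, n ∈ N → ∀ s, n.1 s = s → n = 1 := fun n hn s e =>
    Subtype.ext (Equiv.ext fun t => by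
      obtain ⟨k, hk, rfl⟩ := trans s t
      rw [← mul_apply, ← Subgroup.coe_mul, Nab n hn k hk, Subgroup.coe_mul, mul_apply, e]; rfl)
  obtain ⟨n, hn, e⟩ := trans x y
  have vx : (c * W) x = x := (hfix' x).2 (Or.inl rfl)
  have vy : (c * W) y = y := (hfix' y).2 (Or.inr rfl)
  set v : H := ⟨c * W, mul_mem cH WH⟩
  have vx' : (c * W)⁻¹ x = x := by rw [Perm.inv_eq_iff_eq, vx]
  have h1 := reg (n⁻¹ * (v * n * v⁻¹)) (mul_mem (inv_mem hn) (hN.conj_mem n hn v)) x (by
    simp only [Subgroup.coe_mul, Subgroup.coe_inv, v]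
    rw [mul_apply, mul_apply, mul_apply, vx', e, vy, Perm.inv_eq_iff_eq, e])
  have h2 : v * n = n * v := by
    rw [inv_mul_eq_one] at h1
    rw [← mul_inv_eq_iff_eq_mul, ← h1]
  have n1 : n ≠ 1 := fun h => hxy (by rw [← e, h]; rfl)
  have h4 : (c * W) (n.1 y) = n.1 y := by
    have := congrArg (fun g : H => g.1 y) h2
    simp only [Subgroup.coe_mul, v] at this
    rw [mul_apply, Perm.mul_apply n.1, vy] at this
    exact this
  rcases (hfix' _).1 h4 with h | h
  · have h5 := reg (n * n) (mul_mem hn hn) x (by rw [Subgroup.coe_mul, mul_apply, e, h])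
    have : Fact (Nat.Prime 2) := ⟨Nat.prime_two⟩
    obtain ⟨s, hs⟩ := exists_fixed_point_of_prime (p := 2) (n := 1) (σ := n.1) (by
      rw [ZMod.card]
      intro h2
      have := (Nat.prime_dvd_prime_iff_eq Nat.prime_two hp).1 (Nat.prime_two.dvd_of_dvd_pow h2)
      omega) (by rw [pow_one, pow_two, ← Subgroup.coe_mul, h5]; rfl)
    exact n1 (reg n hn s hs)
  · exact n1 (reg n hn y h)

theorem val_swap {N : ℕ} [NeZero N] {i j : ℕ} (hi : i < N) (hj : j < N) (x : ZMod N) :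
    (swap (i : ZMod N) j x).val = if x.val = i then j else if x.val = j then i else x.val := by
  have e : ∀ k < N, x = (k : ZMod N) ↔ x.val = k := fun k hk =>
    ⟨fun h => by rw [h, ZMod.val_cast_of_lt hk], fun h => by rw [← h, ZMod.natCast_zmod_val]⟩
  rw [swap_apply_def]
  simp only [e i hi, e j hj]
  split_ifs
  · exact ZMod.val_cast_of_lt hj
  · exact ZMod.val_cast_of_lt hi
  · rfl

theorem add_one_eq_iff {N : ℕ} [NeZero N] (hN : 1 < N) (x y : ZMod N) :
    x + 1 = y ↔ x.val + 1 = y.val ∨ (x.val + 1 = N ∧ y.val = 0) := by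
  have : Fact (1 < N) := ⟨hN⟩
  rw [← (ZMod.val_injective N).eq_iff, ZMod.val_add, ZMod.val_one]
  have h1 := ZMod.val_lt x
  have h2 := ZMod.val_lt y
  by_cases h : x.val + 1 = N
  · rw [h, Nat.mod_self]; omega
  · rw [Nat.mod_eq_of_lt (by omega)]; omega

theorem eq_cast_iff {N : ℕ} [NeZero N] {k : ℕ} (hk : k < N) (x : ZMod N) :
    x = (k : ZMod N) ↔ x.val = k :=
  ⟨fun h => by rw [h, ZMod.val_cast_of_lt hk], fun h => by rw [← h, ZMod.natCast_zmod_val]⟩

theorem spec_val (hp : p.Prime) (h3 : 3 ≤ p) {N : ℕ} [NeZero N] {W : Perm (ZMod N)}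
    (hW : Spec p W) (i : ZMod N) : (W i).val = i.val + 1 ∨ (W i).val = i.val ∨
      ((W i).val + 2 ≤ i.val ∧ (W i).val + 3 ≠ i.val ∧ p ∣ i.val + 1 - (W i).val) := by
  rcases hW i with h | h | ⟨h1, h2⟩
  · exact Or.inl h
  · right; left; rw [h]
  · right; right
    have := Nat.le_of_dvd (by omega) h2
    refine ⟨by omega, fun h => ?_, h2⟩
    rw [show i.val + 1 - (W i).val = 2 ^ 2 by omega] at h2
    have := (Nat.prime_dvd_prime_iff_eq hp Nat.prime_two).1 (hp.dvd_of_dvd_pow h2)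
    omega

theorem prim_aux (hp : p.Prime) (h3 : 3 ≤ p) {m j : ℕ} (hm : p ∣ m)
    (h : j = 1 + m + 1 ∨ j = 1 + m ∨ (j + 2 ≤ 1 + m ∧ p ∣ 1 + m + 1 - j)) : ¬ p ∣ j := by
  intro hj
  rcases h with h | h | ⟨h1, h2⟩
  · have := Nat.le_of_dvd two_pos ((Nat.dvd_add_right hm).1 (show p ∣ m + 2 by
      rwa [show m + 2 = j by omega]))
    omega
  · have := Nat.le_of_dvd one_pos ((Nat.dvd_add_right hm).1 (show p ∣ m + 1 by
      rwa [show m + 1 = j by omega]))
    omega
  · have := Nat.le_of_dvd two_pos ((Nat.dvd_add_right hm).1 (show p ∣ m + 2 by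
      rw [show m + 2 = 1 + m + 1 - j + j by omega]; exact dvd_add h2 hj))
    omega

theorem mid (hp : p.Prime) (h3 : 3 ≤ p) (ha : 1 < a) [NeZero (p ^ a)] :
    p ∣ p ^ (a - 1) ∧ 3 ≤ p ^ (a - 1) ∧
      (((1 : ℕ) : ZMod (p ^ a)) + (p ^ (a - 1) : ℕ)).val = 1 + p ^ (a - 1) := by
  have h1 : p ∣ p ^ (a - 1) := dvd_pow_self _ (by omega)
  have h2 := Nat.le_of_dvd (pow_pos hp.pos _) h1
  refine ⟨h1, by omega, ?_⟩
  rw [← Nat.cast_add, ZMod.val_cast_of_lt]
  have : p ^ a = p ^ (a - 1) * p := by rw [← pow_succ]; congr 1; omega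
  nlinarith

theorem good_odd (hp : p.Prime) (h3 : 3 ≤ p) (h5 : 5 ≤ p ^ a) [NeZero (p ^ a)]
    {c W : Perm (ZMod (p ^ a))} (hc : ∀ i, c i = i + 1) (hW : Spec p W)
    (h01 : ∀ i, i.val ≤ 1 → (W i).val = i.val + 1) :
    Good p c (swap ((0 : ℕ) : ZMod (p ^ a)) (2 : ℕ) * W * (swap ((0 : ℕ) : ZMod (p ^ a)) (2 : ℕ))⁻¹) := by
  have ha : 0 < a := Nat.pos_of_ne_zero fun h => by rw [h, pow_zero] at h5; omega
  have inj : ∀ k ≤ 1, ∀ i, (W i).val = k + 1 → i.val = k := fun k hk i h => by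
    have e : ((k : ℕ) : ZMod (p ^ a)).val = k := ZMod.val_cast_of_lt (by omega)
    have := W.injective (ZMod.val_injective _ (h.trans (by rw [h01 _ (by omega), e])) :
      W i = W (k : ℕ))
    rw [this, e]
  have v := val_swap (N := p ^ a) (i := 0) (j := 2) (by omega) (by omega)
  refine good_of_two hp h3 ha hc (x := (1 : ℕ)) (y := (2 : ℕ)) ?_ (fun i => ?_) fun h1 => ?_
  · rw [Ne, eq_cast_iff (by omega), ZMod.val_cast_of_lt (by omega)]; omega
  · rw [add_one_eq_iff (by omega), eq_cast_iff (by omega), eq_cast_iff (by omega), swap_inv,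
      mul_apply, mul_apply, v]
    have t := v i
    generalize swap ((0 : ℕ) : ZMod (p ^ a)) (2 : ℕ) i = y at t
    have s1 := spec_val hp h3 hW y
    have s2 := h01 y
    have s3 := inj 0 (by omega) y
    have s4 := inj 1 (by omega) y
    split_ifs at t ⊢ <;> omega
  · obtain ⟨m1, m2, m3⟩ := mid hp h3 h1
    refine ⟨(1 : ℕ), ?_⟩
    rw [swap_inv, mul_apply, mul_apply, mul_apply, mul_apply, v, v]
    have t := v (((1 : ℕ) : ZMod (p ^ a)) + (p ^ (a - 1) : ℕ))
    have t' := v ((1 : ℕ) : ZMod (p ^ a))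
    rw [m3] at t
    rw [ZMod.val_cast_of_lt (by omega)] at t'
    generalize swap ((0 : ℕ) : ZMod (p ^ a)) (2 : ℕ) (((1 : ℕ) : ZMod (p ^ a)) + (p ^ (a - 1) : ℕ))
      = y at t
    generalize swap ((0 : ℕ) : ZMod (p ^ a)) (2 : ℕ) ((1 : ℕ) : ZMod (p ^ a)) = z at t'
    have s1 := spec_val hp h3 hW y
    have s2 := h01 z
    have s4 := inj 1 (by omega) y
    rw [if_neg (by omega), if_neg (by omega)] at t t'
    rw [t] at s1
    have s5 := prim_aux hp h3 m1 (j := (W y).val) (by tauto)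
    rw [if_neg (show ¬ (W y).val = 0 from fun h => s5 (h ▸ dvd_zero p)), if_neg (by omega), if_neg (by omega),
      if_pos (by omega), Nat.modEq_zero_iff_dvd]
    exact s5

theorem good_even (hp : p.Prime) (h3 : 3 ≤ p) (h5 : 5 ≤ p ^ a) [NeZero (p ^ a)]
    {c W : Perm (ZMod (p ^ a))} (hc : ∀ i, c i = i + 1) (hW : Spec p W)
    (h01 : ∀ i, i.val ≤ 3 → (W i).val = i.val + 1) :
    Good p c (swap ((0 : ℕ) : ZMod (p ^ a)) (1 : ℕ) * swap ((2 : ℕ) : ZMod (p ^ a)) (3 : ℕ) * W *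
      (swap ((0 : ℕ) : ZMod (p ^ a)) (1 : ℕ) * swap ((2 : ℕ) : ZMod (p ^ a)) (3 : ℕ))⁻¹) := by
  have ha : 0 < a := Nat.pos_of_ne_zero fun h => by rw [h, pow_zero] at h5; omega
  have inj : ∀ k ≤ 3, ∀ i, (W i).val = k + 1 → i.val = k := fun k hk i h => by
    have e : ((k : ℕ) : ZMod (p ^ a)).val = k := ZMod.val_cast_of_lt (by omega)
    have := W.injective (ZMod.val_injective _ (h.trans (by rw [h01 _ (by omega), e])) :
      W i = W (k : ℕ))
    rw [this, e]
  have v := val_swap (N := p ^ a) (i := 0) (j := 1) (by omega) (by omega)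
  have v' := val_swap (N := p ^ a) (i := 2) (j := 3) (by omega) (by omega)
  generalize hτ : swap ((0 : ℕ) : ZMod (p ^ a)) (1 : ℕ) * swap ((2 : ℕ) : ZMod (p ^ a)) (3 : ℕ) = τ
  have w : ∀ x, (τ x).val = if x.val = 0 then 1 else if x.val = 1 then 0 else if x.val = 2 then 3
      else if x.val = 3 then 2 else x.val := fun x => by
    rw [← hτ, mul_apply, v, v']
    split_ifs <;> first | omega | contradiction
  have ti : τ⁻¹ = τ := by
    refine inv_eq_of_mul_eq_one_right (Equiv.ext fun x => ZMod.val_injective _ ?_)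
    rw [mul_apply, w, w, one_apply]
    split_ifs <;> first | omega | contradiction
  refine good_of_two hp h3 ha hc (x := (1 : ℕ)) (y := (3 : ℕ)) ?_ (fun i => ?_) fun h1 => ?_
  · rw [Ne, eq_cast_iff (by omega), ZMod.val_cast_of_lt (by omega)]; omega
  · rw [add_one_eq_iff (by omega), eq_cast_iff (by omega), eq_cast_iff (by omega), ti,
      mul_apply, mul_apply, w]
    have t := w i
    generalize τ i = y at t
    have s1 := spec_val hp h3 hW y
    have s2 := h01 y
    have s3 := inj 0 (by omega) y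
    have s4 := inj 1 (by omega) y
    have s5 := inj 2 (by omega) y
    have s6 := inj 3 (by omega) y
    split_ifs at t ⊢ <;> omega
  · obtain ⟨m1, m2, m3⟩ := mid hp h3 h1
    refine ⟨(1 : ℕ), ?_⟩
    rw [ti, mul_apply, mul_apply, mul_apply, mul_apply, w, w]
    have t := w (((1 : ℕ) : ZMod (p ^ a)) + (p ^ (a - 1) : ℕ))
    have t' := w ((1 : ℕ) : ZMod (p ^ a))
    rw [m3] at t
    rw [ZMod.val_cast_of_lt (by omega)] at t'
    generalize τ (((1 : ℕ) : ZMod (p ^ a)) + (p ^ (a - 1) : ℕ)) = y at t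
    generalize τ ((1 : ℕ) : ZMod (p ^ a)) = z at t'
    have s1 := spec_val hp h3 hW y
    have s2 := h01 z
    have s3 := inj 0 (by omega) y
    have s4 := inj 1 (by omega) y
    have s6 := inj 2 (by omega) y
    rw [if_neg (by omega), if_neg (by omega), if_neg (by omega), if_neg (by omega)] at t
    rw [if_neg (by omega), if_pos rfl] at t'
    rw [t] at s1
    have s5 := prim_aux hp h3 m1 (j := (W y).val) (by tauto)
    rw [if_neg (show ¬ (W y).val = 0 from fun h => s5 (h ▸ dvd_zero p)), if_neg (by omega), if_neg (by omega),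
      if_neg (by omega), if_neg (by omega), if_pos (by omega), Nat.modEq_zero_iff_dvd]
    exact s5

end Cfsg.Agent.PEltAlt
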