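import Mathlib

/-!
# Permutations of prime order: models, transfer, invariant subsets
-/

set_option autoImplicit false
set_option linter.unusedSectionVars false
set_option linter.unusedVariables false

namespace Cfsg.Agent.PrimeOrd

open Equiv Equiv.Perm Finset

variable {Ω Ω' : Type*} [Fintype Ω] [DecidableEq Ω] [Fintype Ω'] [DecidableEq Ω'] {r : ℕ}

theorem exists_model (hr : r.Prime) {i : ℕ} (h : i * r ≤ Fintype.card Ω) :
    ∃ σ : Perm Ω, σ ^ r = 1 ∧ #σ.support = i * r := by
  have := Fact.mk hr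
  obtain ⟨σ, hσ⟩ := (exists_with_cycleType_iff Ω (m := Multiset.replicate i r)).2
    ⟨by simpa using h, fun a ha => Multiset.eq_of_mem_replicate ha ▸ hr.two_le⟩
  exact ⟨σ, pow_prime_eq_one_iff.2 fun c hc => Multiset.eq_of_mem_replicate (hσ ▸ hc), by
    rw [← sum_cycleType, hσ]; simp⟩

theorem dvd_card_support (hr : r.Prime) {σ : Perm Ω} (h : σ ^ r = 1) : r ∣ #σ.support := by
  have := Fact.mk hr
  rw [← sum_cycleType, cycleType_of_pow_prime_eq_one h, Multiset.sum_replicate, smul_eq_mul]
  exact dvd_mul_left _ _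

theorem isConj_of_card (hr : r.Prime) {s t : Perm Ω} (hs : s ^ r = 1) (ht : t ^ r = 1)
    (h : #s.support = #t.support) : IsConj s t := by
  have := Fact.mk hr
  have e1 := cycleType_of_pow_prime_eq_one hs
  have e2 := cycleType_of_pow_prime_eq_one ht
  rw [← sum_cycleType, ← sum_cycleType, e1, e2, Multiset.sum_replicate, Multiset.sum_replicate,
    smul_eq_mul, smul_eq_mul] at h
  apply isConj_of_cycleType_eq
  rw [e1, e2, Nat.eq_of_mul_eq_mul_right hr.pos h]

theorem transfer (hr : r.Prime) {σ : Perm Ω} {τ : Perm Ω'} (hs : σ ^ r = 1) (ht : τ ^ r = 1)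
    (hc : Fintype.card Ω = Fintype.card Ω') (h : #σ.support = #τ.support) :
    ∃ e : Ω ≃ Ω', ∀ x, e (σ x) = τ (e x) := by
  let e := Fintype.equivOfCardEq hc
  have h1 : (e.symm.permCongr τ) ^ r = 1 := by
    have := map_pow e.symm.permCongrHom τ r
    rw [ht, map_one] at this
    exact this.symm
  have h2 : #(e.symm.permCongr τ).support = #τ.support := by
    refine card_bij (fun x _ => e x) (fun x hx => ?_) (fun _ _ _ _ h => e.injective h)
      fun y hy => ⟨e.symm y, ?_, by simp⟩
    · simpa [Equiv.symm_apply_eq] using hx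
    · simpa using hy
  obtain ⟨g, hg⟩ := isConj_iff.1 (isConj_of_card hr hs h1 (h.trans h2.symm))
  refine ⟨Equiv.trans g e, fun x => ?_⟩
  have := congrArg (fun f : Perm Ω => e (f (g x))) hg
  simpa using this

theorem dvd_card_inter (hr : r.Prime) {σ : Perm Ω} (h : σ ^ r = 1) {B : Finset Ω}
    (hB : ∀ x, σ x ∈ B ↔ x ∈ B) : r ∣ #(B ∩ σ.support) := by
  have h1 : (σ.subtypePerm hB) ^ r = 1 := by
    ext x
    rw [subtypePerm_pow]
    simp [h]
  have h2 : #(σ.subtypePerm hB).support = #(B ∩ σ.support) := by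
    refine card_bij (fun x _ => x.1) (fun x hx => ?_) (fun _ _ _ _ h => Subtype.ext h)
      fun y hy => ⟨⟨y, (mem_inter.1 hy).1⟩, ?_, rfl⟩
    · exact mem_inter.2 ⟨x.2, by simpa [Subtype.ext_iff] using hx⟩
    · simpa [Subtype.ext_iff] using (mem_inter.1 hy).2
  exact h2 ▸ dvd_card_support hr h1

theorem orderOf_eq (hr : r.Prime) {σ : Perm Ω} (h : σ ^ r = 1) (h0 : #σ.support ≠ 0) :
    orderOf σ = r := by
  have := Fact.mk hr
  exact orderOf_eq_prime h fun e => h0 (by simp [e])

theorem inv_iff_of_image {σ : Perm Ω} {s : Finset Ω} (h : s.image σ = s) (x : Ω) :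
    σ x ∈ s ↔ x ∈ s := by
  conv_lhs => rw [← h]
  exact σ.injective.mem_finset_image

/-- Skew products. -/
def skew {B A : Type*} (π : Perm B) (μ : B → Perm A) : Perm (B × A) :=
  Equiv.prodCongr π (Equiv.refl A) * Equiv.prodCongrRight μ

theorem skew_apply {B A : Type*} (π : Perm B) (μ : B → Perm A) (x : B × A) :
    skew π μ x = (π x.1, μ x.1 x.2) := rfl

theorem skew_pow {B A : Type*} {π : Perm B} {μ : B → Perm A} (h : ∀ b, μ (π b) = μ b) (n : ℕ)
    (x : B × A) : (skew π μ ^ n) x = ((π ^ n) x.1, (μ x.1 ^ n) x.2) := by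
  induction n generalizing x with
  | zero => rfl
  | succ n ih => rw [pow_succ, mul_apply, ih, skew_apply, h, pow_succ, pow_succ]; rfl

theorem card_support_skew (π : Perm Ω) (μ : Ω → Perm Ω') :
    #(skew π μ).support = #π.support * Fintype.card Ω' + ∑ b ∈ π.supportᶜ, #(μ b).support := by
  rw [card_eq_sum_card_fiberwise (f := Prod.fst) (t := univ) (by simp),
    ← sum_add_sum_compl π.support]
  congr 1
  · rw [← smul_eq_mul, ← sum_const]
    refine sum_congr rfl fun b hb => ?_
    refine card_bij (fun x _ => x.2) (fun x hx => mem_univ _) (fun x hx y hy h => ?_)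
      fun y hy => ⟨(b, y), ?_, rfl⟩
    · exact Prod.ext ((mem_filter.1 hx).2.trans (mem_filter.1 hy).2.symm) h
    · simp only [mem_filter, mem_support, skew_apply, and_true]
      exact fun h => mem_support.1 hb (congrArg Prod.fst h)
  · refine sum_congr rfl fun b hb => ?_
    have hb' : π b = b := by simpa using hb
    refine card_bij (fun x _ => x.2) (fun x hx => ?_) (fun x hx y hy h => ?_)
      fun y hy => ⟨(b, y), ?_, rfl⟩
    · obtain ⟨h1, rfl⟩ := mem_filter.1 hx
      rw [mem_support] at h1 ⊢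
      exact fun h => h1 (Prod.ext hb' h)
    · exact Prod.ext ((mem_filter.1 hx).2.trans (mem_filter.1 hy).2.symm) h
    · simp only [mem_filter, mem_support, skew_apply, and_true]
      exact fun h => mem_support.1 hy (congrArg Prod.snd h)

theorem exists_distrib {ι : Type*} [DecidableEq ι] (S : Finset ι) (α : ℕ) :
    ∀ d ≤ #S * α, ∃ i : ι → ℕ, (∀ b, i b ≤ α) ∧ ∑ b ∈ S, i b = d := by
  induction S using Finset.induction_on with
  | empty => intro d hd; exact ⟨fun _ => 0, by simp, by simpa using (by simpa using hd : d = 0).symm⟩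
  | insert a S ha ih =>
    intro d hd
    rw [card_insert_of_notMem ha, add_mul, one_mul] at hd
    obtain ⟨i, h1, h2⟩ := ih (d - α) (by omega)
    refine ⟨Function.update i a (min d α), fun b => ?_, ?_⟩
    · by_cases h : b = a
      · simp [h]
      · simp [h, h1]
    · rw [sum_insert ha, Function.update_self, sum_congr rfl fun b hb =>
        Function.update_of_ne (ne_of_mem_of_not_mem hb ha) _ _, h2]
      omega

theorem exists_inv (hr : r.Prime) {σ : Perm Ω} (h : σ ^ r = 1) {c i k : ℕ}
    (hc : #σ.support = c * r) (hi : i ≤ c) (h1 : i * r ≤ k)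
    (h2 : (c - i) * r + k ≤ Fintype.card Ω) : ∃ s : Finset Ω, #s = k ∧ s.image σ = s := by
  obtain ⟨a, a1, a2⟩ := exists_model (Ω := Fin k) hr (i := i) (by simpa using h1)
  obtain ⟨b, b1, b2⟩ := exists_model (Ω := Fin (Fintype.card Ω - k)) hr (i := c - i)
    (by rw [Fintype.card_fin]; omega)
  have h3 : (Equiv.sumCongr a b : Perm _) ^ r = 1 := by
    have := map_pow (Perm.sumCongrHom _ _) (a, b) r
    rw [Prod.pow_mk, a1, b1] at this
    exact this.symm.trans (map_one (Perm.sumCongrHom _ _))
  have h4 : #(support (Equiv.sumCongr a b : Perm _)) = c * r := by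
    have : support (Equiv.sumCongr a b : Perm _) = a.support.disjSum b.support := by
      ext (x | x) <;> simp
    rw [this, card_disjSum, a2, b2, ← add_mul]
    congr 1; omega
  obtain ⟨e, he⟩ := transfer hr h h3 (by simp; omega) (hc.trans h4.symm)
  refine ⟨(univ.map Function.Embedding.inl).map e.symm.toEmbedding, by simp, ?_⟩
  refine eq_of_subset_of_card_le (fun y hy => ?_) (by rw [card_image_of_injective _ σ.injective])
  obtain ⟨x, hx, rfl⟩ := mem_image.1 hy
  rw [mem_map_equiv] at hx ⊢
  obtain ⟨z, -, hz⟩ := mem_map.1 hx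
  simp only [Equiv.symm_symm] at hz ⊢
  rw [he, ← hz]
  simp

end Cfsg.Agent.PrimeOrd
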