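import Mathlib
import Cfsg.Agent.Grp.Card
import Cfsg.Agent.Grp.ConjCount
import Cfsg.Agent.Solv.CoprimeSylow
import Cfsg.Agent.Solv.Coprime2
import Cfsg.Agent.Perm.PrimeDegreeAlt
import Cfsg.Agent.Perm.PrimRel
import Cfsg.Agent.Perm.MultTrans
import Cfsg.Agent.Class.SmallGroupIso
import Cfsg.Agent.S0713

/-!
Primitive groups of even permutations containing a long prime cycle: degree 6 with a 5-cycle,
degree 7 with a 5-cycle, degree 13 with an 11-cycle; groups generated by two elements of prime
order.
-/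

set_option autoImplicit false

namespace Cfsg.Agent.Perm.Twin

open MulAction Equiv Equiv.Perm Subgroup

variable {β : Type*} [Fintype β] [DecidableEq β]

theorem card_support_cycleOf {x : Perm β} {p : ℕ} (hp : p.Prime) (hx : orderOf x = p) {u : β}
    (hu : x u ≠ u) : (x.cycleOf u).support.card = p := by
  have h1 := isCycle_cycleOf x hu
  have h2 := orderOf_cycleOf_dvd_orderOf x u
  rw [hx, h1.orderOf] at h2
  exact ((Nat.dvd_prime hp).1 h2).resolve_left (card_support_ne_one _)

theorem isPreprimitive_fixing {G : Subgroup (Perm β)} {g : Perm β} (hgc : g.IsCycle) (hg : g ∈ G)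
    (hp : g.support.card.Prime) : IsPreprimitive (fixingSubgroup G ((g.support : Set β)ᶜ))
      (SubMulAction.ofFixingSubgroup G ((g.support : Set β)ᶜ)) := by
  classical
  have := isPretransitive_of_isCycle_mem hgc hg
  apply IsPreprimitive.of_prime_card
  convert! hp
  rw [Nat.card_eq_fintype_card, Fintype.card_subtype]
  congr 1
  ext x
  simp [SubMulAction.mem_ofFixingSubgroup_iff]

/-- A transitive group containing a prime cycle longer than half the degree is primitive. -/
theorem isPreprimitive_of_cycle {G : Subgroup (Perm β)} [IsPretransitive G β] {g : Perm β}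
    (hgc : g.IsCycle) (hg : g ∈ G) (hp : g.support.card.Prime)
    (h : Fintype.card β < 2 * g.support.card) : IsPreprimitive G β := by
  have := isPreprimitive_fixing hgc hg hp
  refine IsPreprimitive.of_card_lt
    (f := SubMulAction.ofFixingSubgroup_equivariantMap G ((g.support : Set β)ᶜ)) ?_
  have : Set.range (SubMulAction.ofFixingSubgroup_equivariantMap G ((g.support : Set β)ᶜ)) =
      g.support := by
    ext x
    constructor
    · rintro ⟨⟨y, hy⟩, rfl⟩
      change y ∈ _
      simpa [SubMulAction.mem_ofFixingSubgroup_iff] using hy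
    · intro hx
      exact ⟨⟨x, by simpa [SubMulAction.mem_ofFixingSubgroup_iff] using hx⟩, rfl⟩
  rwa [this, Set.ncard_coe_finset, Nat.card_eq_fintype_card]

theorem multiplyPretransitive {G : Subgroup (Perm β)} (hG : IsPreprimitive G β) {g : Perm β}
    (hgc : g.IsCycle) (hg : g ∈ G) (hp : g.support.card.Prime) {n : ℕ}
    (h : Fintype.card β = g.support.card + (n + 1)) : IsMultiplyPretransitive G β (n + 2) := by
  have h2 := hp.two_le
  have := hG.isMultiplyPreprimitive (s := (g.support : Set β)ᶜ) (n := n) (by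
    rw [← Finset.coe_compl, Set.ncard_coe_finset, Finset.card_compl]; omega)
    (by rw [Nat.card_eq_fintype_card]; omega) (isPreprimitive_fixing hgc hg hp)
  exact IsMultiplyPreprimitive.isMultiplyPretransitive ..

/-- Two elements of prime orders `p < q` without common fixed point on at most `2 p` points
generate a primitive group. -/
theorem isPreprimitive_closure {x y : Perm β} {p q : ℕ} (hp : p.Prime) (hq : q.Prime) (hpq : p < q)
    (hx : orderOf x = p) (hy : orderOf y = q) (hc : Fintype.card β ≤ 2 * p)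
    (hs : ∀ b, x b = b → y b ≠ b) :
    IsPreprimitive (closure ({x, y} : Set (Perm β))) β ∧ y.IsCycle ∧ y.support.card = q := by
  have hyc : y.IsCycle := isCycle_of_prime_order' (hy ▸ hq) (by omega)
  have hyq : y.support.card = q := by rw [← hyc.orderOf, hy]
  set G := closure ({x, y} : Set (Perm β))
  have hxG : x ∈ G := subset_closure (by simp)
  have hyG : y ∈ G := subset_closure (by simp)
  obtain ⟨u, hu, hcyc⟩ := id hyc
  have htr : IsPretransitive G β := by
    rw [isPretransitive_iff_base u]
    intro b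
    by_cases hb : y b = b
    · have hxb : x b ≠ b := fun h => hs b h hb
      have h1 := card_support_cycleOf hp hx hxb
      have h2 : ¬ _root_.Disjoint (x.cycleOf b).support y.support := by
        intro h
        have := Finset.card_le_univ ((x.cycleOf b).support ∪ y.support)
        rw [Finset.card_union_of_disjoint h] at this
        omega
      obtain ⟨w, hw1, hw2⟩ := Finset.not_disjoint_iff.1 h2
      obtain ⟨i, hi⟩ := (mem_support_cycleOf_iff' hxb).1 hw1
      obtain ⟨j, hj⟩ := hcyc (mem_support.1 hw2)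
      refine ⟨⟨(x ^ i)⁻¹ * y ^ j, G.mul_mem (G.inv_mem (G.zpow_mem hxG i)) (G.zpow_mem hyG j)⟩, ?_⟩
      change (x ^ i)⁻¹ ((y ^ j) u) = b
      rw [hj, ← hi]; simp
    · obtain ⟨j, hj⟩ := hcyc hb
      exact ⟨⟨y ^ j, G.zpow_mem hyG j⟩, hj⟩
  exact ⟨isPreprimitive_of_cycle hyc hyG (hyq ▸ hq) (by omega), hyc, hyq⟩

/-- An even permutation commuting with a cycle moving all but at most two points is a power of
the cycle. -/
theorem mem_zpowers_of_commute {g c : Perm β} (hgc : g.IsCycle)
    (h : Fintype.card β ≤ g.support.card + 2) (hc : Commute c g) (hs : sign c = 1)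
    (hgs : sign g = 1) : c ∈ zpowers g := by
  obtain ⟨u, hu, hcyc⟩ := hgc
  have hcu : g (c u) ≠ c u := by
    rw [← Perm.mul_apply, ← hc.eq, Perm.mul_apply]
    exact fun h => hu (c.injective h)
  obtain ⟨k, hk⟩ := hcyc hcu
  set d := (g ^ k)⁻¹ * c with hd
  have h1 : d.support ⊆ g.supportᶜ := by
    intro w hw
    rw [Finset.mem_compl]
    intro hw'
    obtain ⟨l, rfl⟩ := hcyc (mem_support.1 hw')
    have : c ((g ^ l) u) = (g ^ k) ((g ^ l) u) := by
      rw [← Perm.mul_apply, (hc.zpow_right l).eq, Perm.mul_apply, ← hk, ← Perm.mul_apply,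
        ← Perm.mul_apply, ← zpow_add, ← zpow_add, add_comm]
    exact mem_support.1 hw (by rw [hd, Perm.mul_apply, this]; simp)
  have h2 := Finset.card_le_card h1
  rw [Finset.card_compl] at h2
  have h3 : d.support.card ≠ 2 := fun e => by
    have := (card_support_eq_two.1 e).sign_eq
    rw [hd, map_mul, map_inv, map_zpow, hgs, hs] at this
    simp at this
  have h4 := card_support_ne_one d
  have h5 : d = 1 := card_support_eq_zero.1 (by omega)
  rw [hd, inv_mul_eq_one] at h5
  exact ⟨k, h5⟩

theorem sign_eq_one_of_odd {g : Perm β} (h : Odd (orderOf g)) : sign g = 1 := by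
  have h2 : sign g ^ orderOf g = 1 := by rw [← map_pow, pow_orderOf_eq_one, map_one]
  rcases Int.units_eq_one_or (sign g) with h1 | h1
  · exact h1
  · rw [h1, h.neg_one_pow] at h2
    exact absurd h2 (by decide)

theorem card_dvd_index_factorial (h5 : 5 ≤ Fintype.card β) {G : Subgroup (Perm β)}
    (hne : ¬ alternatingGroup β ≤ G) :
    Nat.card (alternatingGroup β) ∣ (G.relIndex (alternatingGroup β)).factorial := by
  have := alternatingGroup.isSimpleGroup (α := β) (by rwa [Nat.card_eq_fintype_card])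
  refine Class.SmallIso.card_dvd_factorial_of_core ?_
  rcases (G.subgroupOf (alternatingGroup β)).normalCore_normal.eq_bot_or_eq_top with e | e
  · exact e
  · exact absurd (subgroupOf_eq_top.1 (top_le_iff.1 (e ▸ normalCore_le _))) hne

theorem card_alt {n : ℕ} (h : Fintype.card β = n) (h2 : 2 ≤ n) :
    Nat.card (alternatingGroup β) = n.factorial / 2 := by
  have : Nontrivial β := Fintype.one_lt_card_iff_nontrivial.1 (by omega)
  rw [nat_card_alternatingGroup, Nat.card_eq_fintype_card, h]

/-- Degree 7. -/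
theorem alt_le_of_seven (h : Fintype.card β = 7) {G : Subgroup (Perm β)}
    (hG : IsPreprimitive G β) (hA : G ≤ alternatingGroup β) {g : Perm β} (hgc : g.IsCycle)
    (hgp : g.support.card = 5) (hg : g ∈ G) : alternatingGroup β ≤ G := by
  by_contra hne
  have h3 := multiplyPretransitive hG hgc hg (by rw [hgp]; norm_num) (n := 1) (by omega)
  have h1 := descFactorial_dvd_card G β 3 h3 (by rw [Nat.card_eq_fintype_card]; omega)
  have h2 := card_dvd_index_factorial (by omega) hne
  have h4 := Grp.card_mul_relIndex hA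
  rw [card_alt h (by norm_num)] at h2 h4
  rw [Nat.card_eq_fintype_card, h] at h1
  obtain ⟨k, hk⟩ := h1
  have : Fact (Nat.Prime 7) := ⟨by norm_num⟩
  obtain ⟨P⟩ : Nonempty (Sylow 7 G) := inferInstance
  have hΩ : Nat.card β = 7 := by rw [Nat.card_eq_fintype_card, h]
  have hodd := odd_card_normalizer_of_le_alternatingGroup (p := 7) rfl hΩ G hA P
  obtain ⟨d, n, hd, hn, hc, hN, -, -⟩ := card_eq_of_prime_degree hΩ P
  rw [hN, Nat.odd_iff] at hodd
  generalize G.relIndex (alternatingGroup β) = i at *
  have e1 : Nat.descFactorial 7 3 = 210 := by decide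
  have e2 : Nat.factorial 7 / 2 = 2520 := by decide
  rw [e1] at hk
  rw [e2] at h2 h4
  have h5 : k * i = 12 := by rw [hk] at h4; nlinarith
  have h6 : i ≤ 12 := Nat.le_of_dvd (by norm_num) ⟨k, by rw [← h5, mul_comm]⟩
  have h7 := Nat.le_of_dvd (by norm_num) hd
  interval_cases i <;> first | omega | (simp [Nat.factorial] at h2)
  interval_cases d <;> omega

theorem orderOf_ne_of_six (h : Fintype.card β = 6) {g : Perm β} (hs : sign g = 1) :
    orderOf g ≠ 6 ∧ orderOf g ≠ 10 ∧ orderOf g ≠ 15 := by
  have key : ∀ r : ℕ, r.Prime → r ≠ 5 → orderOf g ≠ r * 5 := by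
    intro r hr hr5 e
    have h1 : orderOf (g ^ r) = 5 := by
      rw [orderOf_pow_of_dvd hr.ne_zero ⟨5, e⟩, e, Nat.mul_div_cancel_left _ hr.pos]
    have h2 : orderOf (g ^ 5) = r := by
      rw [orderOf_pow_of_dvd (by norm_num) ⟨r, by rw [e, mul_comm]⟩, e,
        Nat.mul_div_cancel _ (by norm_num)]
    have h3 : (g ^ r).IsCycle := isCycle_of_prime_order' (by rw [h1]; norm_num) (by omega)
    have h4 := mem_zpowers_of_commute h3 (by rw [← h3.orderOf]; omega)
      ((Commute.refl g).pow_pow 5 r) (by simp [hs]) (by simp [hs])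
    have h5 := orderOf_dvd_of_mem_zpowers h4
    rw [h1, h2] at h5
    exact hr5 ((Nat.prime_dvd_prime_iff_eq hr (by norm_num)).1 h5)
  refine ⟨fun e => ?_, key 2 Nat.prime_two (by norm_num), key 3 Nat.prime_three (by norm_num)⟩
  have h1 := sign_of_cycleType g
  have h2 := sum_cycleType_le g
  have h3 := lcm_cycleType g
  have h4 : ∀ n ∈ g.cycleType, 2 ≤ n ∧ n ∣ 6 := fun n hn =>
    ⟨two_le_of_mem_cycleType hn, e ▸ dvd_of_mem_cycleType hn⟩
  rw [e] at h3
  rw [h] at h2
  rw [hs] at h1
  generalize g.cycleType = s at *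
  have hz : ∀ t : Multiset ℕ, (∀ n ∈ t, 2 ≤ n) → t.sum ≤ 1 → t = 0 := by
    intro t ht h
    by_contra h0
    obtain ⟨n, hn⟩ := Multiset.exists_mem_of_ne_zero h0
    have := Multiset.le_sum_of_mem hn
    have := ht n hn
    omega
  have hodd : s.sum + s.card = 7 := by
    by_cases h6 : 6 ∈ s
    · obtain ⟨t, rfl⟩ := Multiset.exists_cons_of_mem h6
      rw [Multiset.sum_cons] at h2
      rw [hz t (fun n hn => (h4 n (Multiset.mem_cons_of_mem hn)).1) (by omega)]
      rfl
    have h5 : ∀ n ∈ s, n = 2 ∨ n = 3 := by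
      intro n hn
      obtain ⟨a, b⟩ := h4 n hn
      have := Nat.le_of_dvd (by norm_num) b
      have : n ≠ 6 := fun e => h6 (e ▸ hn)
      interval_cases n <;> omega
    have h7 : 2 ∈ s := by
      by_contra h7
      have : s.lcm ∣ 3 := Multiset.lcm_dvd.2 fun n hn => by
        rw [(h5 n hn).resolve_left fun e => h7 (e ▸ hn)]
      rw [h3] at this
      omega
    have h8 : 3 ∈ s := by
      by_contra h8
      have : s.lcm ∣ 2 := Multiset.lcm_dvd.2 fun n hn => by
        rw [(h5 n hn).resolve_right fun e => h8 (e ▸ hn)]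
      rw [h3] at this
      omega
    obtain ⟨t, rfl⟩ := Multiset.exists_cons_of_mem h7
    obtain ⟨t, rfl⟩ := Multiset.exists_cons_of_mem ((Multiset.mem_cons.1 h8).resolve_left (by omega))
    rw [Multiset.sum_cons, Multiset.sum_cons] at h2
    rw [hz t (fun n hn => (h4 n (Multiset.mem_cons_of_mem (Multiset.mem_cons_of_mem hn))).1)
      (by omega)]
    rfl
  rw [hodd] at h1
  exact absurd h1 (by decide)

/-- Degree 6. -/
theorem alt_le_or_of_six (h : Fintype.card β = 6) {G : Subgroup (Perm β)}
    (hG : IsPreprimitive G β) (hA : G ≤ alternatingGroup β) {g : Perm β} (hgc : g.IsCycle)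
    (hgp : g.support.card = 5) (hg : g ∈ G) :
    alternatingGroup β ≤ G ∨ Nonempty (G ≃* alternatingGroup (Fin 5)) := by
  rw [or_iff_not_imp_left]
  intro hne
  have h3 := multiplyPretransitive hG hgc hg (by rw [hgp]; norm_num) (n := 0) (by omega)
  have h1 := descFactorial_dvd_card G β 2 h3 (by rw [Nat.card_eq_fintype_card]; omega)
  have h2 := card_dvd_index_factorial (by omega) hne
  have h4 := Grp.card_mul_relIndex hA
  rw [card_alt h (by norm_num)] at h2 h4
  rw [Nat.card_eq_fintype_card, h] at h1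
  obtain ⟨k, hk⟩ := h1
  have h30 : Nat.card G ≠ 30 := by
    intro e
    obtain ⟨P⟩ : Nonempty (Sylow 2 G) := inferInstance
    have hP : Nat.card P = 2 := by
      rw [P.card_eq_multiplicity, e, show 30 = 2 * 15 from rfl,
        Nat.factorization_mul (by norm_num) (by norm_num)]
      simp [Nat.factorization_eq_zero_of_not_dvd, Nat.prime_two.factorization]
    have hcyc : IsCyclic P := isCyclic_of_prime_card hP
    obtain ⟨K, hKn, hc⟩ : ∃ K : Subgroup G, K.Normal ∧ K.IsComplement' P :=
      ⟨_, inferInstance, IsCyclic.isComplement' (p := 2) (by rw [e]; norm_num) hcyc⟩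
    replace hc := hc.card_mul_card
    rw [hP, e] at hc
    have hK : IsPretransitive K β := by
      apply IsQuasiPreprimitive.isPretransitive_of_normal
      intro h'
      have : K = ⊥ := by
        rw [eq_bot_iff]
        intro x hx
        have h5 : ∀ b : β, x • b = b := fun b =>
          (h' ▸ Set.mem_univ b : b ∈ fixedPoints K β) ⟨x, hx⟩
        exact Subtype.ext (Equiv.ext h5)
      rw [this] at hc
      simp at hc
    have : Nonempty β := Fintype.card_pos_iff.1 (by omega)
    have h5 := card_dvd_of_isPretransitive K β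
    rw [Nat.card_eq_fintype_card, h] at h5
    omega
  have h60 : Nat.card G = 60 := by
    generalize G.relIndex (alternatingGroup β) = i at *
    have e1 : Nat.descFactorial 6 2 = 30 := by decide
    have e2 : Nat.factorial 6 / 2 = 360 := by decide
    rw [e1] at hk
    rw [e2] at h2 h4
    have h5 : k * i = 12 := by rw [hk] at h4; nlinarith
    have h6 : i ≤ 12 := Nat.le_of_dvd (by norm_num) ⟨k, by rw [← h5, mul_comm]⟩
    interval_cases i <;> first | omega | (simp [Nat.factorial] at h2)
  have ho : ∀ x : G, orderOf x ≠ 6 ∧ orderOf x ≠ 10 ∧ orderOf x ≠ 15 := fun x => by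
    rw [← Subgroup.orderOf_coe]
    exact orderOf_ne_of_six h (mem_alternatingGroup.1 (hA x.2))
  have := Class.SmallIso.simple_of_orders h60 (fun x => (ho x).1) (fun x => (ho x).2.1)
    (fun x => (ho x).2.2)
  exact Class.SmallIso.alt5_of_simple h60

theorem pow_ten_apply {z c : Perm β} (hz : orderOf z = 5) (hs : z.support.card ≤ 10)
    (hc : Commute c z) {u : β} (hu : z u ≠ u) : (c ^ 10) u = u := by
  have key : ∀ d : Perm β, Commute d z → z.SameCycle u (d u) → (d ^ 5) u = u := by
    rintro d hd ⟨k, hk⟩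
    have h1 : ∀ n : ℕ, (d ^ n) u = ((z ^ k) ^ n) u := by
      intro n
      induction n with
      | zero => simp
      | succ n ih =>
        rw [pow_succ', Perm.mul_apply, ih, ← Perm.mul_apply, ((hd.zpow_right k).pow_right n).eq,
          Perm.mul_apply, ← hk, pow_succ, Perm.mul_apply]
    rw [h1, ← zpow_natCast, ← zpow_mul, mul_comm, zpow_mul, zpow_natCast, ← hz,
      pow_orderOf_eq_one, one_zpow, Perm.one_apply]
  have hmove : ∀ v, z v ≠ v → z (c v) ≠ c v := fun v hv h => by
    rw [← Perm.mul_apply, ← hc.eq, Perm.mul_apply] at h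
    exact hv (c.injective h)
  by_cases h1 : z.SameCycle u (c u)
  · rw [show 10 = 5 + 5 from rfl, pow_add, Perm.mul_apply, key c hc h1, key c hc h1]
  rw [show 10 = 2 * 5 from rfl, pow_mul]
  refine key _ (hc.pow_left 2) ?_
  have h2 := card_support_cycleOf Nat.prime_five hz hu
  have h3 := card_support_cycleOf Nat.prime_five hz (hmove u hu)
  have h4 : _root_.Disjoint (z.cycleOf u).support (z.cycleOf (c u)).support := by
    rw [Finset.disjoint_left]
    intro w hw hw'
    exact h1 (((mem_support_cycleOf_iff' hu).1 hw).trans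
      ((mem_support_cycleOf_iff' (hmove u hu)).1 hw').symm)
  have h5 : (z.cycleOf u).support ∪ (z.cycleOf (c u)).support = z.support :=
    Finset.eq_of_subset_of_card_le (Finset.union_subset (support_cycleOf_le z u)
      (support_cycleOf_le z _)) (by rw [Finset.card_union_of_disjoint h4]; omega)
  have h6 : c (c u) ∈ (z.cycleOf u).support ∪ (z.cycleOf (c u)).support :=
    h5 ▸ mem_support.2 (hmove _ (hmove u hu))
  rcases Finset.mem_union.1 h6 with h | h
  · exact (mem_support_cycleOf_iff' hu).1 h
  · obtain ⟨k, hk⟩ := (mem_support_cycleOf_iff' (hmove u hu)).1 h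
    rw [← Perm.mul_apply, ← (hc.zpow_right k).eq, Perm.mul_apply] at hk
    exact absurd ⟨k, c.injective hk⟩ h1

theorem card_range_normalizerMonoidHom_dvd {G : Type*} [Group G] [Finite G] (P : Subgroup G) {p : ℕ}
    (hp : p.Prime) (hP : Nat.card P = p) : Nat.card P.normalizerMonoidHom.range ∣ p - 1 := by
  have := Fact.mk hp
  have hcyc : IsCyclic P := isCyclic_of_prime_card hP
  have h1 := Subgroup.card_subgroup_dvd_card P.normalizerMonoidHom.range
  rwa [IsCyclic.card_mulAut, hP, Nat.totient_prime hp] at h1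

/-- Degree 13, order divisible by 5. -/
theorem alt_le_of_thirteen_of_five (h : Fintype.card β = 13) {G : Subgroup (Perm β)}
    (hG : IsPreprimitive G β) (h3 : IsMultiplyPretransitive G β 3) (h5 : 5 ∣ Nat.card G) :
    alternatingGroup β ≤ G := by
  by_contra hne
  have : Fact (Nat.Prime 5) := ⟨Nat.prime_five⟩
  have no5 : ∀ w ∈ G, orderOf w = 5 → 10 ≤ w.support.card := by
    intro w hw ho
    by_contra hlt
    have hc : w.IsCycle := isCycle_of_prime_order (ho ▸ Nat.prime_five) (by omega)
    exact hne (S0713.result G hG Nat.prime_five (by omega) (by omega) hc (by rw [← hc.orderOf, ho]) hw)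
  have h25 : ¬ 5 ^ 2 ∣ Nat.card G := by
    intro h25
    obtain ⟨R, hR⟩ := Sylow.exists_subgroup_card_pow_prime 5 h25
    have hcomm := IsPGroup.isMulCommutative_of_card_eq_prime_sq hR
    obtain ⟨r, hr⟩ := exists_prime_orderOf_dvd_card' (G := R) 5 (by rw [hR]; norm_num)
    have hr' : orderOf ((r : G) : Perm β) = 5 := by rw [orderOf_coe, orderOf_coe, hr]
    obtain ⟨u, hu⟩ : ∃ u, ((r : G) : Perm β) u ≠ u := by
      by_contra hh
      push Not at hh
      rw [show ((r : G) : Perm β) = 1 from Equiv.ext hh] at hr'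
      simp at hr'
    have h1 : 5 ∣ Nat.card (stabilizer R u) := by
      have h1 := (stabilizer R u).card_mul_index
      have h2 : (stabilizer R u).index ≤ 13 := by
        rw [index_stabilizer, ← h, ← Nat.card_eq_fintype_card]
        exact Set.ncard_le_card _
      by_contra h4
      have h6 : (Nat.card (stabilizer R u)).Coprime (5 ^ 2) :=
        ((Nat.Prime.coprime_iff_not_dvd Nat.prime_five).2 h4).symm.pow_right 2
      have h7 := Nat.eq_one_of_dvd_coprimes h6 dvd_rfl ⟨_, (h1.trans hR).symm⟩
      rw [h7, hR] at h1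
      omega
    obtain ⟨w, hw⟩ := exists_prime_orderOf_dvd_card' 5 h1
    have hw' : orderOf (((w : R) : G) : Perm β) = 5 := by
      rw [orderOf_coe, orderOf_coe, orderOf_coe, hw]
    have h2 := no5 _ ((w : R) : G).2 hw'
    have hcw : Commute (((w : R) : G) : Perm β) ((r : G) : Perm β) :=
      congrArg (fun x : R => ((x : G) : Perm β)) (mul_comm' (w : R) r)
    have h4 : _root_.Disjoint (((w : R) : G) : Perm β).support
        (((r : G) : Perm β).cycleOf u).support := by
      rw [Finset.disjoint_right]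
      intro v hv hv'
      obtain ⟨k, rfl⟩ := (mem_support_cycleOf_iff' hu).1 hv
      have hwu : (((w : R) : G) : Perm β) u = u := w.2
      exact mem_support.1 hv' (by
        rw [← Perm.mul_apply, (hcw.zpow_right k).eq, Perm.mul_apply, hwu])
    have h6 := Finset.card_le_univ ((((w : R) : G) : Perm β).support ∪
      (((r : G) : Perm β).cycleOf u).support)
    rw [Finset.card_union_of_disjoint h4, card_support_cycleOf Nat.prime_five hr' hu] at h6
    omega
  obtain ⟨z, hz⟩ := exists_prime_orderOf_dvd_card' 5 h5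
  have hz' : orderOf (z : Perm β) = 5 := by rw [orderOf_coe, hz]
  have hzs : (z : Perm β).support.card = 10 := by
    obtain ⟨n, hn⟩ := cycleType_prime_order (σ := (z : Perm β)) (hz' ▸ Nat.prime_five)
    have h1 := sum_cycleType (z : Perm β)
    rw [hn, Multiset.sum_replicate, hz', smul_eq_mul] at h1
    have h2 := no5 _ z.2 hz'
    have h4 := Finset.card_le_univ (z : Perm β).support
    omega
  set Γ : Finset β := (z : Perm β).supportᶜ with hΓ
  have hΓc : Γ.card = 3 := by rw [hΓ, Finset.card_compl]; omega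
  obtain ⟨a, b, c, hab, hac, hbc, habc⟩ := Finset.card_eq_three.1 hΓc
  set τ : Perm β := swap a b * swap a c with hτ
  have hτ3 : τ.IsThreeCycle := isThreeCycle_swap_mul_swap_same hab hac hbc
  have hτs : τ.support = Γ := by
    refine Finset.eq_of_subset_of_card_le (fun w hw => ?_) (by rw [hτ3.card_support, hΓc])
    by_contra hw'
    rw [habc] at hw'
    simp only [Finset.mem_insert, Finset.mem_singleton, not_or] at hw'
    exact mem_support.1 hw (by
      rw [hτ, Perm.mul_apply, swap_apply_of_ne_of_ne hw'.1 hw'.2.2,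
        swap_apply_of_ne_of_ne hw'.1 hw'.2.1])
  have hτΓ : ∀ w ∈ Γ, τ w ∈ Γ := fun w hw => by
    rw [← hτs] at hw ⊢; exact apply_mem_support.2 hw
  have hfix : ∀ w ∈ Γ, (z : Perm β) w = w := fun w hw => by simpa [hΓ] using hw
  have hPK : zpowers z ≤ fixingSubgroup G (Γ : Set β) :=
    zpowers_le.2 ((mem_fixingSubgroup_iff G).2 hfix)
  have hPc : Nat.card (zpowers z) = 5 := by rw [Nat.card_zpowers, hz]
  obtain ⟨g₀, hg₀⟩ := exists_smul_eq_of_injOn h3 Γ hΓc τ τ.injective.injOn
  obtain ⟨n, hn, hnτ⟩ := exists_normalizer_agree (p := 5) (Γ : Set β) (zpowers z)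
    (IsPGroup.of_card (n := 1) (by rw [hPc, pow_one])) hPK (fun h' => h25 (by
      have h1 := Grp.card_mul_relIndex hPK
      rw [hPc] at h1
      refine Dvd.dvd.trans ?_ (Subgroup.card_subgroup_dvd_card (fixingSubgroup G (Γ : Set β)))
      rw [← h1, sq]
      exact Nat.mul_dvd_mul_left 5 h')) g₀ (fun w hw u hu => by
      rw [hg₀ w hw]
      exact (mem_fixingSubgroup_iff G).1 (hPK hu) _ (hτΓ w hw))
  have hnτ' : ∀ w ∈ Γ, (n : Perm β) w = τ w := fun w hw => (hnτ w hw).trans (hg₀ w hw)
  have hc : Commute ((n : Perm β) ^ 4) z := by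
    have h1 := card_range_normalizerMonoidHom_dvd (zpowers z) Nat.prime_five hPc
    have h2 : (zpowers z).normalizerMonoidHom (⟨n, hn⟩ ^ 4) = 1 := by
      rw [map_pow]
      exact orderOf_dvd_iff_pow_eq_one.1 ((Subgroup.orderOf_dvd_natCard _
        (MonoidHom.mem_range.2 ⟨_, rfl⟩)).trans h1)
    have h4 := congrArg (fun f : MulAut (zpowers z) =>
      (((f ⟨z, mem_zpowers z⟩ : zpowers z) : G) : Perm β)) h2
    exact mul_inv_eq_iff_eq_mul.1 h4
  have h40 : (n : Perm β) ^ 40 = τ := by
    ext w
    by_cases hw : w ∈ Γ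
    · have h1 : ∀ k : ℕ, ((n : Perm β) ^ k) w = (τ ^ k) w ∧ (τ ^ k) w ∈ Γ := by
        intro k
        induction k with
        | zero => exact ⟨rfl, hw⟩
        | succ k ih =>
          rw [pow_succ', pow_succ', Perm.mul_apply, Perm.mul_apply, ih.1, hnτ' _ ih.2]
          exact ⟨rfl, hτΓ _ ih.2⟩
      rw [(h1 40).1, ← pow_mod_orderOf, hτ3.orderOf]
      rfl
    · rw [show 40 = 4 * 10 from rfl, pow_mul, pow_ten_apply hz' hzs.le hc (by simpa [hΓ] using hw)]
      rw [← hτs] at hw
      exact (notMem_support.1 hw).symm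
  exact hne (alternatingGroup_le_of_isPreprimitive_of_isThreeCycle_mem hG hτ3
    (h40 ▸ G.pow_mem n.2 40))

/-- Degree 13. -/
theorem alt_le_of_thirteen (h : Fintype.card β = 13) {G : Subgroup (Perm β)}
    (hG : IsPreprimitive G β) (hA : G ≤ alternatingGroup β) {g : Perm β} (hgc : g.IsCycle)
    (hgp : g.support.card = 11) (hg : g ∈ G) : alternatingGroup β ≤ G := by
  have h11 : Nat.Prime 11 := by norm_num
  have := Fact.mk h11
  have h3 := multiplyPretransitive hG hgc hg (by rw [hgp]; norm_num) (n := 1) (by omega)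
  by_cases h5 : 5 ∣ Nat.card G
  · exact alt_le_of_thirteen_of_five h hG h3 h5
  exfalso
  have hGA : Nat.card G ∣ Nat.factorial 13 / 2 := by
    rw [← card_alt h (by norm_num)]; exact Subgroup.card_dvd_of_le hA
  have h121 : ¬ 11 * 11 ∣ Nat.card G := fun h' => absurd (h'.trans hGA) (by decide)
  let g' : G := ⟨g, hg⟩
  set P := zpowers g' with hP
  have hPc : Nat.card P = 11 := by rw [Nat.card_zpowers, orderOf_mk, hgc.orderOf, hgp]
  have hPp : IsPGroup 11 P := IsPGroup.of_card (n := 1) (by rw [hPc, pow_one])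
  have hC : centralizer (P : Set G) ≤ P := by
    intro c hc
    obtain ⟨k, hk⟩ := mem_zpowers_of_commute (c := (c : Perm β)) hgc (by omega)
      (show Commute (c : Perm β) g from (congrArg Subtype.val (hc g' (mem_zpowers g'))).symm)
      (mem_alternatingGroup.1 (hA c.2))
      (mem_alternatingGroup.1 (hA hg))
    exact ⟨k, Subtype.ext hk⟩
  set Γ : Finset β := g.supportᶜ with hΓ
  have hΓc : Γ.card = 2 := by rw [hΓ, Finset.card_compl]; omega
  obtain ⟨a, b, hab, habΓ⟩ := Finset.card_eq_two.1 hΓc
  have haΓ : a ∈ Γ := by simp [habΓ]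
  have hfix : ∀ w ∈ Γ, g w = w := fun w hw => by simpa [hΓ] using hw
  have hPK : P ≤ fixingSubgroup G (Γ : Set β) := zpowers_le.2 ((mem_fixingSubgroup_iff G).2 hfix)
  obtain ⟨g₀, hg₀⟩ := exists_smul_eq_of_injOn_of_le h3 (by rw [Nat.card_eq_fintype_card]; omega)
    Γ (by omega) (swap a b) (Equiv.injective _).injOn
  obtain ⟨t, ht, htτ⟩ := exists_normalizer_agree (p := 11) (Γ : Set β) P hPp hPK
    (fun h' => h121 (by
      have h1 := Grp.card_mul_relIndex hPK
      rw [hPc] at h1
      refine Dvd.dvd.trans ?_ (Subgroup.card_subgroup_dvd_card (fixingSubgroup G (Γ : Set β)))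
      rw [← h1]
      exact Nat.mul_dvd_mul_left 11 h')) g₀ (fun w hw u hu => by
      rw [hg₀ w hw]
      refine (mem_fixingSubgroup_iff G).1 (hPK hu) _ ?_
      have hw' : w ∈ Γ := hw
      rw [habΓ] at hw' ⊢
      rcases Finset.mem_insert.1 hw' with rfl | hw'
      · simp
      · rw [Finset.mem_singleton.1 hw']; simp)
  set H := stabilizer G a with hH
  have htH : t ∉ H := fun h' => hab (by
    have h1 := (htτ a haΓ).trans (hg₀ a haΓ)
    rw [swap_apply_left] at h1
    exact (mem_stabilizer_iff.1 h').symm.trans h1)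
  have hPH : P ≤ H := zpowers_le.2 (hfix a haΓ)
  set N := normalizer (P : Set G) with hN
  have hNH : N ⊓ H ≤ P := by
    have h1 : P.relIndex N ∣ 10 := by
      have h1 := card_range_normalizerMonoidHom_dvd P h11 hPc
      rw [← Subgroup.index_ker, normalizerMonoidHom_ker] at h1
      exact (Subgroup.relIndex_dvd_of_le_left N hC).trans h1
    have h2 : ¬ 5 ∣ P.relIndex N := fun h' => h5
      (h'.trans ((Subgroup.relIndex_dvd_card _ _).trans (Subgroup.card_subgroup_dvd_card N)))
    have h4 := Subgroup.relIndex_mul_relIndex P (N ⊓ H) N (le_inf le_normalizer hPH) inf_le_left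
    have h6 : (N ⊓ H).relIndex N ≠ 1 := fun e => htH (Subgroup.relIndex_eq_one.1 e ht).2
    rw [← Subgroup.relIndex_eq_one]
    have h7 := Nat.le_of_dvd (by norm_num) h1
    generalize P.relIndex N = i at *
    generalize P.relIndex (N ⊓ H) = j at *
    generalize (N ⊓ H).relIndex N = k at *
    have h8 : i = 1 ∨ i = 2 := by interval_cases i <;> omega
    rcases h8 with rfl | rfl
    · exact Nat.eq_one_of_mul_eq_one_right h4
    · rcases (Nat.dvd_prime Nat.prime_two).1 ⟨j, by rw [← h4, mul_comm]⟩ with h9 | h9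
      · exact absurd h9 h6
      · rw [h9] at h4; omega
  have hPi : ¬ 11 ∣ (P.subgroupOf H).index := fun h' => h121 (by
    have h1 := Grp.card_mul_relIndex hPH
    rw [hPc] at h1
    refine Dvd.dvd.trans ?_ (Subgroup.card_subgroup_dvd_card H)
    rw [← h1]
    exact Nat.mul_dvd_mul_left 11 h')
  let S : Sylow 11 H := (hPp.comap_subtype (K := H)).toSylow hPi
  have hS : (S : Subgroup H) = P.subgroupOf H := rfl
  have hcomm : IsMulCommutative P := inferInstance
  obtain ⟨M, hMn, hM⟩ : ∃ M : Subgroup H, M.Normal ∧ M.IsComplement' S := by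
    refine ⟨_, inferInstance, MonoidHom.ker_transferSylow_isComplement' S ?_⟩
    intro x hx y hy
    have hx' : x ∈ normalizer ((P.subgroupOf H : Subgroup H) : Set H) := hx
    rw [← Subgroup.subgroupOf_normalizer_eq hPH] at hx'
    exact Subtype.ext (setLike_mul_comm (s := P) hy (hNH ⟨hx', x.2⟩))
  have hSc : Nat.card S = 11 := by rw [hS, Grp.card_subgroupOf_of_le hPH, hPc]
  have hcop : (Nat.card S).Coprime (Nat.card M) := by
    rw [← hM.index_eq_card]; exact S.card_coprime_index
  have h2M : 2 ∣ Nat.card M := by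
    have h1 := descFactorial_dvd_card G β 3 h3 (by rw [Nat.card_eq_fintype_card]; omega)
    have h2 := H.card_mul_index
    rw [hH, index_stabilizer_of_transitive, ← hH, ← hM.card_mul_card, hSc] at h2
    rw [Nat.card_eq_fintype_card (α := β), h] at h1 h2
    have h4 : 2 ∣ Nat.card G := Dvd.dvd.trans (by decide) h1
    omega
  obtain ⟨T, hT⟩ := Solv.exists_invariant_sylow (S : Subgroup H) M le_normalizer_of_normal hcop
    (Or.inl (Solv.isSolvable_of_isPGroup S.2)) 2
  set T' := (T : Subgroup M).map M.subtype with hT'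
  have h1 := Grp.ConjCount.card_modEq S.2 (T' : Set H) (fun u hu x hx => (hT hu x).1 hx)
  have h2 : Nat.card {x : H // x ∈ (T' : Set H) ∧ x ∈ centralizer ((S : Subgroup H) : Set H)} = 1 := by
    rw [Nat.card_eq_one_iff_exists]
    refine ⟨⟨1, T'.one_mem, Subgroup.one_mem _⟩, fun x => Subtype.ext ?_⟩
    refine Subgroup.disjoint_def.1 hM.disjoint (map_subtype_le _ x.2.1) (hC fun y hy => ?_)
    exact congrArg Subtype.val (x.2.2 ⟨y, hPH hy⟩ hy)
  obtain ⟨k, hk⟩ := T.2.exists_card_eq
  have h4 : Nat.card (T' : Set H) = 2 ^ k := by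
    rw [← hk, ← Subgroup.card_subtype]; rfl
  have h6 : 2 ^ k ∣ Nat.factorial 13 / 2 := by
    rw [← h4]
    exact ((Subgroup.card_subgroup_dvd_card T').trans (Subgroup.card_subgroup_dvd_card H)).trans hGA
  have h7 : k ≠ 0 := by
    rintro rfl
    have := T.dvd_card_of_dvd_card h2M
    rw [hk] at this
    omega
  have h8 : k ≤ 9 := by
    by_contra h9
    exact absurd ((pow_dvd_pow 2 (by omega : 10 ≤ k)).trans h6) (by decide)
  rw [h2, h4] at h1
  interval_cases k <;> first | exact h7 rfl | exact absurd h1 (by decide)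

end Cfsg.Agent.Perm.Twin
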