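import Mathlib

/-!
# Even permutations as products of two balanced involutions
-/

set_option autoImplicit false
set_option linter.unusedSectionVars false
set_option linter.unusedVariables false

namespace Cfsg.Agent.TwoInv

open Equiv Equiv.Perm Finset

variable {Ω : Type*} [Fintype Ω] [DecidableEq Ω]

theorem disj_swap {s : Perm Ω} {x y : Ω} (hx : s x = x) (hy : s y = y) :
    Perm.Disjoint (swap x y) s := by
  intro z
  by_cases h1 : z = x
  · right; rw [h1, hx]
  by_cases h2 : z = y
  · right; rw [h2, hy]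
  · left; exact swap_apply_of_ne_of_ne h1 h2

theorem card_swap_mul {s : Perm Ω} {x y : Ω} (hxy : x ≠ y) (hx : s x = x) (hy : s y = y) :
    #(swap x y * s).support = #s.support + 2 := by
  rw [(disj_swap hx hy).card_support_mul, card_support_swap hxy, add_comm]

theorem swap_mul_sq {s : Perm Ω} {x y : Ω} (hs : s * s = 1) (hx : s x = x) (hy : s y = y) :
    swap x y * s * (swap x y * s) = 1 := by
  rw [mul_assoc, ← mul_assoc s, ← (disj_swap hx hy).commute.eq, mul_assoc, hs, mul_one,
    swap_mul_self]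

/-- Every permutation is a product of two almost balanced involutions, the first one fixing a
prescribed point. -/
theorem exists_two_inv (n : ℕ) : ∀ g : Perm Ω, #g.support = n → ∀ y : Ω, ∃ s t : Perm Ω,
    s * s = 1 ∧ t * t = 1 ∧ g = s * t ∧ s.support ⊆ g.support ∧ t.support ⊆ g.support ∧ s y = y ∧
      (sign g = 1 → #t.support = #s.support) ∧ (sign g = -1 → #t.support = #s.support + 2) := by
  induction n using Nat.strong_induction_on with | _ n ih => ?_
  intro g hn
  have key : ∀ x, g x ≠ x → ∃ s t : Perm Ω,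
      s * s = 1 ∧ t * t = 1 ∧ g = s * t ∧ s.support ⊆ g.support ∧ t.support ⊆ g.support ∧
      s x = x ∧ (sign g = 1 → #t.support = #s.support) ∧
      (sign g = -1 → #t.support = #s.support + 2) := by
    intro x hx
    obtain ⟨s, t, h1, h2, h3, h4, h5, h6, h7, h8⟩ :=
      ih _ (hn ▸ card_support_swap_mul hx) _ rfl (g x)
    have sub : (swap x (g x) * g).support ⊆ g.support := fun z hz =>
      (mem_support_swap_mul_imp_mem_support_ne hz).1
    have nx : x ∉ (swap x (g x) * g).support := by simp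
    have sx : s x = x := notMem_support.1 fun h => nx (h4 h)
    have tx : t x = x := notMem_support.1 fun h => nx (h5 h)
    have ti : t⁻¹ = t := inv_eq_of_mul_eq_one_right h2
    have e : g = swap x (g x) * s * t := by
      rw [mul_assoc, ← h3, ← mul_assoc, swap_mul_self, one_mul]
    have c : #(t * (swap x (g x) * s) * t⁻¹).support = #s.support + 2 := by
      rw [card_support_conj, card_swap_mul hx.symm sx h6]
    have sg : sign (swap x (g x) * g) = -sign g := by
      rw [Perm.sign_mul, sign_swap hx.symm, neg_one_mul]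
    refine ⟨t, t * (swap x (g x) * s) * t⁻¹, h2, ?_, ?_, h5.trans sub, ?_, tx, fun h => ?_,
      fun h => ?_⟩
    · rw [conj_mul, swap_mul_sq h1 sx h6]; simp
    · rw [← mul_assoc, ← mul_assoc, h2, one_mul, ti]; exact e
    · have : t * (swap x (g x) * s) * t⁻¹ = t * g := by
        rw [ti, mul_assoc, ← e]
      rw [this]
      exact (support_mul_le t g).trans (sup_le (h5.trans sub) le_rfl)
    · rw [c, h8 (by rw [sg, h])]
    · rw [c, h7 (by rw [sg, h, neg_neg])]
  intro y
  by_cases hy : g y = y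
  · by_cases h1 : g = 1
    · refine ⟨1, 1, by simp, by simp, by simp [h1], by simp, by simp, rfl, fun _ => rfl, fun h => ?_⟩
      rw [h1, map_one] at h
      exact absurd h (by decide)
    · obtain ⟨x, hx⟩ : ∃ x, g x ≠ x := by
        by_contra h; push Not at h; exact h1 (Equiv.ext h)
      obtain ⟨s, t, h1, h2, h3, h4, h5, -, h7, h8⟩ := key x hx
      exact ⟨s, t, h1, h2, h3, h4, h5,
        notMem_support.1 fun h => (mem_support.1 (h4 h)) hy, h7, h8⟩
  · exact key y hy

theorem isConj_of_inv {s t : Perm Ω} (hs : s * s = 1) (ht : t * t = 1)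
    (h : #t.support = #s.support) : IsConj s t := by
  have : Fact (Nat.Prime 2) := ⟨Nat.prime_two⟩
  have e1 := cycleType_of_pow_prime_eq_one (p := 2) (σ := s) (by rw [pow_two, hs])
  have e2 := cycleType_of_pow_prime_eq_one (p := 2) (σ := t) (by rw [pow_two, ht])
  have f1 := sum_cycleType s
  have f2 := sum_cycleType t
  rw [e1, Multiset.sum_replicate, smul_eq_mul] at f1
  rw [e2, Multiset.sum_replicate, smul_eq_mul] at f2
  apply isConj_of_cycleType_eq
  rw [e1, e2]
  congr 1
  omega

/-- `σ` has two distinct `2`-cycles `(a b)`, `(c d)`. -/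
def Two (σ : Perm Ω) (a b c d : Ω) : Prop :=
  [a, b, c, d].Nodup ∧ σ a = b ∧ σ b = a ∧ σ c = d ∧ σ d = c

theorem exists_two {s : Perm Ω} (hs : s * s = 1) (h1 : s ≠ 1) (he : sign s = 1) :
    ∃ a b c d, Two s a b c d := by
  have ss : ∀ x, s (s x) = x := fun x => by rw [← mul_apply, hs, one_apply]
  obtain ⟨a, ha⟩ : ∃ x, s x ≠ x := by
    by_contra h; push Not at h; exact h1 (Equiv.ext h)
  obtain ⟨c, h2, h3, h4⟩ : ∃ c, c ≠ a ∧ c ≠ s a ∧ s c ≠ c := by
    by_contra h
    push Not at h
    have : s = swap a (s a) := by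
      ext z
      by_cases k1 : z = a
      · rw [k1, swap_apply_left]
      by_cases k2 : z = s a
      · rw [k2, swap_apply_right, ss]
      · rw [swap_apply_of_ne_of_ne k1 k2, h z k1 k2]
    rw [this, sign_swap ha.symm] at he
    exact absurd he (by decide)
  refine ⟨a, s a, c, s c, ?_, rfl, ss a, rfl, ss c⟩
  have k1 : s c ≠ a := fun h => h3 (by rw [← h, ss])
  have k2 : s c ≠ s a := fun h => h2 (s.injective h)
  simp [ha.symm, h2.symm, h3.symm, h4.symm, k1.symm, k2.symm]

/-- The conclusion we want for an even permutation. -/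
def Good (g : Perm Ω) : Prop :=
  ∃ σ σ' : Perm Ω, ∃ a b c d, Two σ a b c d ∧ sign σ = 1 ∧ g = σ * σ' ∧ IsConj σ⁻¹ σ'

theorem good_of_even {s t : Perm Ω} (hs : s * s = 1) (ht : t * t = 1)
    (h : #t.support = #s.support) (h1 : s ≠ 1) (he : sign s = 1) : Good (s * t) := by
  obtain ⟨a, b, c, d, h2⟩ := exists_two hs h1 he
  exact ⟨s, t, a, b, c, d, h2, he, rfl, by
    rw [inv_eq_of_mul_eq_one_right hs]; exact isConj_of_inv hs ht h⟩

theorem good_of_fix {s t : Perm Ω} (hs : s * s = 1) (ht : t * t = 1)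
    (h : #t.support = #s.support) (he : sign s = -1) {i j : Ω} (hij : i ≠ j) (h1 : s i = i)
    (h2 : s j = j) (h3 : t i = i) (h4 : t j = j) : Good (s * t) := by
  have e : s * t = (swap i j * s) * (swap i j * t) := by
    rw [(disj_swap h1 h2).commute.eq, mul_assoc, ← mul_assoc (swap i j), swap_mul_self, one_mul]
  rw [e]
  refine good_of_even (swap_mul_sq hs h1 h2) (swap_mul_sq ht h3 h4)
    (by rw [card_swap_mul hij h1 h2, card_swap_mul hij h3 h4, h]) (fun h0 => ?_)
    (by rw [Perm.sign_mul, he, sign_swap hij]; simp)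
  have := congrArg (fun f : Perm Ω => f i) h0
  simp [h1] at this
  exact hij this.symm

/-- Splitting off a `2`-cycle from an involution. -/
theorem split {s : Perm Ω} (hs : s * s = 1) {j : Ω} (hj : s j ≠ j) : ∃ r : Perm Ω,
    r * r = 1 ∧ r j = j ∧ r (s j) = s j ∧ s = swap j (s j) * r ∧ #s.support = #r.support + 2 ∧
      ∀ x, x ≠ j → x ≠ s j → r x = s x := by
  have ss : ∀ x, s (s x) = x := fun x => by rw [← mul_apply, hs, one_apply]
  have k : ∀ x, x ≠ j → x ≠ s j → (swap j (s j) * s) x = s x := fun x h1 h2 =>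
    swap_apply_of_ne_of_ne (fun h => h2 (by rw [← h, ss])) fun h => h1 (s.injective h)
  have a1 : (swap j (s j) * s) j = j := by simp
  have a2 : (swap j (s j) * s) (s j) = s j := by simp [ss]
  have e : s = swap j (s j) * (swap j (s j) * s) := by rw [← mul_assoc, swap_mul_self, one_mul]
  refine ⟨swap j (s j) * s, ?_, a1, a2, e, ?_, k⟩
  · have c := (disj_swap a1 a2).commute
    have : s * s = swap j (s j) * (swap j (s j) * s) * (swap j (s j) * (swap j (s j) * s)) := by
      rw [← e]
    rw [mul_assoc, ← mul_assoc (swap j (s j) * s), ← c.eq, mul_assoc, ← mul_assoc (swap j (s j)),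
      swap_mul_self, one_mul, hs] at this
    exact this.symm
  · rw [← card_swap_mul hj.symm a1 a2, ← e]

theorem three_form {s : Perm Ω} (hs : s * s = 1) {i j : Ω} (hi : s i = i) (hj : s j ≠ j) :
    ∃ r c : Perm Ω, r * r = 1 ∧ IsThreeCycle c ∧ Perm.Disjoint r c ∧ s * swap i j = r * c ∧
      #s.support = #r.support + 2 ∧ sign r = -sign s := by
  obtain ⟨r, h1, h2, h3, h4, h5, h6⟩ := split hs hj
  have ij : i ≠ j := fun h => hj (h ▸ hi)
  have ij' : i ≠ s j := fun h => ij (s.injective (hi.trans h))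
  have ri : r i = i := by rw [h6 i ij ij', hi]
  refine ⟨r, swap j (s j) * swap j i, h1, isThreeCycle_swap_mul_swap_same hj.symm ij.symm ij'.symm,
    ((disj_swap h2 h3).symm).mul_right (disj_swap h2 ri).symm, ?_, h5, ?_⟩
  · rw [← mul_assoc, ← (disj_swap h2 h3).commute.eq, ← h4, swap_comm i j]
  · conv_rhs => rw [h4]
    rw [Perm.sign_mul, sign_swap hj.symm]; simp

theorem good_of_odd {s t : Perm Ω} (hs : s * s = 1) (ht : t * t = 1)
    (h : #t.support = #s.support) (he : sign s = -1) (h2 : #s.support ≠ 2) {i j : Ω}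
    (hi : s i = i) (hj : s j ≠ j) (hc : (t i = i ∧ t j ≠ j) ∨ (t j = j ∧ t i ≠ i)) :
    Good (s * t) := by
  obtain ⟨r, c, a1, a2, a3, a4, a5, a6⟩ := three_form hs hi hj
  obtain ⟨r', c', b1, b2, b3, b4, b5⟩ : ∃ r c : Perm Ω, r * r = 1 ∧ IsThreeCycle c ∧
      Perm.Disjoint r c ∧ t * swap i j = r * c ∧ #t.support = #r.support + 2 := by
    rcases hc with ⟨k1, k2⟩ | ⟨k1, k2⟩
    · obtain ⟨r, c, b1, b2, b3, b4, b5, -⟩ := three_form ht k1 k2
      exact ⟨r, c, b1, b2, b3, b4, b5⟩
    · obtain ⟨r, c, b1, b2, b3, b4, b5, -⟩ := three_form ht k1 k2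
      exact ⟨r, c, b1, b2, b3, swap_comm i j ▸ b4, b5⟩
  have ij : i ≠ j := fun h => hj (h ▸ hi)
  obtain ⟨a, b, u, v, k0, k1, k2, k3, k4⟩ := exists_two a1 (fun h0 => h2 (by simp [a5, h0]))
    (by rw [a6, he, neg_neg])
  have mv : ∀ x y, x ≠ y → r x = y → (r * c) x = y := fun x y hxy e => by
    rcases a3 x with k | k
    · exact absurd (k.symm.trans e) hxy
    · rw [mul_apply, k, e]
  have k0' := k0
  simp only [List.nodup_cons, List.mem_cons, not_or] at k0'
  refine ⟨s * swap i j, swap i j * t, a, b, u, v, ⟨k0, ?_, ?_, ?_, ?_⟩, ?_, ?_, ?_⟩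
  · rw [a4]; exact mv _ _ k0'.1.1 k1
  · rw [a4]; exact mv _ _ (Ne.symm k0'.1.1) k2
  · rw [a4]; exact mv _ _ k0'.2.2.1.1 k3
  · rw [a4]; exact mv _ _ (Ne.symm k0'.2.2.1.1) k4
  · rw [Perm.sign_mul, he, sign_swap ij]; simp
  · rw [mul_assoc, ← mul_assoc (swap i j), swap_mul_self, one_mul]
  · have e : swap i j * t = (t * swap i j)⁻¹ := by
      rw [mul_inv_rev, swap_inv, inv_eq_of_mul_eq_one_right ht]
    rw [e, a4, b4]
    have := Perm.Disjoint.isConj_mul (isConj_of_inv a1 b1 (by omega))
      (isConj_of_cycleType_eq (a2.cycleType.trans b2.cycleType.symm)) a3 b3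
    obtain ⟨g, hg⟩ := isConj_iff.1 this
    exact isConj_iff.2 ⟨g, by rw [← hg]; group⟩

theorem card_dbl {a b c d : Ω} (h : [a, b, c, d].Nodup) :
    #(swap a b * swap c d).support = 4 := by
  have h' := h
  simp only [List.nodup_cons, List.mem_cons, not_or] at h'
  rw [(disjoint_swap_swap h).card_support_mul, card_support_swap h'.1.1,
    card_support_swap h'.2.2.1.1]

theorem dbl_sq {a b c d : Ω} (h : [a, b, c, d].Nodup) :
    swap a b * swap c d * (swap a b * swap c d) = 1 := by
  rw [mul_assoc, ← mul_assoc (swap c d), ← (disjoint_swap_swap h).commute.eq, mul_assoc,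
    swap_mul_self, mul_one, swap_mul_self]

theorem klein {a b c d : Ω} (h : [a, b, c, d].Nodup) :
    swap a b * swap c d * (swap a c * swap b d) = swap a d * swap b c := by
  ext x
  simp only [List.nodup_cons, List.mem_cons, not_or] at h
  simp only [mul_apply, swap_apply_def]
  grind

theorem exists_two_not_mem {S : Finset Ω} (h : #S + 2 ≤ Fintype.card Ω) :
    ∃ i j, i ≠ j ∧ i ∉ S ∧ j ∉ S := by
  obtain ⟨i, hi, j, hj, hij⟩ := Finset.one_lt_card.1
    (show 1 < #Sᶜ by rw [card_compl]; omega)
  exact ⟨i, j, hij, mem_compl.1 hi, mem_compl.1 hj⟩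

theorem good (hn : 5 ≤ Fintype.card Ω) {g : Perm Ω} (hg : sign g = 1) : Good g := by
  obtain ⟨y⟩ : Nonempty Ω := Fintype.card_pos_iff.1 (by omega)
  obtain ⟨s, t, hs, ht, rfl, -, -, hy, h, -⟩ := exists_two_inv _ g rfl y
  replace h := h hg
  rcases Int.units_eq_one_or (sign s) with he | he
  · by_cases h1 : s = 1
    · have h2 : t = 1 := by rw [← support_eq_empty_iff, ← card_eq_zero, h, h1]; simp
      obtain ⟨a, b, ab, -, -⟩ := exists_two_not_mem (S := (∅ : Finset Ω)) (by simp; omega)
      obtain ⟨c, d, cd, hc, hd⟩ := exists_two_not_mem (S := {a, b})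
        (by have := card_le_two (a := a) (b := b); omega)
      simp only [mem_insert, mem_singleton, not_or] at hc hd
      have := good_of_fix (swap_mul_self a b) (swap_mul_self a b) rfl (sign_swap ab) cd
        (swap_apply_of_ne_of_ne hc.1 hc.2) (swap_apply_of_ne_of_ne hd.1 hd.2)
        (swap_apply_of_ne_of_ne hc.1 hc.2) (swap_apply_of_ne_of_ne hd.1 hd.2)
      rw [swap_mul_self] at this
      rwa [h1, h2, one_mul]
    · exact good_of_even hs ht h h1 he
  by_cases h2 : #s.support = 2
  · obtain ⟨a, b, ab, rfl⟩ := card_support_eq_two.1 h2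
    obtain ⟨c, d, cd, rfl⟩ := card_support_eq_two.1 (h.trans h2)
    by_cases nd : [a, b, c, d].Nodup
    · have n1 : [a, c, b, d].Nodup := by grind
      have n2 : [a, d, b, c].Nodup := by grind
      have e : swap a b * swap c d = (swap a d * swap b c) * (swap a c * swap b d) := by
        rw [← klein nd, mul_assoc, dbl_sq n1, mul_one]
      rw [e]
      refine good_of_even (dbl_sq n2) (dbl_sq n1) (by rw [card_dbl n1, card_dbl n2])
        (fun h0 => by have := card_dbl n2; rw [h0] at this; simp at this) ?_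
      rw [Perm.sign_mul, sign_swap (by grind), sign_swap (by grind)]; simp
    · obtain ⟨i, j, ij, hi, hj⟩ := exists_two_not_mem (S := {a, b, c, d}) (by
        have : #({a, b, c, d} : Finset Ω) ≤ 3 := by
          have : a = c ∨ a = d ∨ b = c ∨ b = d := by grind
          rcases this with rfl | rfl | rfl | rfl
          · exact (card_le_card (t := {a, b, d}) (by grind)).trans card_le_three
          · exact (card_le_card (t := {a, b, c}) (by grind)).trans card_le_three
          · exact (card_le_card (t := {a, b, d}) (by grind)).trans card_le_three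
          · exact (card_le_card (t := {a, b, c}) (by grind)).trans card_le_three
        omega)
      simp only [mem_insert, mem_singleton, not_or] at hi hj
      exact good_of_fix hs ht h he ij (swap_apply_of_ne_of_ne hi.1 hi.2.1)
        (swap_apply_of_ne_of_ne hj.1 hj.2.1) (swap_apply_of_ne_of_ne hi.2.2.1 hi.2.2.2)
        (swap_apply_of_ne_of_ne hj.2.2.1 hj.2.2.2)
  by_cases e : s.support = t.support
  · obtain ⟨j, hj⟩ : ∃ x, s x ≠ x := by
      by_contra h; push Not at h
      rw [show s = 1 from Equiv.ext h, map_one] at he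
      exact absurd he (by decide)
    exact good_of_odd hs ht h he h2 hy hj (Or.inl ⟨notMem_support.1 (e ▸ notMem_support.2 hy),
      mem_support.1 (e ▸ mem_support.2 hj)⟩)
  · obtain ⟨j, j1, j2⟩ := not_subset.1 fun k => e (eq_of_subset_of_card_le k h.le)
    obtain ⟨i, i1, i2⟩ := not_subset.1 fun k => e (eq_of_subset_of_card_le k h.ge).symm
    exact good_of_odd hs ht h he h2 (notMem_support.1 i2) (mem_support.1 j1)
      (Or.inr ⟨notMem_support.1 j2, mem_support.1 i1⟩)

end Cfsg.Agent.TwoInv
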